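import Mathlib

/-!
# Subgroups of index `p` from homomorphisms to `p`-groups; index-two coset arithmetic
-/

set_option autoImplicit false

namespace Cfsg.Agent.Lib.Helper55

/-- A homomorphism to a finite `p`-group with nontrivial image yields a subgroup of index `p`. -/
theorem exists_index_eq_prime_of_hom {G A : Type*} [Group G] [Group A] [Finite A] {p : ℕ}
    [hp : Fact p.Prime] (hA : IsPGroup p A) (V : G →* A) (g : G) (hg : V g ≠ 1) :
    ∃ H : Subgroup G, H.index = p := by
  classical
  have hQ : IsPGroup p V.range := hA.to_subgroup _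
  obtain ⟨k, hk⟩ := hQ.exists_card_eq
  have hk1 : k ≠ 0 := by
    rintro rfl
    rw [pow_zero] at hk
    have hbot : V.range = ⊥ := Subgroup.card_eq_one.mp hk
    have : V g ∈ V.range := ⟨g, rfl⟩
    rw [hbot, Subgroup.mem_bot] at this
    exact hg this
  obtain ⟨K, hK⟩ := Sylow.exists_subgroup_card_pow_prime (G := V.range) p (n := k - 1)
    (by rw [hk]; exact pow_dvd_pow p (Nat.sub_le k 1))
  refine ⟨K.comap V.rangeRestrict, ?_⟩
  rw [Subgroup.index_comap_of_surjective _ V.rangeRestrict_surjective]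
  have h := K.index_mul_card
  rw [hK, hk] at h
  have hk' : p ^ k = p * p ^ (k - 1) := by
    rw [← pow_succ']
    congr 1
    omega
  rw [hk'] at h
  exact Nat.eq_of_mul_eq_mul_right (pow_pos hp.out.pos _) h

/-- If `F ≤ E` with `|E| = 2 |F|`, two elements of `E` outside `F` differ by an element of `F`. -/
theorem mul_inv_mem_of_card_eq_two_mul {G : Type*} [Group G] [Finite G] (E F : Subgroup G)
    (hFE : F ≤ E) (hcard : Nat.card E = 2 * Nat.card F) {a b : G} (ha : a ∈ E) (hb : b ∈ E)
    (haF : a ∉ F) (hbF : b ∉ F) : a * b⁻¹ ∈ F := by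
  have hidx : (F.subgroupOf E).index = 2 := by
    have h1 := (F.subgroupOf E).index_mul_card
    have h2 : Nat.card (F.subgroupOf E) = Nat.card F := by
      rw [Nat.card_congr (Subgroup.subgroupOfEquivOfLe hFE).toEquiv]
    rw [h2, hcard] at h1
    have hpos : 0 < Nat.card F := Nat.card_pos
    exact Nat.eq_of_mul_eq_mul_right hpos h1
  have h := Subgroup.mul_mem_iff_of_index_two hidx (a := (⟨a, ha⟩ : E)) (b := (⟨b, hb⟩⁻¹ : E))
  have h3 : (⟨a, ha⟩ : E) * (⟨b, hb⟩ : E)⁻¹ ∈ F.subgroupOf E := by
    rw [h]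
    constructor
    · intro h4; exact absurd (Subgroup.mem_subgroupOf.mp h4) haF
    · intro h4
      rw [inv_mem_iff] at h4
      exact absurd (Subgroup.mem_subgroupOf.mp h4) hbF
  simpa [Subgroup.mem_subgroupOf] using h3

end Cfsg.Agent.Lib.Helper55
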