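import Mathlib

/-!
# Evaluation of the transfer on an element whose conjugate powers are controlled

`transfer_eq_pow_index`: if `g ∈ H` and every conjugate `g₀⁻¹ g^k g₀ ∈ H` has the same image as `g^k`
under `ϕ : H →* A` (A commutative), then `transfer ϕ g = ϕ g ^ H.index`.
-/

set_option autoImplicit false

namespace Cfsg.Agent.Lib.Helper55

open Subgroup MonoidHom

/-- Transfer evaluation: if all conjugates of powers of `g` lying in `H` have the `ϕ`-image of the
corresponding power of `g`, the transfer of `g` is `ϕ g ^ [G:H]`. -/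
theorem transfer_eq_pow_index {G : Type*} [Group G] {H : Subgroup G} [H.FiniteIndex]
    {A : Type*} [CommGroup A] (ϕ : H →* A) (g : G) (hg : g ∈ H)
    (key : ∀ (k : ℕ) (g₀ : G) (hk : g₀⁻¹ * g ^ k * g₀ ∈ H),
      ϕ ⟨g₀⁻¹ * g ^ k * g₀, hk⟩ = ϕ ⟨g, hg⟩ ^ k) :
    transfer ϕ g = ϕ ⟨g, hg⟩ ^ H.index := by
  classical
  let := H.fintypeQuotientOfFiniteIndex
  rw [transfer_eq_prod_quotient_orbitRel_zpowers_quot, index_eq_sum_minimalPeriod H g,
    ← Finset.prod_pow_eq_pow_sum]
  refine Finset.prod_congr rfl (fun q _ => ?_)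
  exact key _ _ _

/-- The commutator subgroup lies in the kernel of any transfer. -/
theorem commutator_le_ker_transfer {G : Type*} [Group G] {H : Subgroup G} [H.FiniteIndex]
    {A : Type*} [CommGroup A] (ϕ : H →* A) : commutator G ≤ (transfer ϕ).ker :=
  Abelianization.commutator_subset_ker _

/-- If `x` has `p`-power order, `n` is coprime to `p` and `x ^ n = 1`, then `x = 1`. -/
theorem eq_one_of_pow_eq_one_of_coprime {A : Type*} [Monoid A] {p n : ℕ} {x : A}
    (hx : ∃ k : ℕ, orderOf x ∣ p ^ k) (hn : Nat.Coprime p n) (h : x ^ n = 1) : x = 1 := by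
  obtain ⟨k, hk⟩ := hx
  have h1 : orderOf x ∣ n := orderOf_dvd_of_pow_eq_one h
  have h2 : orderOf x ∣ Nat.gcd (p ^ k) n := Nat.dvd_gcd hk h1
  have h3 : Nat.gcd (p ^ k) n = 1 := Nat.Coprime.pow_left k hn
  rw [h3, Nat.dvd_one] at h2
  exact orderOf_eq_one_iff.mp h2

end Cfsg.Agent.Lib.Helper55
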