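import Mathlib.GroupTheory.Sylow
import Mathlib.GroupTheory.Solvable
import Mathlib.GroupTheory.Nilpotent
import Mathlib.GroupTheory.Subgroup.Centralizer
import Mathlib.GroupTheory.GroupAction.ConjAct
import Cfsg.Prelude.Def_Solvable

/-!
# Basic API for the cores `O_p(G)`, `O_{p'}(G)` of `Cfsg.Prelude.Def_Solvable`
and the Hall–Higman lemma 1.2.3 for solvable groups.
-/

set_option autoImplicit false

namespace Cfsg.Agent.Lib.Helper55

open Cfsg

section Cores

variable {G : Type*} [Group G]

theorem pPrimeCore_normal' (p : ℕ) : (pPrimeCore p G).Normal :=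
  Subgroup.sSup_normal _ (fun _ h => h.1)

theorem pCore_normal' (p : ℕ) : (pCore p G).Normal :=
  Subgroup.sSup_normal _ (fun _ h => h.1)

theorem le_pPrimeCore {p : ℕ} {N : Subgroup G} (hN : N.Normal) (hc : (Nat.card N).Coprime p) :
    N ≤ pPrimeCore p G :=
  le_sSup ⟨hN, hc⟩

theorem le_pCore {p : ℕ} {N : Subgroup G} (hN : N.Normal) (hc : IsPGroup p N) :
    N ≤ pCore p G :=
  le_sSup ⟨hN, hc⟩

/-- The order of a join of two subgroups, one of them normal, divides the product of the orders. -/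
theorem card_sup_dvd_mul [Finite G] (H K : Subgroup G) [K.Normal] :
    Nat.card ↥(H ⊔ K) ∣ Nat.card H * Nat.card K := by
  have h1 : Nat.card K * K.relIndex (H ⊔ K) = Nat.card ↥(H ⊔ K) := by
    have := Subgroup.relIndex_mul_relIndex (H := ⊥) (K := K) (L := H ⊔ K) bot_le le_sup_right
    rwa [Subgroup.relIndex_bot_left, Subgroup.relIndex_bot_left] at this
  rw [Subgroup.relIndex_sup_right] at h1
  rw [← h1, mul_comm]
  exact Nat.mul_dvd_mul_right (Subgroup.relIndex_dvd_card K H) _

theorem coprime_card_sSup_of_normal [Finite G] (p : ℕ) (S : Set (Subgroup G))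
    (hS : ∀ N ∈ S, N.Normal ∧ (Nat.card N).Coprime p) :
    (sSup S).Normal ∧ (Nat.card ↥(sSup S)).Coprime p := by
  have hfin : S.Finite := Set.toFinite S
  induction S, hfin using Set.Finite.induction_on with
  | empty =>
    rw [sSup_empty]
    exact ⟨Subgroup.normal_bot, by simp⟩
  | insert ha hs ih =>
    rename_i a s
    rw [sSup_insert]
    obtain ⟨h1, h2⟩ := ih (fun N hN => hS N (Set.mem_insert_of_mem _ hN))
    obtain ⟨h3, h4⟩ := hS a (Set.mem_insert _ _)
    refine ⟨Subgroup.sup_normal a (sSup s), ?_⟩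
    exact Nat.Coprime.coprime_dvd_left (card_sup_dvd_mul a (sSup s)) (Nat.Coprime.mul_left h4 h2)

theorem card_pPrimeCore_coprime [Finite G] (p : ℕ) : (Nat.card ↥(pPrimeCore p G)).Coprime p :=
  (coprime_card_sSup_of_normal p _ (fun _ h => h)).2

theorem isPGroup_pCore (p : ℕ) [Fact p.Prime] : IsPGroup p ↥(pCore p G) :=
  Sylow.sSup_of_normal _ (fun _ h => h.2) (fun _ h => h.1)

theorem pCore_le_sylow {p : ℕ} [Fact p.Prime] (P : Sylow p G) : pCore p G ≤ P :=
  haveI := pCore_normal' (G := G) p
  (isPGroup_pCore p).le_sylow_of_normal P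

/-- `O_{p'}(G / O_{p'}(G)) = 1`. -/
theorem pPrimeCore_quotient_pPrimeCore [Finite G] (p : ℕ) [hn : (pPrimeCore p G).Normal] :
    pPrimeCore p (G ⧸ pPrimeCore p G) = ⊥ := by
  refine sSup_eq_bot.mpr ?_
  rintro M ⟨hMn, hMc⟩
  set N := pPrimeCore p G with hNdef
  set π := QuotientGroup.mk' N with hπ
  have hsurj : Function.Surjective π := QuotientGroup.mk'_surjective _
  have h1 : (M.comap π).Normal := hMn.comap π
  have h2 : Nat.card ↥(M.comap π) = Nat.card ↥N * Nat.card ↥M :=
    QuotientGroup.card_preimage_mk N (M : Set (G ⧸ N))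
  have h3 : (Nat.card ↥(M.comap π)).Coprime p := by
    rw [h2]
    exact Nat.Coprime.mul_left (card_pPrimeCore_coprime p) hMc
  have h4 : M.comap π ≤ N := le_pPrimeCore h1 h3
  rw [eq_bot_iff]
  intro m hm
  obtain ⟨g, rfl⟩ := hsurj m
  have hg : g ∈ N := h4 hm
  rw [Subgroup.mem_bot]
  exact (QuotientGroup.eq_one_iff g).mpr hg

end Cores

section HallHigman

variable {G : Type*} [Group G] [Finite G]

/-- In a finite solvable group every nontrivial normal subgroup contains a nontrivial abelian
normal subgroup of the whole group. -/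
theorem exists_normal_abelian_le [Group.IsSolvable G] (K : Subgroup G) (hK : K.Normal)
    (hne : K ≠ ⊥) :
    ∃ A : Subgroup G, A.Normal ∧ A ≠ ⊥ ∧ A ≤ K ∧ ⁅A, A⁆ = ⊥ := by
  obtain ⟨A, ⟨hAn, hAne, hAK⟩, hmin⟩ := exists_minimal_of_wellFoundedLT
    (fun A : Subgroup G => A.Normal ∧ A ≠ ⊥ ∧ A ≤ K) ⟨K, hK, hne, le_rfl⟩
  refine ⟨A, hAn, hAne, hAK, ?_⟩
  by_contra hc
  have hlt : ⁅A, A⁆ < A := Group.IsSolvable.commutator_lt_of_ne_bot hAne
  have hn : (⁅A, A⁆).Normal := Subgroup.commutator_normal A A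
  have := hmin ⟨hn, hc, hlt.le.trans hAK⟩ hlt.le
  exact (lt_of_lt_of_le hlt this).false

/-- a finite group all of whose Sylow `q`-subgroups, `q ≠ p`, are trivial is a `p`-group -/
theorem isPGroup_of_sylow_eq_bot (p : ℕ) [Fact p.Prime]
    (h : ∀ q : ℕ, q.Prime → q ≠ p → ∀ Q : Sylow q G, (Q : Subgroup G) = ⊥) : IsPGroup p G := by
  have hcard : Nat.card G = p ^ (Nat.card G).primeFactorsList.length := by
    apply Nat.eq_prime_pow_of_unique_prime_dvd Nat.card_pos.ne'
    intro q hq hdvd
    by_contra hqp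
    have : Fact q.Prime := ⟨hq⟩
    obtain ⟨Q⟩ : Nonempty (Sylow q G) := inferInstance
    exact Q.ne_bot_of_dvd_card hdvd (h q hq hqp Q)
  exact IsPGroup.of_card hcard

/-- **Hall–Higman Lemma 1.2.3** (solvable case): if `G` is a finite solvable group with
`O_{p'}(G) = 1`, then `C_G(O_p(G)) ≤ O_p(G)`. -/
theorem centralizer_pCore_le [Group.IsSolvable G] (p : ℕ) [Fact p.Prime]
    (h : pPrimeCore p G = ⊥) :
    Subgroup.centralizer (pCore p G : Set G) ≤ pCore p G := by
  set P := pCore p G with hP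
  have hPn : P.Normal := pCore_normal' p
  have hPp : IsPGroup p P := isPGroup_pCore p
  set C := Subgroup.centralizer (P : Set G) with hC
  have hCn : C.Normal := Subgroup.normal_centralizer
  by_contra hCP
  set π := QuotientGroup.mk' P with hπ
  have hsurj : Function.Surjective π := QuotientGroup.mk'_surjective _
  have hKn : (C.map π).Normal := hCn.map π hsurj
  have hKne : C.map π ≠ ⊥ := by
    intro hbot
    apply hCP
    intro c hc
    have : π c ∈ C.map π := Subgroup.mem_map_of_mem π hc
    rw [hbot, Subgroup.mem_bot] at this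
    exact (QuotientGroup.eq_one_iff c).mp this
  obtain ⟨A, hAn, hAne, hAK, hAab⟩ := exists_normal_abelian_le (C.map π) hKn hKne
  set B := A.comap π ⊓ C with hB
  have hBn : B.Normal := Subgroup.normal_inf_normal _ _
  have hBC : B ≤ C := inf_le_right
  have hBmap : B.map π = A := by
    apply le_antisymm
    · rw [Subgroup.map_le_iff_le_comap]; exact inf_le_left
    · intro a ha
      obtain ⟨c, hc, rfl⟩ := hAK ha
      exact ⟨c, ⟨ha, hc⟩, rfl⟩
  -- `B` is nilpotent
  have hAcomm : ∀ a ∈ A, ∀ b ∈ A, a * b = b * a := by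
    have := Subgroup.commutator_eq_bot_iff_le_centralizer.mp hAab
    intro a ha b hb
    exact (Subgroup.mem_centralizer_iff.mp (this ha) b hb).symm
  have hnilA : Group.IsNilpotent ↥(B.map π) := by
    rw [hBmap]
    let : CommGroup ↥A :=
      { (inferInstance : Group ↥A) with
        mul_comm := fun a b => Subtype.ext (hAcomm a a.2 b b.2) }
    exact CommGroup.isNilpotent
  have hker : (π.subgroupMap B).ker ≤ Subgroup.center ↥B := by
    intro b hb
    rw [MonoidHom.mem_ker] at hb
    have hbP : (b : G) ∈ P := by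
      have h1 : π (b : G) = 1 := congrArg Subtype.val hb
      exact (QuotientGroup.eq_one_iff (b : G)).mp h1
    rw [Subgroup.mem_center_iff]
    intro b'
    apply Subtype.ext
    have hb'C : (b' : G) ∈ C := hBC b'.2
    exact (Subgroup.mem_centralizer_iff.mp hb'C (b : G) hbP).symm
  have hnilB : Group.IsNilpotent ↥B := Subgroup.isNilpotent_of_ker_le_center (π.subgroupMap B) hker
  -- every Sylow `q`-subgroup of `B`, `q ≠ p`, is trivial
  have hBp : IsPGroup p ↥B := by
    apply isPGroup_of_sylow_eq_bot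
    intro q hq hqp Q
    have : Fact q.Prime := ⟨hq⟩
    have hQchar : (Q : Subgroup ↥B).Characteristic := Sylow.characteristic_of_normal Q inferInstance
    have hQn : ((Q : Subgroup ↥B).map B.subtype).Normal := ConjAct.normal_of_characteristic_of_normal
    have hQcard : Nat.card ↥((Q : Subgroup ↥B).map B.subtype) = Nat.card ↥(Q : Subgroup ↥B) :=
      Subgroup.card_map_of_injective B.subtype_injective
    have hQcop : (Nat.card ↥((Q : Subgroup ↥B).map B.subtype)).Coprime p := by
      rw [hQcard]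
      obtain ⟨k, hk⟩ := Q.2.exists_card_eq
      rw [hk]
      apply Nat.Coprime.pow_left
      exact (Nat.coprime_primes hq Fact.out).mpr hqp
    have hQle : (Q : Subgroup ↥B).map B.subtype ≤ pPrimeCore p G := le_pPrimeCore hQn hQcop
    rw [h, le_bot_iff] at hQle
    exact (Subgroup.map_eq_bot_iff_of_injective _ B.subtype_injective).mp hQle
  have hBp' : IsPGroup p ↥B := hBp
  have hBP : B ≤ P := le_pCore hBn hBp'
  apply hAne
  rw [← hBmap, eq_bot_iff]
  rintro _ ⟨b, hb, rfl⟩
  rw [Subgroup.mem_bot]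
  exact (QuotientGroup.eq_one_iff b).mpr (hBP hb)

end HallHigman

end Cfsg.Agent.Lib.Helper55
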