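import Cfsg.Agent.Lib.Helper55.Cores
import Mathlib.GroupTheory.SpecificGroups.Cyclic

/-!
# More API for cores: characteristic, behaviour under normal subgroups; groups with a
self-centralizing cyclic normal 2-subgroup.
-/

set_option autoImplicit false

namespace Cfsg.Agent.Lib.Helper55

open Cfsg

section Char

variable {G : Type*} [Group G]

theorem pCore_characteristic (p : ℕ) : (pCore p G).Characteristic := by
  rw [Subgroup.characteristic_iff_map_le]
  intro φ
  rw [Subgroup.map_le_iff_le_comap]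
  apply sSup_le
  rintro N ⟨hNn, hNp⟩
  rw [← Subgroup.map_le_iff_le_comap]
  exact le_pCore (hNn.map φ.toMonoidHom φ.surjective) (hNp.map φ.toMonoidHom)

theorem pPrimeCore_characteristic (p : ℕ) : (pPrimeCore p G).Characteristic := by
  rw [Subgroup.characteristic_iff_map_le]
  intro φ
  rw [Subgroup.map_le_iff_le_comap]
  apply sSup_le
  rintro N ⟨hNn, hNp⟩
  rw [← Subgroup.map_le_iff_le_comap]
  refine le_pPrimeCore (hNn.map φ.toMonoidHom φ.surjective) ?_
  rw [Subgroup.card_map_of_injective φ.injective]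
  exact hNp

/-- `O_p(K) ≤ O_p(G)` for `K ⊴ G`. -/
theorem pCore_map_subtype_le (p : ℕ) [Fact p.Prime] (K : Subgroup G) [K.Normal] :
    (pCore p ↥K).map K.subtype ≤ pCore p G := by
  have : (pCore p ↥K).Characteristic := pCore_characteristic p
  have hn : ((pCore p ↥K).map K.subtype).Normal := ConjAct.normal_of_characteristic_of_normal
  exact le_pCore hn ((isPGroup_pCore p).map K.subtype)

/-- `O_{p'}(K) ≤ O_{p'}(G)` for `K ⊴ G`. -/
theorem pPrimeCore_map_subtype_le [Finite G] (p : ℕ) (K : Subgroup G) [K.Normal] :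
    (pPrimeCore p ↥K).map K.subtype ≤ pPrimeCore p G := by
  have : (pPrimeCore p ↥K).Characteristic := pPrimeCore_characteristic p
  have hn : ((pPrimeCore p ↥K).map K.subtype).Normal := ConjAct.normal_of_characteristic_of_normal
  refine le_pPrimeCore hn ?_
  rw [Subgroup.card_map_of_injective K.subtype_injective]
  exact card_pPrimeCore_coprime p

theorem pPrimeCore_eq_bot_of_normal [Finite G] (p : ℕ) (K : Subgroup G) [K.Normal]
    (h : pPrimeCore p G = ⊥) : pPrimeCore p ↥K = ⊥ := by
  have h1 := pPrimeCore_map_subtype_le p K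
  rw [h, le_bot_iff] at h1
  exact (Subgroup.map_eq_bot_iff_of_injective _ K.subtype_injective).mp h1

end Char

section Conj

/-- kernel of the conjugation action on a normal subgroup is its centralizer -/
theorem ker_conjNormal' {Q : Type*} [Group Q] (P : Subgroup Q) [P.Normal] :
    (MulAut.conjNormal (H := P)).ker = Subgroup.centralizer (P : Set Q) := by
  ext g
  rw [MonoidHom.mem_ker, Subgroup.mem_centralizer_iff]
  constructor
  · intro hg h hh
    have := congrArg (fun φ : MulAut ↥P => ((φ ⟨h, hh⟩ : ↥P) : Q)) hg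
    simp only [MulAut.conjNormal_apply, MulAut.one_apply] at this
    calc h * g = (g * h * g⁻¹) * g := by rw [this]
      _ = g * h := by group
  · intro hg
    ext ⟨h, hh⟩
    simp only [MulAut.conjNormal_apply, MulAut.one_apply]
    rw [← hg h hh]; group

/-- If `Z ⊴ Q` is a cyclic `2`-group, then `Q / C_Q(Z)` is a 2-group: the index of the
centralizer is a power of `2`. -/
theorem index_centralizer_cyclic_two_group {Q : Type*} [Group Q] [Finite Q] (Z : Subgroup Q)
    [Z.Normal] (hcyc : IsCyclic ↥Z) (h2 : IsPGroup 2 ↥Z) :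
    ∃ m : ℕ, (Subgroup.centralizer (Z : Set Q)).index = 2 ^ m := by
  have : Fact (Nat.Prime 2) := ⟨Nat.prime_two⟩
  obtain ⟨k, hk⟩ := h2.exists_card_eq
  have hAut : ∃ m, Nat.card (MulAut ↥Z) = 2 ^ m := by
    rw [IsCyclic.card_mulAut, hk]
    rcases Nat.eq_zero_or_pos k with h0 | h0
    · exact ⟨0, by rw [h0]; simp⟩
    · exact ⟨k - 1, by rw [Nat.totient_prime_pow Nat.prime_two h0]; simp⟩
  obtain ⟨m, hm⟩ := hAut
  set f : Q →* MulAut ↥Z := MulAut.conjNormal with hf
  have hker : f.ker = Subgroup.centralizer (Z : Set Q) := ker_conjNormal' Z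
  have hidx : f.ker.index ∣ 2 ^ m := by
    rw [Subgroup.index_ker, ← hm]
    exact Subgroup.card_subgroup_dvd_card f.range
  obtain ⟨a, -, ha⟩ := (Nat.dvd_prime_pow Nat.prime_two).mp hidx
  exact ⟨a, by rw [← hker, ha]⟩

end Conj

section Unified

variable {Q : Type*} [Group Q] [Finite Q]

/-- Let `Q` be a finite solvable group with `O(Q) = 1`, and `Z ≤ O_2(Q)` a cyclic normal subgroup
of `Q` with `C_{O_2(Q)}(Z) ≤ Z`. Then `Q` is a 2-group. -/
theorem isPGroup_two_of_cyclic_normal [Group.IsSolvable Q] (hO : pPrimeCore 2 Q = ⊥)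
    (Z : Subgroup Q) (hZn : Z.Normal) (hZP : Z ≤ pCore 2 Q) (hcyc : IsCyclic ↥Z)
    (hcent : pCore 2 Q ⊓ Subgroup.centralizer (Z : Set Q) ≤ Z) : IsPGroup 2 Q := by
  have : Fact (Nat.Prime 2) := ⟨Nat.prime_two⟩
  set K := Subgroup.centralizer (Z : Set Q) with hK
  have hKn : K.Normal := Subgroup.normal_centralizer
  have hOK : pPrimeCore 2 ↥K = ⊥ := pPrimeCore_eq_bot_of_normal 2 K hO
  have hHH : Subgroup.centralizer (pCore 2 ↥K : Set ↥K) ≤ pCore 2 ↥K := centralizer_pCore_le 2 hOK
  have hcoreK : (pCore 2 ↥K).map K.subtype ≤ Z := by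
    refine le_trans (le_inf (pCore_map_subtype_le 2 K) ?_) hcent
    exact Subgroup.map_subtype_le _
  have htop : (⊤ : Subgroup ↥K) ≤ Subgroup.centralizer (pCore 2 ↥K : Set ↥K) := by
    intro k _
    rw [Subgroup.mem_centralizer_iff]
    intro x hx
    have hxZ : (x : Q) ∈ Z := hcoreK (Subgroup.mem_map_of_mem K.subtype hx)
    apply Subtype.ext
    exact Subgroup.mem_centralizer_iff.mp k.2 (x : Q) hxZ
  have hK2 : IsPGroup 2 ↥K := by
    have : pCore 2 ↥K = ⊤ := top_le_iff.mp (htop.trans hHH)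
    have h2 := isPGroup_pCore (G := ↥K) 2
    rw [this] at h2
    exact h2.of_equiv Subgroup.topEquiv
  have hZ2 : IsPGroup 2 ↥Z := (isPGroup_pCore (G := Q) 2).to_le hZP
  obtain ⟨m, hm⟩ := index_centralizer_cyclic_two_group Z hcyc hZ2
  obtain ⟨b, hb⟩ := hK2.exists_card_eq
  have hQcard : Nat.card Q = 2 ^ (m + b) := by
    rw [← Subgroup.index_mul_card K, hm, hb, pow_add]
  exact IsPGroup.of_card hQcard

end Unified

end Cfsg.Agent.Lib.Helper55
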