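import Mathlib
import Cfsg.Prelude.Def_Transfer
import Cfsg.Agent.Lib.Helper34.NormalPComplement

/-!
# Lifting normal 2-complements from subgroups of index two; `O^p` of a subgroup containing all `p'`-elements
-/

set_option autoImplicit false

namespace Cfsg.Agent.Lib.Helper55

open Cfsg

/-- An element of odd order lies in every subgroup of index two. -/
theorem mem_of_odd_orderOf_of_index_two {G : Type*} [Group G] (M : Subgroup G) (hM : M.index = 2)
    (g : G) (hg : Nat.Coprime (orderOf g) 2) : g ∈ M := by
  have hodd : Odd (orderOf g) := Nat.Coprime.odd_of_right hg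
  obtain ⟨k, hk⟩ := hodd
  have h1 : g ^ (2 * k + 1) = 1 := by rw [← hk]; exact pow_orderOf_eq_one g
  have h2 : g = (g ^ 2)⁻¹ ^ k := by
    have : g ^ (2 * k) * g = 1 := by rw [← pow_succ]; exact h1
    rw [inv_pow, ← pow_mul]
    exact (inv_eq_of_mul_eq_one_right this).symm
  rw [h2]
  exact M.pow_mem (M.inv_mem (Subgroup.sq_mem_of_index_two hM g)) k

/-- The image of `O^p(H)` in `G` lies in `O^p(G)`. -/
theorem map_pResidual_subtype_le {G : Type*} [Group G] (p : ℕ) (H : Subgroup G) :
    (pResidual p ↥H).map H.subtype ≤ pResidual p G := by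
  unfold pResidual
  rw [MonoidHom.map_closure, Subgroup.closure_le]
  rintro _ ⟨x, hx, rfl⟩
  apply Subgroup.subset_closure
  show Nat.Coprime (orderOf ((x : H) : G)) p
  rw [Subgroup.orderOf_coe]
  exact hx

/-- If `M` contains all `p'`-elements of `G`, then `O^p(G)` is the image of `O^p(M)`. -/
theorem pResidual_eq_map_of_forall_mem {G : Type*} [Group G] (p : ℕ) (M : Subgroup G)
    (h : ∀ g : G, Nat.Coprime (orderOf g) p → g ∈ M) :
    pResidual p G = (pResidual p ↥M).map M.subtype := by
  apply le_antisymm _ (map_pResidual_subtype_le p M)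
  unfold pResidual
  rw [Subgroup.closure_le]
  intro g hg
  have hgM : g ∈ M := h g hg
  refine ⟨⟨g, hgM⟩, ?_, rfl⟩
  apply Subgroup.subset_closure
  show Nat.Coprime (orderOf (⟨g, hgM⟩ : M)) p
  rw [← Subgroup.orderOf_coe]
  exact hg

/-- A normal 2-complement of a subgroup of index two gives one of the whole group. -/
theorem hasNormalPComplement_of_index_two {G : Type*} [Group G] [Finite G] (M : Subgroup G)
    (hM : M.index = 2) (h : HasNormalPComplement 2 ↥M) : HasNormalPComplement 2 G := by
  have : Fact (Nat.Prime 2) := ⟨Nat.prime_two⟩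
  rw [Cfsg.Agent.Lib.Helper34.hasNormalPComplement_iff_pResidual_coprime] at h ⊢
  rw [pResidual_eq_map_of_forall_mem 2 M (mem_of_odd_orderOf_of_index_two M hM),
    Subgroup.card_map_of_injective M.subtype_injective]
  exact h

end Cfsg.Agent.Lib.Helper55
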