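/-
helper55: module [CORE] of helper12's project W2P (S0720): the combinatorial "budget" count.
All declarations live in `Cfsg.Agent.Lib.Helper55.W2p`.
-/
import Mathlib

set_option autoImplicit false

namespace Cfsg.Agent.Lib.Helper55.W2p

section
variable {ι : Type*} [Fintype ι] [DecidableEq ι]

theorem sum3S_le (f : ι → ℕ) (a b c : ι) (S : Finset ι) (hab : a ≠ b) (hac : a ≠ c) (hbc : b ≠ c)
    (ha : a ∉ S) (hb : b ∉ S) (hc : c ∉ S) :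
    f a + f b + f c + ∑ χ ∈ S, f χ ≤ ∑ χ, f χ := by
  have h := Finset.sum_le_sum_of_subset (f := f)
    (Finset.subset_univ (insert a (insert b (insert c S))))
  rw [Finset.sum_insert (by simp [hab, hac, ha]), Finset.sum_insert (by simp [hbc, hb]),
    Finset.sum_insert hc] at h
  omega

theorem sum2S_le (f : ι → ℕ) (a b : ι) (S : Finset ι) (hab : a ≠ b)
    (ha : a ∉ S) (hb : b ∉ S) :
    f a + f b + ∑ χ ∈ S, f χ ≤ ∑ χ, f χ := by
  have h := Finset.sum_le_sum_of_subset (f := f)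
    (Finset.subset_univ (insert a (insert b S)))
  rw [Finset.sum_insert (by simp [hab, ha]), Finset.sum_insert hb] at h
  omega

omit [Fintype ι] [DecidableEq ι] in
theorem sum_range_const (f : ℕ → ℕ) (p : ℕ) (hp : 0 < p) (c : ℕ)
    (h : ∀ j, 0 < j → j < p → f j = c) : ∑ j ∈ Finset.range p, f j = f 0 + (p - 1) * c := by
  obtain ⟨q, rfl⟩ : ∃ q, p = q + 1 := ⟨p - 1, by omega⟩
  rw [Finset.sum_range_succ']
  have : ∑ k ∈ Finset.range q, f (k + 1) = ∑ k ∈ Finset.range q, c := by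
    apply Finset.sum_congr rfl
    intro k hk
    exact h (k + 1) (Nat.succ_pos k) (by have := Finset.mem_range.mp hk; omega)
  rw [this, Finset.sum_const, Finset.card_range, smul_eq_mul, Nat.add_sub_cancel, add_comm]

/-- **[CORE]** -/
theorem budget_core (p : ℕ) (hp : 3 ≤ p) (m : ι → ℕ)
    (E : ι → ℕ → ℕ) (one : ι) (fam : ι → Finset ι)
    (budget : ∀ j < p, ∑ χ, m χ * E χ j = 2) (hone_m : m one = 1) (hone_0 : E one 0 = 1)
    (hone_j : ∀ j, 0 < j → j < p → E one j = 0)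
    (hpos : ∀ χ, 0 < ∑ j ∈ Finset.range p, E χ j)
    (hlin : ∀ χ, m χ ≠ 0 → ∑ j ∈ Finset.range p, E χ j = 1 → χ = one)
    (hR : ∀ χ, (∀ j j', 0 < j → j < p → 0 < j' → j' < p → E χ j = E χ j') ∨
      (2 ≤ (fam χ).card ∧ χ ∈ fam χ ∧
        (∀ ψ ∈ fam χ, m ψ = m χ ∧ E ψ 0 = E χ 0 ∧ ψ ≠ one ∧
          ∑ j ∈ Finset.range p, E ψ j = ∑ j ∈ Finset.range p, E χ j) ∧
        (∀ j j', 0 < j → j < p → 0 < j' → j' < p →
          ∑ ψ ∈ fam χ, E ψ j = ∑ ψ ∈ fam χ, E ψ j'))) :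
    (∃ χ, χ ≠ one ∧ m χ = 1 ∧ ∀ ψ, ψ ≠ one → ψ ≠ χ → m ψ = 0) ∨
    (∃ χ₀ χ₁, χ₀ ≠ one ∧ χ₁ ≠ one ∧ χ₀ ≠ χ₁ ∧ m χ₀ = 1 ∧ m χ₁ = 1 ∧
      ∑ j ∈ Finset.range p, E χ₀ j = p ∧ ∑ j ∈ Finset.range p, E χ₁ j = p - 1 ∧
      ∀ ψ, ψ ≠ one → ψ ≠ χ₀ → ψ ≠ χ₁ → m ψ = 0) ∨
    (∃ χ₀ η, χ₀ ≠ one ∧ η ≠ one ∧ η ≠ χ₀ ∧ m χ₀ = 1 ∧ ∑ j ∈ Finset.range p, E χ₀ j = p ∧
      m η = 1 ∧ (∀ j < p, E η j ≤ 1) ∧ E η 0 = 0 ∧ 2 ≤ (fam η).card ∧
      (fam η).card * ∑ j ∈ Finset.range p, E η j = p - 1 ∧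
      ∀ χ, m χ ≠ 0 → χ = one ∨ χ = χ₀ ∨ χ ∈ fam η) := by
  have h1p : 1 < p := by omega
  have h0p : 0 < p := by omega
  have hsum3S : ∀ j < p, ∀ (a b c : ι) (S : Finset ι), a ≠ b → a ≠ c → b ≠ c → a ∉ S → b ∉ S →
      c ∉ S → m a * E a j + m b * E b j + m c * E c j + ∑ χ ∈ S, m χ * E χ j ≤ 2 := by
    intro j hj a b c S hab hac hbc ha hb hc
    rw [← budget j hj]
    exact sum3S_le (fun χ => m χ * E χ j) a b c S hab hac hbc ha hb hc
  have hsum2S : ∀ j < p, ∀ (a b : ι) (S : Finset ι), a ≠ b → a ∉ S → b ∉ S →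
      m a * E a j + m b * E b j + ∑ χ ∈ S, m χ * E χ j ≤ 2 := by
    intro j hj a b S hab ha hb
    rw [← budget j hj]
    exact sum2S_le (fun χ => m χ * E χ j) a b S hab ha hb
  have hvanish : ∀ ψ, (∀ j < p, m ψ * E ψ j = 0) → m ψ = 0 := by
    intro ψ h
    obtain ⟨j, hj, hne⟩ := Finset.exists_ne_zero_of_sum_ne_zero (hpos ψ).ne'
    rcases Nat.mul_eq_zero.mp (h j (Finset.mem_range.mp hj)) with h1 | h1
    · exact h1
    · exact absurd h1 hne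
  -- (A)
  have hA0 : ∑ χ ∈ Finset.univ.erase one, m χ * E χ 0 = 1 := by
    have := budget 0 h0p
    rw [← Finset.add_sum_erase _ _ (Finset.mem_univ one), hone_m, hone_0] at this
    omega
  obtain ⟨χ₀, hχ₀mem, hχ₀ne⟩ :=
    Finset.exists_ne_zero_of_sum_ne_zero (by rw [hA0]; exact one_ne_zero)
  have hχ₀one : χ₀ ≠ one := (Finset.mem_erase.mp hχ₀mem).1
  have hχ₀T : m χ₀ * E χ₀ 0 = 1 := by
    have := hsum2S 0 h0p one χ₀ ∅ hχ₀one.symm (by simp) (by simp)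
    rw [hone_m, hone_0, Finset.sum_empty] at this
    have h3 : 1 ≤ m χ₀ * E χ₀ 0 := Nat.one_le_iff_ne_zero.mpr hχ₀ne
    omega
  have hT0 : ∀ χ, χ ≠ one → χ ≠ χ₀ → m χ * E χ 0 = 0 := by
    intro χ h1 h2
    have := hsum3S 0 h0p one χ₀ χ ∅ hχ₀one.symm h1.symm h2.symm (by simp) (by simp) (by simp)
    rw [hone_m, hone_0, Finset.sum_empty, hχ₀T] at this
    omega
  have hmχ₀ : m χ₀ = 1 := Nat.eq_one_of_mul_eq_one_right hχ₀T
  have hEχ₀0 : E χ₀ 0 = 1 := Nat.eq_one_of_mul_eq_one_left hχ₀T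
  -- (B)
  rcases hR χ₀ with hrat | ⟨hcard, -, hfam, -⟩
  swap
  · exfalso
    obtain ⟨ψ, hψ, hψne⟩ := Finset.exists_mem_ne (by omega : 1 < (fam χ₀).card) χ₀
    obtain ⟨h1, h2, h3, -⟩ := hfam ψ hψ
    have := hT0 ψ h3 hψne
    rw [h1, h2, hχ₀T] at this
    exact one_ne_zero this
  have hEb : ∀ j, 0 < j → j < p → E χ₀ j = E χ₀ 1 := fun j h0 hj => hrat j 1 h0 hj one_pos h1p
  have hb2 : E χ₀ 1 ≤ 2 := by
    have := hsum2S 1 h1p one χ₀ ∅ hχ₀one.symm (by simp) (by simp)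
    rw [hone_m, hone_j 1 one_pos h1p, hmχ₀, Finset.sum_empty] at this
    omega
  have hdeg : ∑ j ∈ Finset.range p, E χ₀ j = 1 + (p - 1) * E χ₀ 1 := by
    rw [sum_range_const (E χ₀) p h0p (E χ₀ 1) hEb, hEχ₀0]
  have hb3 : E χ₀ 1 = 0 ∨ E χ₀ 1 = 1 ∨ E χ₀ 1 = 2 := by omega
  rcases hb3 with hb | hb | hb
  · -- `b = 0`
    exfalso
    rw [hb, mul_zero, add_zero] at hdeg
    exact hχ₀one (hlin χ₀ (by rw [hmχ₀]; exact one_ne_zero) hdeg)
  · -- `b = 1`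
    have hEχ₀ : ∀ j < p, E χ₀ j = 1 := by
      intro j hj
      rcases Nat.eq_zero_or_pos j with rfl | h0
      · exact hEχ₀0
      · rw [hEb j h0 hj, hb]
    have hdeg₀ : ∑ j ∈ Finset.range p, E χ₀ j = p := by
      rw [hdeg, hb]; omega
    -- (C)
    have hC1 : ∑ χ ∈ (Finset.univ.erase one).erase χ₀, m χ * E χ 1 = 1 := by
      have := budget 1 h1p
      rw [← Finset.add_sum_erase _ _ (Finset.mem_univ one),
        ← Finset.add_sum_erase _ _ hχ₀mem, hone_m, hone_j 1 one_pos h1p, hmχ₀, hb] at this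
      omega
    obtain ⟨χ₁, hχ₁mem, hχ₁ne⟩ :=
      Finset.exists_ne_zero_of_sum_ne_zero (by rw [hC1]; exact one_ne_zero)
    have hχ₁χ₀ : χ₁ ≠ χ₀ := (Finset.mem_erase.mp hχ₁mem).1
    have hχ₁one : χ₁ ≠ one := (Finset.mem_erase.mp (Finset.mem_erase.mp hχ₁mem).2).1
    have hχ₁T : m χ₁ * E χ₁ 1 = 1 := by
      have := hsum2S 1 h1p χ₀ χ₁ ∅ hχ₁χ₀.symm (by simp) (by simp)
      rw [hmχ₀, hb, Finset.sum_empty] at this
      have h3 : 1 ≤ m χ₁ * E χ₁ 1 := Nat.one_le_iff_ne_zero.mpr hχ₁ne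
      omega
    have hmχ₁ : m χ₁ = 1 := Nat.eq_one_of_mul_eq_one_right hχ₁T
    have hEχ₁1 : E χ₁ 1 = 1 := Nat.eq_one_of_mul_eq_one_left hχ₁T
    have hEχ₁0 : E χ₁ 0 = 0 := by
      have := hT0 χ₁ hχ₁one hχ₁χ₀
      rwa [hmχ₁, one_mul] at this
    rcases hR χ₁ with hrat₁ | ⟨hcard, hmem, hfam, hS⟩
    · -- rational: second alternative
      have hEχ₁ : ∀ j, 0 < j → j < p → E χ₁ j = 1 := fun j h0 hj => by
        rw [hrat₁ j 1 h0 hj one_pos h1p, hEχ₁1]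
      have hdeg₁ : ∑ j ∈ Finset.range p, E χ₁ j = p - 1 := by
        rw [sum_range_const (E χ₁) p h0p 1 hEχ₁, hEχ₁0]; omega
      refine Or.inr (Or.inl ⟨χ₀, χ₁, hχ₀one, hχ₁one, hχ₁χ₀.symm, hmχ₀, hmχ₁, hdeg₀, hdeg₁, ?_⟩)
      intro ψ h1 h2 h3
      apply hvanish
      intro j hj
      rcases Nat.eq_zero_or_pos j with rfl | h0
      · exact hT0 ψ h1 h2
      · have := hsum3S j hj χ₀ χ₁ ψ ∅ hχ₁χ₀.symm h2.symm h3.symm (by simp) (by simp) (by simp)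
        rw [hmχ₀, hEχ₀ j hj, hmχ₁, hEχ₁ j h0 hj, Finset.sum_empty] at this
        omega
    · -- family: third alternative
      have hEη : ∀ j < p, E χ₁ j ≤ 1 := by
        intro j hj
        rcases Nat.eq_zero_or_pos j with rfl | h0
        · rw [hEχ₁0]; exact Nat.zero_le 1
        · have := hsum2S j hj χ₀ χ₁ ∅ hχ₁χ₀.symm (by simp) (by simp)
          rw [hmχ₀, hEχ₀ j hj, hmχ₁, Finset.sum_empty] at this
          omega
      have hone_fam : one ∉ fam χ₁ := fun h => (hfam one h).2.2.1 rfl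
      have hχ₀_fam : χ₀ ∉ fam χ₁ := by
        intro h
        have := (hfam χ₀ h).2.1
        rw [hEχ₀0, hEχ₁0] at this
        exact one_ne_zero this
      have hTS : ∀ j, ∑ ψ ∈ fam χ₁, m ψ * E ψ j = ∑ ψ ∈ fam χ₁, E ψ j := by
        intro j
        apply Finset.sum_congr rfl
        intro ψ hψ
        rw [(hfam ψ hψ).1, hmχ₁, one_mul]
      have hS1 : ∑ ψ ∈ fam χ₁, E ψ 1 = 1 := by
        have h1 := hsum2S 1 h1p one χ₀ (fam χ₁) hχ₀one.symm hone_fam hχ₀_fam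
        rw [hone_m, hone_j 1 one_pos h1p, hmχ₀, hb, hTS 1] at h1
        have h2 : E χ₁ 1 ≤ ∑ ψ ∈ fam χ₁, E ψ 1 :=
          Finset.single_le_sum (f := fun ψ => E ψ 1) (fun _ _ => Nat.zero_le _) hmem
        rw [hEχ₁1] at h2
        omega
      have hSj : ∀ j, 0 < j → j < p → ∑ ψ ∈ fam χ₁, E ψ j = 1 := fun j h0 hj => by
        rw [hS j 1 h0 hj one_pos h1p, hS1]
      have hS0 : ∑ ψ ∈ fam χ₁, E ψ 0 = 0 := by
        apply Finset.sum_eq_zero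
        intro ψ hψ
        rw [(hfam ψ hψ).2.1, hEχ₁0]
      have hcd : (fam χ₁).card * ∑ j ∈ Finset.range p, E χ₁ j = p - 1 := by
        have e1 : (fam χ₁).card * ∑ j ∈ Finset.range p, E χ₁ j =
            ∑ ψ ∈ fam χ₁, ∑ j ∈ Finset.range p, E ψ j := by
          rw [← smul_eq_mul, ← Finset.sum_const]
          apply Finset.sum_congr rfl
          intro ψ hψ
          exact ((hfam ψ hψ).2.2.2).symm
        rw [e1, Finset.sum_comm,
          sum_range_const (fun j => ∑ ψ ∈ fam χ₁, E ψ j) p h0p 1 hSj, hS0]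
        omega
      refine Or.inr (Or.inr ⟨χ₀, χ₁, hχ₀one, hχ₁one, hχ₁χ₀, hmχ₀, hdeg₀, hmχ₁, hEη, hEχ₁0, hcard,
        hcd, ?_⟩)
      intro χ hmχ
      by_contra hcon
      push Not at hcon
      obtain ⟨h1, h2, h3⟩ := hcon
      apply hmχ
      apply hvanish
      intro j hj
      rcases Nat.eq_zero_or_pos j with rfl | h0
      · exact hT0 χ h1 h2
      · have := hsum3S j hj one χ₀ χ (fam χ₁) hχ₀one.symm h1.symm h2.symm hone_fam hχ₀_fam h3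
        rw [hone_m, hone_j j h0 hj, hmχ₀, hEχ₀ j hj, hTS j, hSj j h0 hj] at this
        omega
  · -- `b = 2`: first alternative
    refine Or.inl ⟨χ₀, hχ₀one, hmχ₀, ?_⟩
    intro ψ h1 h2
    apply hvanish
    intro j hj
    rcases Nat.eq_zero_or_pos j with rfl | h0
    · exact hT0 ψ h1 h2
    · have := hsum2S j hj χ₀ ψ ∅ h2.symm (by simp) (by simp)
      rw [hmχ₀, hEb j h0 hj, hb, Finset.sum_empty] at this
      omega

end

end Cfsg.Agent.Lib.Helper55.W2p
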