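/-
helper55: module [IIB] of helper12's project W2P (S0720, Wielandt's theorem on primitive groups of
degree `2p`): the case `d = 2` of Case II is impossible (Burnside's transfer theorem).
All declarations live in `Cfsg.Agent.Lib.Helper55.W2p`.
-/
import Mathlib
import Cfsg.Agent.Lib.Helper12.W2pDefs

set_option autoImplicit false

namespace Cfsg.Agent.Lib.Helper55.W2p

open Cfsg.Agent.Lib.Helper12.W2p

/-- Burnside's normal `p`-complement, as the set of `p'`-elements. -/
theorem exists_pPrime_of_burnside {K : Type*} [Group K] [Finite K] {p : ℕ} [hpF : Fact p.Prime]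
    (P : Sylow p K)
    (hP : Subgroup.normalizer ((P : Subgroup K) : Set K) ≤
      Subgroup.centralizer ((P : Subgroup K) : Set K)) :
    ∃ M : Subgroup K, (∀ k : K, k ∈ M ↔ ¬ p ∣ orderOf k) ∧ Nat.card M * Nat.card P = Nat.card K := by
  have hc := MonoidHom.ker_transferSylow_isComplement' P hP
  have hcard : Nat.card (MonoidHom.transferSylow P hP).ker * Nat.card P = Nat.card K := hc.card_mul_card
  refine ⟨(MonoidHom.transferSylow P hP).ker, fun k => ⟨fun hk hdvd => ?_, fun hk => ?_⟩, hcard⟩
  · -- `p ∤ |M|`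
    have h1 : orderOf k ∣ Nat.card (MonoidHom.transferSylow P hP).ker := by
      have := orderOf_dvd_natCard (⟨k, hk⟩ : (MonoidHom.transferSylow P hP).ker)
      rwa [Subgroup.orderOf_mk] at this
    have h2 : (P : Subgroup K).index = Nat.card (MonoidHom.transferSylow P hP).ker := by
      have h3 := (P : Subgroup K).card_mul_index
      rw [← hcard, mul_comm] at h3
      exact Nat.eq_of_mul_eq_mul_right Nat.card_pos h3
    exact P.not_dvd_index (h2 ▸ (hdvd.trans h1))
  · rw [MonoidHom.mem_ker]
    have h1 : orderOf (MonoidHom.transferSylow P hP k) ∣ orderOf k := orderOf_map_dvd _ k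
    obtain ⟨n, hn⟩ := (IsPGroup.iff_orderOf.mp P.2) (MonoidHom.transferSylow P hP k)
    cases n with
    | zero => rw [pow_zero] at hn; exact orderOf_eq_one_iff.mp hn
    | succ n =>
      exfalso
      apply hk
      refine dvd_trans ?_ h1
      rw [hn]
      exact dvd_pow_self p (Nat.succ_ne_zero n)

section
variable {α : Type*} [Fintype α] [DecidableEq α] {p : ℕ}

set_option linter.unusedVariables false in
/-- **[IIB]** Case II with `d = 2` is impossible. -/
theorem caseII_two {G : Subgroup (Equiv.Perm α)} (h : Ctx p G) (π : ↥G) (hπ : orderOf π = p)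
    (τ : ↥G) (hsign : Equiv.Perm.sign (τ : Equiv.Perm α) = -1) (hτ2 : τ ^ 2 = 1)
    (hC : ∀ c : ↥G, c * π = π * c → c ∈ Subgroup.zpowers π)
    (hN : ∀ n : ↥G, n * π * n⁻¹ ∈ Subgroup.zpowers π → ∃ i j : ℕ, n = π ^ i * τ ^ j) : False := by
  have hpp : p.Prime := h.hp
  have : Fact p.Prime := ⟨hpp⟩
  have hodd : Odd p := hpp.odd_of_ne_two h.hp2
  have := h.prim
  have hcardα : Nat.card α = 2 * p := by rw [Nat.card_eq_fintype_card, h.hα]
  have hne : Nonempty α := by
    rw [← Fintype.card_pos_iff, h.hα]; have := hpp.pos; omega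
  obtain ⟨a⟩ := hne
  -- `p² ∤ |G|`
  have hpre : MulAction.IsPretransitive G α := h.prim.toIsPretransitive
  have hGcard : Nat.card G = Nat.card (MulAction.stabilizer G a) * (2 * p) := by
    rw [← hcardα, ← MulAction.index_stabilizer_of_transitive G a, Subgroup.card_mul_index]
  have hstab : ¬ p ∣ Nat.card (MulAction.stabilizer G a) := by
    intro hdvd
    obtain ⟨g, hg⟩ := exists_prime_orderOf_dvd_card' p hdvd
    have hg1 : orderOf ((g : ↥G) : Equiv.Perm α) = p := by
      rw [Subgroup.orderOf_coe, Subgroup.orderOf_coe, hg]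
    apply h.fpf _ (g : ↥G).2 hg1 a
    have := g.2
    rw [MulAction.mem_stabilizer_iff] at this
    exact this
  have hp2G : ¬ p ^ 2 ∣ Nat.card G := by
    intro hdvd
    have h1 : p * p ∣ (Nat.card (MulAction.stabilizer G a) * 2) * p := by
      rw [mul_assoc, ← sq, ← hGcard]; exact hdvd
    have h2 : p ∣ Nat.card (MulAction.stabilizer G a) * 2 := Nat.dvd_of_mul_dvd_mul_right hpp.pos h1
    rcases (hpp.dvd_mul).mp h2 with h3 | h3
    · exact hstab h3
    · have := Nat.le_of_dvd (by norm_num) h3
      have := hpp.two_le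
      exact h.hp2 (by omega)
  -- the sign and its kernel
  let sgn : ↥G →* ℤˣ := Equiv.Perm.sign.comp G.subtype
  have hsgnπ : sgn π = 1 := by
    have h1 : sgn π ^ p = 1 := by rw [← map_pow, ← hπ, pow_orderOf_eq_one, map_one]
    rcases Int.units_eq_one_or (sgn π) with h2 | h2
    · exact h2
    · rw [h2, hodd.neg_one_pow] at h1
      exact absurd h1 (by decide)
  have hsgnτ : sgn τ = -1 := hsign
  let K : Subgroup ↥G := sgn.ker
  have hKn : K.Normal := MonoidHom.normal_ker sgn
  have hπK : π ∈ K := hsgnπ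
  let πK : ↥K := ⟨π, hπK⟩
  have hπKo : orderOf πK = p := by rw [← hπ]; exact Subgroup.orderOf_mk π hπK
  have hKcard_dvd : Nat.card K ∣ Nat.card G := Subgroup.card_subgroup_dvd_card K
  have hp2K : ¬ p ^ 2 ∣ Nat.card K := fun hd => hp2G (hd.trans hKcard_dvd)
  have hzp : IsPGroup p (Subgroup.zpowers πK) :=
    IsPGroup.of_card (n := 1) (by rw [Nat.card_zpowers, hπKo, pow_one])
  obtain ⟨P, hP⟩ := hzp.exists_le_sylow
  have hPcard : Nat.card P = p := by
    obtain ⟨n, hn⟩ := IsPGroup.iff_card.mp P.2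
    have h1 : p ^ n ∣ Nat.card K := hn ▸ Subgroup.card_subgroup_dvd_card (P : Subgroup K)
    have h2 : p ∣ p ^ n := by
      rw [← hn]
      have := Subgroup.card_dvd_of_le hP
      rwa [Nat.card_zpowers, hπKo] at this
    have hn1 : n ≠ 0 := by
      rintro rfl
      rw [pow_zero] at h2
      exact hpp.one_lt.ne' (Nat.dvd_one.mp h2)
    have hn2 : n < 2 := by
      by_contra hge
      exact hp2K ((pow_dvd_pow p (by omega)).trans h1)
    have : n = 1 := by omega
    rw [hn, this, pow_one]
  have hPeq : (P : Subgroup K) = Subgroup.zpowers πK := by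
    symm
    apply Subgroup.eq_of_le_of_card_ge hP
    rw [hPcard, Nat.card_zpowers, hπKo]
  have hNC : Subgroup.normalizer ((P : Subgroup K) : Set K) ≤
      Subgroup.centralizer ((P : Subgroup K) : Set K) := by
    intro n hn
    rw [hPeq] at hn ⊢
    have h1 : n * πK * n⁻¹ ∈ Subgroup.zpowers πK :=
      (Subgroup.mem_normalizer_iff.mp hn πK).mp (Subgroup.mem_zpowers πK)
    have h2 : (n : ↥G) * π * (n : ↥G)⁻¹ ∈ Subgroup.zpowers π := by
      obtain ⟨k, hk⟩ := Subgroup.mem_zpowers_iff.mp h1
      refine Subgroup.mem_zpowers_iff.mpr ⟨k, ?_⟩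
      have := congrArg Subtype.val hk
      simpa [πK] using this
    obtain ⟨i, j, hij⟩ := hN (n : ↥G) h2
    have hs : sgn (n : ↥G) = 1 := n.2
    rw [hij, map_mul, map_pow, map_pow, hsgnπ, one_pow, one_mul, hsgnτ] at hs
    have hjeven : Even j := by
      by_contra hodd'
      rw [Nat.not_even_iff_odd] at hodd'
      rw [hodd'.neg_one_pow] at hs
      exact absurd hs (by decide)
    obtain ⟨m, hm⟩ := hjeven
    have hτj : τ ^ j = 1 := by rw [hm, ← two_mul, pow_mul, hτ2, one_pow]
    rw [hτj, mul_one] at hij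
    have hn' : n = πK ^ i := Subtype.ext (by rw [hij]; rfl)
    rw [Subgroup.mem_centralizer_iff]
    intro x hx
    obtain ⟨k, rfl⟩ := Subgroup.mem_zpowers_iff.mp hx
    rw [hn']
    exact (((Commute.refl πK).zpow_left k).pow_right i).eq
  obtain ⟨M₀, hM₀, hM₀card⟩ := exists_pPrime_of_burnside P hNC
  rw [hPcard] at hM₀card
  have hpM₀ : ¬ p ∣ Nat.card M₀ := by
    intro hd
    apply hp2K
    rw [← hM₀card, sq]
    exact Nat.mul_dvd_mul_right hd p
  let M : Subgroup ↥G := M₀.map K.subtype
  have hMn : M.Normal := by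
    constructor
    intro m hm g
    obtain ⟨k, hk, rfl⟩ := hm
    have hgk : g * (k : ↥G) * g⁻¹ ∈ K := hKn.conj_mem _ k.2 g
    refine ⟨⟨g * (k : ↥G) * g⁻¹, hgk⟩, ?_, rfl⟩
    rw [SetLike.mem_coe, hM₀, Subgroup.orderOf_mk]
    have h1 : orderOf (g * (k : ↥G) * g⁻¹) = orderOf (k : ↥G) :=
      orderOf_injective (MulAut.conj g).toMonoidHom (MulAut.conj g).injective (k : ↥G)
    rw [h1, Subgroup.orderOf_coe]
    exact (hM₀ k).mp hk
  have hMcard : Nat.card M = Nat.card M₀ := Subgroup.card_map_of_injective K.subtype_injective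
  by_cases hfix : MulAction.fixedPoints M α = Set.univ
  · have hM₀bot : Nat.card M₀ = 1 := by
      rw [← hMcard, Subgroup.card_eq_one, eq_bot_iff]
      intro m hm
      rw [Subgroup.mem_bot]
      apply Subtype.ext
      ext x
      have hx : x ∈ MulAction.fixedPoints M α := by rw [hfix]; trivial
      exact hx ⟨m, hm⟩
    rw [hM₀bot, one_mul] at hM₀card
    have hKfix : MulAction.fixedPoints K α ≠ Set.univ := by
      intro hK
      have hx : a ∈ MulAction.fixedPoints K α := by rw [hK]; trivial
      have := hx ⟨π, hπK⟩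
      exact h.fpf (π : Equiv.Perm α) π.2 (by rw [Subgroup.orderOf_coe, hπ]) a this
    have := MulAction.IsQuasiPreprimitive.isPretransitive_of_normal (G := ↥G) (X := α) (N := K) hKfix
    have hdvd : Nat.card α ∣ Nat.card K := by
      rw [← MulAction.index_stabilizer_of_transitive K a]
      exact Subgroup.index_dvd_card _
    rw [hcardα, ← hM₀card] at hdvd
    have := Nat.le_of_dvd hpp.pos hdvd
    have := hpp.pos
    omega
  · have := MulAction.IsQuasiPreprimitive.isPretransitive_of_normal (G := ↥G) (X := α) (N := M) hfix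
    have hdvd : Nat.card α ∣ Nat.card M := by
      rw [← MulAction.index_stabilizer_of_transitive M a]
      exact Subgroup.index_dvd_card _
    rw [hcardα, hMcard] at hdvd
    exact hpM₀ ((Dvd.intro_left 2 rfl).trans hdvd)

end

end Cfsg.Agent.Lib.Helper55.W2p
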