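import Cfsg.Agent.Lib.Helper54.BGElevenC
import Cfsg.Agent.S1405
import Cfsg.Agent.S1451

/-!
# Bender–Glauberman §10: `M_σ ≠ 1` for every maximal subgroup `M`

If `α(M)` is nonempty then `1 ≠ M_α ≤ M_σ` (S1405).  Otherwise `M` has rank at most `2` and S1451
gives a characteristic Sylow `r`-subgroup of `M` for the largest prime divisor `r` of `|M|`; its
normalizer is `M`, so `r ∈ σ(M)`.
-/

set_option autoImplicit false
open Cfsg

namespace Cfsg.Agent.Lib.Helper55.BGEleven

open Cfsg.Agent.Lib.Helper54
open Cfsg.Agent.Lib.Helper34 (UniquenessThm)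

variable {G : Type*} [Group G]

/-- A maximal subgroup of a noncommutative group is nontrivial. -/
theorem coatom_ne_bot (hnc : ¬ IsMulCommutative G) (M : Subgroup G) (hM : IsCoatom M) :
    M ≠ ⊥ := by
  rintro rfl
  apply hnc
  refine ⟨⟨fun a b => ?_⟩⟩
  by_cases ha : a = 1
  · rw [ha, one_mul, mul_one]
  have hz : Subgroup.zpowers a = ⊤ := by
    rcases hM.le_iff.mp (bot_le : (⊥ : Subgroup G) ≤ Subgroup.zpowers a) with h | h
    · exact h
    · exfalso
      apply ha
      have : a ∈ Subgroup.zpowers a := Subgroup.mem_zpowers a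
      rw [h, Subgroup.mem_bot] at this
      exact this
  have hb : b ∈ Subgroup.zpowers a := hz ▸ Subgroup.mem_top b
  obtain ⟨n, rfl⟩ := Subgroup.mem_zpowers_iff.mp hb
  exact ((Commute.refl a).zpow_right n).eq

/-- `M_σ ≠ 1`. -/
theorem sigmaCore_ne_bot [Finite G] (hG : IsMinSimpleOddOrder G) (hU : UniquenessThm G)
    (M : Subgroup G) (hM : IsCoatom M) : sigmaCore M ≠ ⊥ := by
  classical
  haveI : IsSimpleGroup G := hG.2.1
  have hMbot : M ≠ ⊥ := coatom_ne_bot hG.2.2.1 M hM
  have h1405 := Cfsg.Agent.S1405.result hG M hM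
  by_cases hα : ∃ q, q ∈ alpha M
  · obtain ⟨q, hqp, hqr⟩ := hα
    have : Fact q.Prime := ⟨hqp⟩
    -- `q ∣ |M|`
    have hqM : q ∣ Nat.card M := by
      unfold PRankLE at hqr
      push Not at hqr
      obtain ⟨A, hAc, hAe, hAcard⟩ := hqr
      have hAq : IsPGroup q A := by
        intro a
        refine ⟨1, ?_⟩
        rw [pow_one]
        apply Subtype.ext
        have := hAe a.1 a.2
        simpa using this
      have hAne : A ≠ ⊥ := by
        rintro rfl
        rw [Subgroup.card_bot] at hAcard
        have : 0 < q ^ 2 := pow_pos hqp.pos 2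
        omega
      obtain ⟨k, hk⟩ := hAq.exists_card_eq
      have hk0 : k ≠ 0 := by
        rintro rfl
        rw [pow_zero] at hk
        exact hAne (Subgroup.card_eq_one.mp hk)
      have : q ∣ Nat.card A := by rw [hk]; exact dvd_pow_self q hk0
      exact this.trans (Subgroup.card_subgroup_dvd_card A)
    obtain ⟨hle, -, hidx⟩ := h1405.1
    have hqα : q ∈ alpha M := ⟨hqp, hqr⟩
    have hq1 : q ∣ Nat.card (alphaCore M) := by
      have h2 : Nat.card (alphaCore M) * (alphaCore M).relIndex M = Nat.card M := by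
        rw [Subgroup.relIndex, ← Subgroup.card_mul_index ((alphaCore M).subgroupOf M)]
        congr 1
        exact (Nat.card_congr (Subgroup.subgroupOfEquivOfLe hle).toEquiv).symm
      rw [← h2] at hqM
      rcases (Nat.Prime.dvd_mul hqp).mp hqM with h | h
      · exact h
      · exact absurd h (hidx q hqp hqα)
    intro hbot
    have h3 : alphaCore M = ⊥ := by
      rw [eq_bot_iff, ← hbot]
      exact h1405.2.2.1
    rw [h3, Subgroup.card_bot] at hq1
    exact hqp.one_lt.ne' (Nat.dvd_one.mp hq1)
  · -- rank at most two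
    have hrank : RankLE 2 M := by
      intro q hq
      by_contra hcon
      exact hα ⟨q, hq, hcon⟩
    haveI : Group.IsSolvable M := hG.2.2.2 M hM.1
    have hoddM : Odd (Nat.card M) :=
      Odd.of_dvd_nat hG.1 (Subgroup.card_subgroup_dvd_card M)
    have hcard1 : Nat.card M ≠ 1 := by
      intro h
      exact hMbot (Subgroup.card_eq_one.mp h)
    have hne : (Nat.card M).primeFactors.Nonempty :=
      Nat.nonempty_primeFactors.mpr (by
        have : 0 < Nat.card M := Nat.card_pos
        omega)
    set r : ℕ := (Nat.card M).primeFactors.max' hne with hr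
    have hrmem : r ∈ (Nat.card M).primeFactors := Finset.max'_mem _ hne
    have hrp : r.Prime := Nat.prime_of_mem_primeFactors hrmem
    have hrM : r ∣ Nat.card M := Nat.dvd_of_mem_primeFactors hrmem
    have hrmax : ∀ s : ℕ, s.Prime → s ∣ Nat.card M → s ≤ r := by
      intro s hs hsM
      apply Finset.le_max'
      exact Nat.mem_primeFactors.mpr ⟨hs, hsM, Nat.card_pos.ne'⟩
    have : Fact r.Prime := ⟨hrp⟩
    obtain ⟨N, hNc, hNh⟩ := (Cfsg.Agent.S1451.result (G := M) hoddM (Or.inl hrank)).2.2 (r - 1)
    haveI hNn : N.Normal := Subgroup.normal_of_characteristic N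
    have hNprime : ∀ s : ℕ, s.Prime → s ∣ Nat.card N → s = r := by
      intro s hs hsN
      have h1 := (hNh.1 s hs hsN).2
      have h2 := hrmax s hs (hsN.trans (Subgroup.card_subgroup_dvd_card N))
      omega
    have hNidx : ¬ r ∣ N.index := hNh.2 r hrp ⟨hrp, by have := hrp.one_lt; omega⟩
    have hNr : IsPGroup r N := by
      have h1 := Nat.eq_prime_pow_of_unique_prime_dvd (n := Nat.card N) (p := r)
        Nat.card_pos.ne' (fun {d} hd hdN => hNprime d hd hdN)
      exact IsPGroup.of_card h1
    have hNne : N ≠ ⊥ := by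
      rintro rfl
      apply hNidx
      rw [Subgroup.index_bot]
      exact hrM
    set R₀ : Subgroup G := N.map M.subtype with hR₀
    have hR₀M : R₀ ≤ M := Subgroup.map_subtype_le _
    have hR₀ne : R₀ ≠ ⊥ := by
      intro h
      apply hNne
      rw [eq_bot_iff]
      intro n hn
      have : (n : G) ∈ R₀ := Subgroup.mem_map_of_mem _ hn
      rw [h, Subgroup.mem_bot] at this
      rw [Subgroup.mem_bot]
      exact Subtype.ext this
    have hMR₀ : M ≤ Subgroup.normalizer (R₀ : Set G) := le_normalizer_map_subtype M N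
    have hNR₀ : Subgroup.normalizer (R₀ : Set G) = M :=
      normalizer_eq_of_coatom hM hR₀M hR₀ne hMR₀
    have hrσ : r ∈ sigma M := by
      refine ⟨hrp, hrM, hNr.toSylow hNidx, ?_⟩
      rw [IsPGroup.toSylow_coe]
      exact le_of_eq hNR₀
    have hR₀σ : R₀ ≤ sigmaCore M := by
      apply le_sigmaCore_of_isPi hG hU M hM hR₀M
      intro s hs hsR
      have h1 : Nat.card R₀ = Nat.card N := Subgroup.card_subtype M N
      rw [h1] at hsR
      rw [hNprime s hs hsR]
      exact hrσ
    intro hbot
    apply hR₀ne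
    rw [eq_bot_iff, ← hbot]
    exact hR₀σ

end Cfsg.Agent.Lib.Helper55.BGEleven
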