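import Cfsg.Agent.Lib.Helper55.BGElevenE
import Cfsg.Agent.Lib.Helper46.BGElevenE
import Cfsg.Agent.Lib.Helper21.BGTwelveE

/-!
# Bender–Glauberman §11: the Shult reduction (E) for the whole of `A`

Two regular points generate `A`, so `[R, A]` centralizes `M_σ` for every `A`-invariant `q`-subgroup
`R` of `M`, `q ∉ σ(M) ∪ {p}`.  This is the hypothesis `hE` of `Helper54` MODULE R (board #1936).
-/

set_option autoImplicit false
open Cfsg
open scoped Pointwise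

namespace Cfsg.Agent.Lib.Helper55.BGEleven

open Cfsg.Agent.Lib.Helper54
open Cfsg.Agent.Lib.Helper34 (UniquenessThm)

variable {G : Type*} [Group G] {M A₀ A : Subgroup G} {p : ℕ}

/-- (E) for all of `A`. -/
theorem Exc.shult_all [Finite G] [Fact p.Prime]
    (h : IsExceptional M p A₀ A) (hG : IsMinSimpleOddOrder G) (hU : UniquenessThm G)
    (hPL : ∀ H : Subgroup G, H ≠ ⊤ → PLengthLE p 1 H)
    (q : ℕ) [Fact q.Prime] (hqp : q ≠ p) (hqσ : q ∉ sigma M)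
    (R : Subgroup G) (hRM : R ≤ M) (hR : IsPGroup q R)
    (hAR : A ≤ Subgroup.normalizer (R : Set G)) :
    ∀ a ∈ A, ∀ r ∈ R, r⁻¹ * (a * r * a⁻¹) ∈ Subgroup.centralizer (sigmaCore M : Set G) := by
  have hp : p.Prime := Fact.out
  obtain ⟨A₁, A₂, hA₁A, hA₂A, hA₁, hA₂, hne, hf₁, hf₂⟩ := Exc.two_fpf h hG hU hPL
  have hS₁ := Exc.shult h hG hU hPL A₁ hA₁A hA₁ hf₁ q hqp hqσ R hR hRM (hA₁A.trans hAR)
  have hS₂ := Exc.shult h hG hU hPL A₂ hA₂A hA₂ hf₂ q hqp hqσ R hR hRM (hA₂A.trans hAR)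
  intro a ha r hr
  obtain ⟨u, hu, z, hz, rfl⟩ :=
    Cfsg.Agent.Lib.Helper91.BGEleven.exists_mul_of_card_prime hp h.card hA₁A hA₂A hA₁ hA₂ hne a ha
  -- `r' = z r z⁻¹ ∈ R`
  have hr' : z * r * z⁻¹ ∈ R := (Subgroup.mem_normalizer_iff.mp (hAR (hA₂A hz)) r).mp hr
  have h1 := hS₂ z hz r hr
  have h2 := hS₁ u hu (z * r * z⁻¹) hr'
  have h3 : r⁻¹ * (u * z * r * (u * z)⁻¹) =
      (r⁻¹ * (z * r * z⁻¹)) * ((z * r * z⁻¹)⁻¹ * (u * (z * r * z⁻¹) * u⁻¹)) := by group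
  rw [h3]
  exact Subgroup.mul_mem _ h1 h2

end Cfsg.Agent.Lib.Helper55.BGEleven

namespace Cfsg.Agent.Lib.Helper55.BGEleven

open Cfsg.Agent.Lib.Helper54
open Cfsg.Agent.Lib.Helper34 (UniquenessThm)

variable {G : Type*} [Group G] {M A₀ A : Subgroup G} {p : ℕ}

/-- The literal conclusion of S1412 for all Sylow `p`-subgroups of `G` (hypothesis of
`Helper46.BGEleven.exc_sylow_abelian`). -/
def S1412Stmt (G : Type*) [Group G] (p : ℕ) : Prop :=
  ∀ S : Sylow p G, PRankLE p 2 (S : Subgroup G) →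
    IsMulCommutative (S : Subgroup G) ∨ ∃ P₁ P₂ : Subgroup G, P₁ ⊔ P₂ = (S : Subgroup G) ∧
      (∀ a ∈ P₁, ∀ b ∈ P₂, a * b = b * a) ∧ ¬ IsMulCommutative P₁ ∧ Nat.card P₁ = p ^ 3 ∧
      Monoid.exponent P₁ = p ∧ IsCyclic P₂ ∧
      Subgroup.closure {x : G | x ∈ P₂ ∧ x ^ p = 1} = P₁ ⊓ Subgroup.centralizer (P₁ : Set G)

/-- BG 11.5 for `IsExceptional`: a Sylow `p`-subgroup of `M` containing `A` is abelian. -/
theorem Exc.sylow_comm_of_le [Finite G] [Fact p.Prime]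
    (h : IsExceptional M p A₀ A) (hG : IsMinSimpleOddOrder G) (hU : UniquenessThm G)
    (hPL : ∀ H : Subgroup G, H ≠ ⊤ → PLengthLE p 1 H) (h1412 : S1412Stmt G p)
    (P : Sylow p M) (hAP : A ≤ (P : Subgroup M).map M.subtype) :
    ∀ x ∈ (P : Subgroup M).map M.subtype, ∀ y ∈ (P : Subgroup M).map M.subtype, x * y = y * x := by
  have hp : p.Prime := Fact.out
  have hp2 : p ≠ 2 := by
    rintro rfl
    have h2 : 2 ∣ Nat.card G := (Exc.dvd_card h).trans (Subgroup.card_subgroup_dvd_card M)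
    exact (Nat.not_even_iff_odd.mpr hG.1) (even_iff_two_dvd.mpr h2)
  set P₀ : Subgroup G := (P : Subgroup M).map M.subtype with hP₀
  have hP₀p : IsPGroup p P₀ := P.isPGroup'.map _
  have hfacts := Exc.sylow_facts h hG hU hPL P hAP
  have hPA : P₀ ≤ Subgroup.centralizer (A : Set G) := by
    intro y hy
    rw [Subgroup.mem_centralizer_iff]
    intro a ha
    exact hfacts.1 a ha y hy
  have hPmax : ∀ Q : Subgroup G, IsPGroup p Q → P₀ ≤ Q →
      Q ≤ Subgroup.centralizer (A : Set G) → Q = P₀ := by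
    intro Q hQ hPQ hQA
    have hQM : Q ≤ M := hQA.trans h.centralizer_le
    have hQ' : IsPGroup p (Q.subgroupOf M) := hQ.comap_subtype
    have hPQ' : (P : Subgroup M) ≤ Q.subgroupOf M := by
      intro x hx
      rw [Subgroup.mem_subgroupOf]
      exact hPQ (Subgroup.mem_map_of_mem _ hx)
    have h1 := P.is_maximal' hQ' hPQ'
    apply le_antisymm _ hPQ
    intro x hx
    have : (⟨x, hQM hx⟩ : M) ∈ Q.subgroupOf M := Subgroup.mem_subgroupOf.mpr hx
    rw [h1] at this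
    exact ⟨⟨x, hQM hx⟩, this, rfl⟩
  exact Cfsg.Agent.Lib.Helper46.BGEleven.exc_sylow_abelian p hp2 h1412 A P₀ h.elemAb h.card
    (fun B hB hAB => h.maximal hG hU B hB hAB) hP₀p hAP hPA hPmax

/-- BG 11.5 for `IsExceptional`: every Sylow `p`-subgroup of `M` is abelian. -/
theorem Exc.sylow_comm [Finite G] [Fact p.Prime]
    (h : IsExceptional M p A₀ A) (hG : IsMinSimpleOddOrder G) (hU : UniquenessThm G)
    (hPL : ∀ H : Subgroup G, H ≠ ⊤ → PLengthLE p 1 H) (h1412 : S1412Stmt G p)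
    (P : Sylow p M) : IsMulCommutative (P : Subgroup M) := by
  obtain ⟨P', hAP'⟩ := Exc.exists_sylow h
  have hc := Exc.sylow_comm_of_le h hG hU hPL h1412 P' hAP'
  obtain ⟨m, hm⟩ := MulAction.exists_smul_eq M P' P
  refine ⟨⟨fun a b => ?_⟩⟩
  have hmem : ∀ x : (P : Subgroup M), m⁻¹ * (x : M) * m ∈ (P' : Subgroup M) := by
    intro x
    have hx : (x : M) ∈ ((m • P' : Sylow p M) : Subgroup M) := by rw [hm]; exact x.2
    rw [Sylow.coe_subgroup_smul, Subgroup.mem_pointwise_smul_iff_inv_smul_mem] at hx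
    simpa [MulAut.smul_def, MulAut.conj_apply] using hx
  have h1 := hc _ (Subgroup.mem_map_of_mem M.subtype (hmem a)) _
    (Subgroup.mem_map_of_mem M.subtype (hmem b))
  have h2 : (m⁻¹ * (a : M) * m) * (m⁻¹ * (b : M) * m) = (m⁻¹ * (b : M) * m) * (m⁻¹ * (a : M) * m) :=
    Subtype.ext h1
  have h3 : (a : M) * (b : M) = (b : M) * (a : M) := by
    have e1 : (a : M) * (b : M) = m * ((m⁻¹ * (a : M) * m) * (m⁻¹ * (b : M) * m)) * m⁻¹ := by group
    have e2 : (b : M) * (a : M) = m * ((m⁻¹ * (b : M) * m) * (m⁻¹ * (a : M) * m)) * m⁻¹ := by group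
    rw [e1, e2, h2]
  exact Subtype.ext h3

end Cfsg.Agent.Lib.Helper55.BGEleven

namespace Cfsg.Agent.Lib.Helper55.BGEleven

open Cfsg.Agent.Lib.Helper54
open Cfsg.Agent.Lib.Helper34 (UniquenessThm)

variable {G : Type*} [Group G]

/-- `Helper21.Sec11 G` from the Uniqueness Theorem, `p`-length one (S1410), the statement of S1412,
and BG 11.7 (`M_σ A ⊴ M`, the only piece not proved here). -/
theorem sec11_of [Finite G] (hG : IsMinSimpleOddOrder G) (hU : UniquenessThm G)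
    (hPL : ∀ (q : ℕ) [Fact q.Prime] (H : Subgroup G), H ≠ ⊤ → PLengthLE q 1 H)
    (h1412 : ∀ (q : ℕ) [Fact q.Prime], S1412Stmt G q)
    (h117 : ∀ (M : Subgroup G) (p : ℕ) [Fact p.Prime] (A₀ A : Subgroup G), IsExceptional M p A₀ A →
      M ≤ Subgroup.normalizer ((sigmaCore M ⊔ A : Subgroup G) : Set G)) :
    Cfsg.Agent.Lib.Helper21.Sec11 G := by
  intro M p _ A₀ A h
  have hPLp : ∀ H : Subgroup G, H ≠ ⊤ → PLengthLE p 1 H := fun H hH => hPL p H hH
  refine ⟨Exc.sigmaCore_nilpotent h hG hU hPLp, ?_, h117 M p A₀ A h,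
    Exc.sigmaCore_inf_centralizer h hG hU hPLp, ?_⟩
  · intro P
    refine ⟨Exc.sylow_comm h hG hU hPLp (h1412 p) P, ?_⟩
    intro hAP
    exact ⟨(Exc.sylow_facts h hG hU hPLp P hAP).2.1, Exc.not_normalizer_le h P⟩
  · obtain ⟨A₁, -, hA₁A, -, hA₁, -, -, hfpf, -⟩ := Exc.two_fpf h hG hU hPLp
    exact ⟨A₁, hA₁A, hA₁, hfpf⟩

end Cfsg.Agent.Lib.Helper55.BGEleven
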