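import Mathlib
import Cfsg.Prelude.Def_OddOrderLocal
import Cfsg.Agent.S0033
import Cfsg.Agent.Lib.Helper54.Coprime

/-!
# Bender–Glauberman §11 (exceptional maximal subgroups): the easy structural facts

Notation of board #1817: `M` maximal, `K = M_σ`, `A ∈ E_p^2(M)`, `A₀ ∈ E^1(A)` with `N_G(A₀) ≤ M`,
and the TI-property `hTI` (= BG 11.2(a)) is taken as a hypothesis.

* `exc_omega` : `A ≤ Z(P)`, `A` maximal elementary abelian in `P` ⇒ `A = Ω₁(P)`, `N_G(P) ≤ N_G(A)`.
* `exc_centralizer_inf` : `K ∩ C_G(A) = 1`.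
* `exc_two_fpf` : two distinct points of `A` acting fixed-point-freely on `K`.
* `exc_nilpotent` : `K` is nilpotent (Thompson, S0033).
-/

set_option autoImplicit false
open Cfsg
open scoped Pointwise

namespace Cfsg.Agent.Lib.Helper55.BGEleven

open Cfsg.Agent.Lib.Helper54

variable {G : Type*} [Group G]

/-- The normalizer of a conjugate: `N_G(gXg⁻¹) = g N_G(X) g⁻¹` (as `≤`). -/
theorem normalizer_conj_smul_le (g : G) (X : Subgroup G) :
    Subgroup.normalizer ((MulAut.conj g • X : Subgroup G) : Set G) ≤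
      MulAut.conj g • Subgroup.normalizer (X : Set G) := by
  intro x hx
  rw [mem_conj_smul_iff]
  have h1 : MulAut.conj g⁻¹ • (MulAut.conj g • X) = X := by
    rw [map_inv, inv_smul_smul]
  have h2 := conj_smul_le_normalizer (g := g⁻¹) (A := Subgroup.zpowers x)
    (P := MulAut.conj g • X) (by
      rw [Subgroup.zpowers_le]; exact hx)
  rw [h1] at h2
  have h3 : g⁻¹ * x * g⁻¹⁻¹ ∈ MulAut.conj g⁻¹ • Subgroup.zpowers x :=
    conj_mem_conj_smul (Subgroup.mem_zpowers x)
  rw [inv_inv] at h3
  exact h2 h3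

/-- `C_G(X) ≤ N_G(X)`. -/
theorem centralizer_le_normalizer' (X : Subgroup G) :
    Subgroup.centralizer (X : Set G) ≤ Subgroup.normalizer (X : Set G) := by
  intro c hc
  rw [Subgroup.mem_normalizer_iff]
  intro x
  constructor
  · intro hx
    have : c * x * c⁻¹ = x := by
      have := hc x hx
      rw [mul_inv_eq_iff_eq_mul]; exact this.symm
    rw [this]; exact hx
  · intro hx
    have h1 : c⁻¹ * (c * x * c⁻¹) * c = x := by group
    have h2 := hc (c * x * c⁻¹) hx
    -- `(c x c⁻¹) c = c (c x c⁻¹)`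
    have h3 : c * x * c⁻¹ = x := by
      have : c * x * c⁻¹ * c = c * (c * x * c⁻¹) := h2
      have h4 : c * x = c * (c * x * c⁻¹) := by
        rw [← this]; group
      have h5 := mul_left_cancel h4
      exact h5.symm
    rw [← h3]; exact hx

/-- Elementwise commutativity from `IsElementaryAbelian`. -/
theorem IsElementaryAbelian.comm' {p : ℕ} {A : Subgroup G} (h : IsElementaryAbelian p A) :
    ∀ a ∈ A, ∀ b ∈ A, a * b = b * a := by
  intro a ha b hb
  have h1 := (isMulCommutative_iff.mp h.1) ⟨a, ha⟩ ⟨b, hb⟩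
  exact congrArg Subtype.val h1

/-- A subgroup generated by pairwise commuting elements of order dividing `p` is elementary
abelian. -/
theorem isElementaryAbelian_closure {p : ℕ} (S : Set G) (hcomm : ∀ a ∈ S, ∀ b ∈ S, a * b = b * a)
    (hexp : ∀ a ∈ S, a ^ p = 1) : IsElementaryAbelian p (Subgroup.closure S) := by
  have h1 : S ⊆ Subgroup.centralizer S := by
    intro a ha
    show a ∈ Subgroup.centralizer S
    rw [Subgroup.mem_centralizer_iff]
    intro b hb
    exact hcomm b hb a ha
  have h2 : Subgroup.closure S ≤ Subgroup.centralizer S := (Subgroup.closure_le _).mpr h1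
  have h3 : S ⊆ Subgroup.centralizer ((Subgroup.closure S : Subgroup G) : Set G) := by
    intro a ha
    show a ∈ Subgroup.centralizer ((Subgroup.closure S : Subgroup G) : Set G)
    rw [Subgroup.mem_centralizer_iff]
    intro b hb
    have := h2 hb
    rw [Subgroup.mem_centralizer_iff] at this
    exact (this a ha).symm
  have h4 : Subgroup.closure S ≤ Subgroup.centralizer ((Subgroup.closure S : Subgroup G) : Set G) :=
    (Subgroup.closure_le _).mpr h3
  have hc : ∀ a ∈ Subgroup.closure S, ∀ b ∈ Subgroup.closure S, a * b = b * a := by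
    intro a ha b hb
    have := h4 hb
    rw [Subgroup.mem_centralizer_iff] at this
    exact this a ha
  refine ⟨isMulCommutative_iff.mpr ?_, ?_⟩
  · rintro ⟨a, ha⟩ ⟨b, hb⟩
    exact Subtype.ext (hc a ha b hb)
  · intro a ha
    induction ha using Subgroup.closure_induction with
    | mem x hx => exact hexp x hx
    | one => exact one_pow p
    | mul x y hx hy ihx ihy =>
      have hxy : Commute x y := hc x hx y hy
      rw [hxy.mul_pow, ihx, ihy, one_mul]
    | inv x hx ihx => rw [inv_pow, ihx, inv_one]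

/-- (A') of board #1817. If `A` is central in `P` and maximal among the elementary abelian
subgroups of `P`, then `A = Ω₁(P)` and `N_G(P) ≤ N_G(A)`. -/
theorem exc_omega [Finite G] (p : ℕ) [Fact p.Prime] (A P : Subgroup G) (hAP : A ≤ P)
    (hAel : IsElementaryAbelian p A)
    (hAmax : ∀ B : Subgroup G, B ≤ P → IsElementaryAbelian p B → A ≤ B → B = A)
    (hcen : ∀ a ∈ A, ∀ y ∈ P, a * y = y * a) :
    (∀ x ∈ P, x ^ p = 1 → x ∈ A) ∧
      Subgroup.normalizer (P : Set G) ≤ Subgroup.normalizer (A : Set G) := by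
  have hAcomm := IsElementaryAbelian.comm' hAel
  have hΩ : ∀ x ∈ P, x ^ p = 1 → x ∈ A := by
    intro x hxP hxp
    set S : Set G := (A : Set G) ∪ {x} with hS
    have hB : IsElementaryAbelian p (Subgroup.closure S) := by
      apply isElementaryAbelian_closure
      · rintro a (ha | ha) b (hb | hb)
        · exact hAcomm a ha b hb
        · rw [Set.mem_singleton_iff] at hb; subst hb; exact hcen a ha _ hxP
        · rw [Set.mem_singleton_iff] at ha; subst ha; exact (hcen b hb _ hxP).symm
        · rw [Set.mem_singleton_iff] at ha hb; rw [ha, hb]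
      · rintro a (ha | ha)
        · exact hAel.2 a ha
        · rw [Set.mem_singleton_iff] at ha; rw [ha]; exact hxp
    have hBP : Subgroup.closure S ≤ P := by
      rw [Subgroup.closure_le]
      rintro a (ha | ha)
      · exact hAP ha
      · rw [Set.mem_singleton_iff] at ha; rw [ha]; exact hxP
    have hAB : A ≤ Subgroup.closure S := fun a ha => Subgroup.subset_closure (Or.inl ha)
    have := hAmax _ hBP hB hAB
    rw [← this]
    exact Subgroup.subset_closure (Or.inr rfl)
  refine ⟨hΩ, ?_⟩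
  intro g hg
  rw [mem_normalizer_iff_conj_smul]
  have hle : MulAut.conj g • A ≤ A := by
    intro x hx
    rw [mem_conj_smul_iff] at hx
    have hxP : x ∈ P := by
      have h1 : g⁻¹ * x * g ∈ P := hAP hx
      have h2 := (Subgroup.mem_normalizer_iff.mp hg (g⁻¹ * x * g)).mp h1
      have h3 : g * (g⁻¹ * x * g) * g⁻¹ = x := by group
      rwa [h3] at h2
    apply hΩ x hxP
    have h1 := hAel.2 _ hx
    have h2 : (g⁻¹ * x * g) ^ p = g⁻¹ * x ^ p * g := by
      have := conj_pow (a := g⁻¹) (b := x) (i := p)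
      rw [inv_inv] at this
      exact this
    rw [h2] at h1
    have h3 : x ^ p = g * (g⁻¹ * x ^ p * g) * g⁻¹ := by group
    rw [h3, h1]; group
  have hcard : Nat.card (MulAut.conj g • A : Subgroup G) = Nat.card A := card_conj_smul g A
  exact Subgroup.eq_of_le_of_card_ge hle (le_of_eq hcard.symm)

/-- (B) of board #1817: `K ∩ C_G(A) = 1`. -/
theorem exc_centralizer_inf (M K A A₀ : Subgroup G)
    (hA₀A : A₀ ≤ A) (hNA₀ : Subgroup.normalizer (A₀ : Set G) ≤ M) (hAM : A ≤ M)
    (hTI : ∀ g : G, g ∉ M → A ≤ MulAut.conj g • M → K ⊓ MulAut.conj g • M = ⊥)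
    (g : G) (hgA : g ∈ Subgroup.normalizer (A : Set G)) (hgM : g ∉ M) :
    K ⊓ Subgroup.centralizer (A : Set G) = ⊥ := by
  have hgA' : MulAut.conj g • A = A := mem_normalizer_iff_conj_smul.mp hgA
  have hAgM : A ≤ MulAut.conj g • M := by
    rw [← hgA']; exact conj_smul_le_conj_smul hAM
  have hCM : Subgroup.centralizer (A : Set G) ≤ M :=
    (Subgroup.centralizer_le hA₀A).trans ((centralizer_le_normalizer' A₀).trans hNA₀)
  have hCg : Subgroup.centralizer (A : Set G) ≤ MulAut.conj g • M := by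
    intro c hc
    rw [mem_conj_smul_iff]
    apply hCM
    rw [Subgroup.mem_centralizer_iff]
    intro a ha
    -- `g a g⁻¹ ∈ A` commutes with `c`
    have h1 : g * a * g⁻¹ ∈ A := (Subgroup.mem_normalizer_iff.mp hgA a).mp ha
    have h2 := hc (g * a * g⁻¹) h1
    have h3 : a * (g⁻¹ * c * g) = g⁻¹ * ((g * a * g⁻¹) * c) * g := by group
    have h4 : g⁻¹ * c * g * a = g⁻¹ * (c * (g * a * g⁻¹)) * g := by group
    rw [h3, h4, h2]
  rw [eq_bot_iff, ← hTI g hgM hAgM]
  exact inf_le_inf_left K hCg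

/-- (C) of board #1817: two distinct points of `A` acting fixed-point-freely on `K`. -/
theorem exc_two_fpf [Finite G] (hodd : Odd (Nat.card G)) (p : ℕ) [Fact p.Prime]
    (M K A A₀ : Subgroup G)
    (hA₀A : A₀ ≤ A) (hA₀ : Nat.card A₀ = p) (hNA₀ : Subgroup.normalizer (A₀ : Set G) ≤ M)
    (hAM : A ≤ M)
    (hTI : ∀ g : G, g ∉ M → A ≤ MulAut.conj g • M → K ⊓ MulAut.conj g • M = ⊥)
    (g : G) (hgA : g ∈ Subgroup.normalizer (A : Set G)) (hgM : g ∉ M) :
    ∃ A₁ A₂ : Subgroup G, A₁ ≤ A ∧ A₂ ≤ A ∧ Nat.card A₁ = p ∧ Nat.card A₂ = p ∧ A₁ ≠ A₂ ∧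
      K ⊓ Subgroup.centralizer (A₁ : Set G) = ⊥ ∧ K ⊓ Subgroup.centralizer (A₂ : Set G) = ⊥ := by
  -- the key one-conjugate statement
  have key : ∀ h : G, h ∈ Subgroup.normalizer (A : Set G) → h ∉ M →
      MulAut.conj h • A₀ ≤ A ∧ Nat.card (MulAut.conj h • A₀ : Subgroup G) = p ∧
        K ⊓ Subgroup.centralizer ((MulAut.conj h • A₀ : Subgroup G) : Set G) = ⊥ := by
    intro h hhA hhM
    have hhA' : MulAut.conj h • A = A := mem_normalizer_iff_conj_smul.mp hhA
    refine ⟨?_, ?_, ?_⟩
    · rw [← hhA']; exact conj_smul_le_conj_smul hA₀A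
    · rw [card_conj_smul, hA₀]
    · have hAhM : A ≤ MulAut.conj h • M := by
        rw [← hhA']; exact conj_smul_le_conj_smul hAM
      rw [eq_bot_iff, ← hTI h hhM hAhM]
      refine inf_le_inf_left K ?_
      exact (centralizer_le_normalizer' _).trans
        ((normalizer_conj_smul_le h A₀).trans (conj_smul_le_conj_smul hNA₀))
  -- `g ^ 2 ∉ M` since `g` has odd order
  have hg2M : g ^ 2 ∉ M := by
    intro h2
    apply hgM
    have hoddg : Odd (orderOf g) := Odd.of_dvd_nat hodd (orderOf_dvd_natCard g)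
    obtain ⟨k, hk⟩ := hoddg
    have h3 : g = (g ^ 2) ^ (k + 1) := by
      rw [← pow_mul]
      have : 2 * (k + 1) = orderOf g + 1 := by omega
      rw [this, pow_succ, pow_orderOf_eq_one, one_mul]
    rw [h3]
    exact M.pow_mem h2 _
  have hg2A : g ^ 2 ∈ Subgroup.normalizer (A : Set G) := Subgroup.pow_mem _ hgA 2
  obtain ⟨h1a, h1b, h1c⟩ := key g hgA hgM
  obtain ⟨h2a, h2b, h2c⟩ := key (g ^ 2) hg2A hg2M
  refine ⟨_, _, h1a, h2a, h1b, h2b, ?_, h1c, h2c⟩
  intro heq
  apply hgM
  apply hNA₀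
  rw [mem_normalizer_iff_conj_smul]
  have h3 : MulAut.conj (g ^ 2) • A₀ = MulAut.conj g • (MulAut.conj g • A₀) := by
    rw [pow_two, map_mul, mul_smul]
  rw [h3] at heq
  have h4 := congrArg (fun X => MulAut.conj g⁻¹ • X) heq
  simp only [map_inv, inv_smul_smul] at h4
  exact h4.symm

/-- (D) of board #1817: a subgroup `K` normalized by a subgroup `A₁` of prime order acting
fixed-point-freely is nilpotent (Thompson, S0033). -/
theorem exc_nilpotent [Finite G] (p : ℕ) [Fact p.Prime] (K A₁ : Subgroup G)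
    (hA₁ : Nat.card A₁ = p) (hA₁K : A₁ ≤ Subgroup.normalizer (K : Set G))
    (hfpf : K ⊓ Subgroup.centralizer (A₁ : Set G) = ⊥) : Group.IsNilpotent K := by
  classical
  by_cases hK : K = ⊥
  · subst hK
    infer_instance
  -- a generator of `A₁`
  haveI : IsCyclic A₁ := isCyclic_of_prime_card hA₁
  obtain ⟨⟨a, haA⟩, hgen⟩ := IsCyclic.exists_generator (α := A₁)
  have hzp : ∀ x ∈ A₁, x ∈ Subgroup.zpowers a := by
    intro x hx
    obtain ⟨n, hn⟩ := Subgroup.mem_zpowers_iff.mp (hgen ⟨x, hx⟩)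
    refine Subgroup.mem_zpowers_iff.mpr ⟨n, ?_⟩
    have := congrArg Subtype.val hn
    simpa using this
  have hap : a ^ p = 1 := by
    have h1 : (⟨a, haA⟩ : A₁) ^ Nat.card A₁ = 1 := pow_card_eq_one'
    rw [hA₁] at h1
    have := congrArg Subtype.val h1
    simpa using this
  have haN : a ∈ Subgroup.normalizer (K : Set G) := hA₁K haA
  set N : Subgroup G := Subgroup.normalizer (K : Set G) with hN
  haveI : (K.subgroupOf N).Normal := Subgroup.normal_in_normalizer
  let φ : MulAut (K.subgroupOf N) := MulAut.conjNormal (⟨a, haN⟩ : N)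
  -- fixed points
  have hfix : ∀ k : K.subgroupOf N, φ k = k → k = 1 := by
    intro k hk
    have h1 : ((φ k : K.subgroupOf N) : N) = (⟨a, haN⟩ : N) * (k : N) * (⟨a, haN⟩ : N)⁻¹ :=
      MulAut.conjNormal_apply _ _
    rw [hk] at h1
    have h2 : ((k : N) : G) = a * ((k : N) : G) * a⁻¹ := by
      have := congrArg Subtype.val h1
      simpa using this
    have hkK : ((k : N) : G) ∈ K := Subgroup.mem_subgroupOf.mp k.2
    have hcomm : a * ((k : N) : G) = ((k : N) : G) * a := by
      have : a * ((k : N) : G) * a⁻¹ * a = ((k : N) : G) * a := by rw [← h2]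
      rw [← this]; group
    have hkC : ((k : N) : G) ∈ Subgroup.centralizer (A₁ : Set G) := by
      rw [Subgroup.mem_centralizer_iff]
      intro x hx
      have hx' := hzp x hx
      obtain ⟨n, rfl⟩ := Subgroup.mem_zpowers_iff.mp hx'
      have hc : Commute a ((k : N) : G) := hcomm
      exact (hc.zpow_left n).eq
    have hmem : ((k : N) : G) ∈ K ⊓ Subgroup.centralizer (A₁ : Set G) := ⟨hkK, hkC⟩
    rw [hfpf, Subgroup.mem_bot] at hmem
    apply Subtype.ext
    apply Subtype.ext
    simpa using hmem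
  have hφp : φ ^ p = 1 := by
    show (MulAut.conjNormal (⟨a, haN⟩ : N)) ^ p = 1
    rw [← map_pow]
    have : (⟨a, haN⟩ : N) ^ p = 1 := by
      apply Subtype.ext
      simpa using hap
    rw [this, map_one]
  have hφ1 : φ ≠ 1 := by
    intro h1
    apply hK
    rw [eq_bot_iff]
    intro k hk
    have hkN : k ∈ N := Subgroup.le_normalizer hk
    have := hfix ⟨⟨k, hkN⟩, Subgroup.mem_subgroupOf.mpr hk⟩ (by rw [h1]; rfl)
    have h2 := congrArg (fun x : K.subgroupOf N => ((x : N) : G)) this
    simpa using h2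
  have hord : orderOf φ = p := orderOf_eq_prime hφp hφ1
  haveI : Group.IsNilpotent (K.subgroupOf N) :=
    Cfsg.Agent.S0033.result (φ : K.subgroupOf N ≃* K.subgroupOf N) hfix p (Fact.out) hord
  exact Group.nilpotent_of_mulEquiv (Subgroup.subgroupOfEquivOfLe (Subgroup.le_normalizer))

end Cfsg.Agent.Lib.Helper55.BGEleven
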