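import Cfsg.Agent.S0023
import Cfsg.Agent.S0026
import Cfsg.Agent.Lib.Helper10.BGThirteenF
import Cfsg.Agent.Lib.Helper22.Solvable
import Cfsg.Agent.Lib.Helper54.UqBasic

/-!
# Fixed points of a Frobenius-like group `S ⋊ P` acting coprimely on a solvable group `H`

`P` of prime order `p` acts fixed-point-freely on the `q`-group `S`; `SP` acts on the solvable
`{p,q}'`-group `H` and `C_H(P) ≤ C_H(S)`.  Then `S` centralizes `H`.
(Module G2 of helper51's proof of the asymmetry lemma (AS), Bender–Glauberman 13.8.)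
-/

set_option autoImplicit false

namespace Cfsg.Agent.Lib.Helper55.FrobFixedPoints

open Cfsg.Agent.Lib
open scoped commutatorElement

theorem le_centralizer_of_fixed_points {G : Type*} [Group G] [Finite G] (hodd : Odd (Nat.card G))
    {p q : ℕ} [Fact p.Prime] [Fact q.Prime] (hpq : p ≠ q) (S P H : Subgroup G)
    (hS : IsPGroup q S) (hP : Nat.card P = p) (hPS : P ≤ Subgroup.normalizer (S : Set G))
    (hSH : S ≤ Subgroup.normalizer (H : Set G)) (hPH : P ≤ Subgroup.normalizer (H : Set G))
    (hHsolv : Group.IsSolvable H) (hHq : (Nat.card H).Coprime q) (hHp : (Nat.card H).Coprime p)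
    (hfpf : S ⊓ Subgroup.centralizer (P : Set G) = ⊥)
    (hfix : H ⊓ Subgroup.centralizer (P : Set G) ≤ Subgroup.centralizer (S : Set G)) :
    H ≤ Subgroup.centralizer (S : Set G) := by
  have hpp : p.Prime := Fact.out
  have hqq : q.Prime := Fact.out
  have hodd' : ∀ t : ℕ, t ∣ Nat.card G → t ≠ 2 := by
    rintro t ht rfl
    exact (Nat.not_even_iff_odd.mpr hodd) (even_iff_two_dvd.mpr ht)
  by_cases hS1 : S = ⊥
  · rw [hS1]
    intro h _
    rw [Subgroup.mem_centralizer_iff]
    intro s hs
    rw [SetLike.mem_coe, Subgroup.mem_bot] at hs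
    rw [hs, one_mul, mul_one]
  -- `q` is odd
  obtain ⟨m, hm⟩ := hS.exists_card_eq
  have hm0 : m ≠ 0 := by
    rintro rfl
    rw [pow_zero] at hm
    exact hS1 (Subgroup.card_eq_one.mp hm)
  have hqS : q ∣ Nat.card S := by
    rw [hm]
    exact dvd_pow_self q hm0
  have hq2 : q ≠ 2 := hodd' q (hqS.trans (Subgroup.card_subgroup_dvd_card S))
  -- `S = [S, P]`
  have hcopPS : (Nat.card P).Coprime (Nat.card S) := by
    rw [hP, hm]
    exact Nat.Coprime.pow_right m ((Nat.coprime_primes hpp hqq).mpr hpq)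
  have hSsolv : Group.IsSolvable S := by
    have := hS.isNilpotent
    infer_instance
  have hSP : ⁅S, P⁆ = S := by
    have h1 := Cfsg.Agent.S0026.result P S hPS hcopPS (Or.inr hSsolv)
    rw [hfpf, sup_bot_eq] at h1
    exact h1
  -- the group `A = S ⊔ P`
  have hAH : S ⊔ P ≤ Subgroup.normalizer (H : Set G) := sup_le hSH hPH
  have hcardA : Nat.card (S ⊔ P : Subgroup G) ∣ q ^ m * p := by
    have := Helper22.card_sup_dvd_mul_of_le_normalizer hPS
    rwa [hm, hP] at this
  have hcopA : (Nat.card (S ⊔ P : Subgroup G)).Coprime (Nat.card H) := by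
    apply Nat.Coprime.coprime_dvd_left hcardA
    exact Nat.Coprime.mul_left (Nat.Coprime.pow_left m hHq.symm) hHp.symm
  apply Helper54.le_of_forall_exists_sylow_le
  intro t ht
  have htt : t.Prime := ht.out
  obtain ⟨T, hT⟩ := Cfsg.Agent.S0023.result (S ⊔ P) H hAH hcopA (Or.inr hHsolv) t
  refine ⟨T, ?_⟩
  by_cases htH : t ∣ Nat.card H
  · have ht2 : t ≠ 2 := hodd' t (htH.trans (Subgroup.card_subgroup_dvd_card H))
    have htq : t ≠ q := by
      rintro rfl
      exact htt.one_lt.ne' (Nat.Coprime.eq_one_of_dvd hHq.symm htH)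
    have htp : t ≠ p := by
      rintro rfl
      exact htt.one_lt.ne' (Nat.Coprime.eq_one_of_dvd hHp.symm htH)
    set T' : Subgroup G := (T : Subgroup H).map H.subtype with hT'
    have hT'H : T' ≤ H := Subgroup.map_subtype_le _
    have hT't : IsPGroup t T' := T.isPGroup'.map _
    have hST' : S ≤ Subgroup.normalizer (T' : Set G) := le_sup_left.trans hT
    have hPT' : P ≤ Subgroup.normalizer (T' : Set G) := le_sup_right.trans hT
    have key := Helper10.BG13.commutator_le_centralizer_of_fixed ht2 hq2 htq htp (Ne.symm hpq)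
      S P T' hS hP hT't hPS hST' hPT'
      (fun x hx hxP _ => hfix (Subgroup.mem_inf.mpr ⟨hT'H hx, hxP⟩))
    rw [hSP] at key
    intro x hx
    rw [Subgroup.mem_centralizer_iff]
    intro s hs
    exact (Subgroup.mem_centralizer_iff.mp (key hs) x hx).symm
  · -- trivial Sylow subgroup
    have hT1 : (T : Subgroup H) = ⊥ := by
      by_contra hne
      obtain ⟨j, hj⟩ := T.isPGroup'.exists_card_eq
      have hj0 : j ≠ 0 := by
        rintro rfl
        rw [pow_zero] at hj
        exact hne (Subgroup.card_eq_one.mp hj)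
      have h1 : t ∣ Nat.card (T : Subgroup H) := by
        rw [hj]
        exact dvd_pow_self t hj0
      exact htH (h1.trans (Subgroup.card_subgroup_dvd_card _))
    rw [hT1, Subgroup.map_bot]
    exact bot_le

end Cfsg.Agent.Lib.Helper55.FrobFixedPoints
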