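import Mathlib
import Cfsg.Agent.Lib.Helper46.BGAsymHall

/-!
# Hall `{r,s}`-subgroup with cyclic Sylow subgroups (module G3 of (AS) / BG 13.8)

Exact statement requested in board post #2564, derived from
`Cfsg.Agent.Lib.Helper46.BGAsymHall.step_two` (ambient-subgroup form) with `C := ⊤`.
-/

set_option autoImplicit false

namespace Cfsg.Agent.Lib.Helper55.HallCyclic

theorem card_eq_prime_of_cyclic_ne_bot {C : Type*} [Group C] [Finite C] {r : ℕ} [Fact r.Prime]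
    (Q : Subgroup C) (hQ : IsPGroup r Q) (hQ1 : Q ≠ ⊥) :
    ∃ X : Subgroup C, X ≤ Q ∧ Nat.card X = r := by
  have hr : r.Prime := Fact.out
  have hdvd : r ∣ Nat.card Q := by
    obtain ⟨n, hn⟩ := hQ.exists_card_eq
    rcases Nat.eq_zero_or_pos n with h0 | hpos
    · exfalso
      apply hQ1
      rw [h0, pow_zero] at hn
      exact Subgroup.card_eq_one.mp hn
    · rw [hn]
      exact dvd_pow_self r (Nat.pos_iff_ne_zero.mp hpos)
  obtain ⟨x, hx⟩ := exists_prime_orderOf_dvd_card' (G := Q) r hdvd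
  refine ⟨Subgroup.zpowers (x : C), ?_, ?_⟩
  · rw [Subgroup.zpowers_le]
    exact x.2
  · rw [Nat.card_zpowers, Subgroup.orderOf_coe]
    exact hx

theorem exists_sylow_le_normalizer_of_cyclic {C : Type*} [Group C] [Finite C]
    [Group.IsSolvable C] {r s : ℕ} [Fact r.Prime] [Fact s.Prime] (hrs : r ≠ s)
    (Q : Sylow r C) (Q' : Sylow s C) (hQ : IsCyclic (Q : Subgroup C))
    (hQ' : IsCyclic (Q' : Subgroup C)) (hQ1 : (Q : Subgroup C) ≠ ⊥)
    (hQ1' : (Q' : Subgroup C) ≠ ⊥) :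
    (∃ X : Subgroup C, X ≤ (Q : Subgroup C) ∧ Nat.card X = r ∧
        ∃ R : Sylow s C, (R : Subgroup C) ≤ Subgroup.normalizer (X : Set C)) ∨
    (∃ X : Subgroup C, X ≤ (Q' : Subgroup C) ∧ Nat.card X = s ∧
        ∃ R : Sylow r C, (R : Subgroup C) ≤ Subgroup.normalizer (X : Set C)) := by
  have _hrs := hrs
  obtain ⟨X, hXQ, hX⟩ := card_eq_prime_of_cyclic_ne_bot (Q : Subgroup C) Q.isPGroup' hQ1
  obtain ⟨Y, hYQ, hY⟩ := card_eq_prime_of_cyclic_ne_bot (Q' : Subgroup C) Q'.isPGroup' hQ1'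
  have hsol : Group.IsSolvable (⊤ : Subgroup C) :=
    Group.isSolvable_of_isSolvable_injective (f := (⊤ : Subgroup C).subtype) Subtype.val_injective
  have hQidx : ¬ r ∣ (Q : Subgroup C).relIndex ⊤ := by
    rw [Subgroup.relIndex_top_right]
    exact Q.not_dvd_index
  have hQidx' : ¬ s ∣ (Q' : Subgroup C).relIndex ⊤ := by
    rw [Subgroup.relIndex_top_right]
    exact Q'.not_dvd_index
  rcases Cfsg.Agent.Lib.Helper46.BGAsymHall.step_two (⊤ : Subgroup C) hsol
    (Q : Subgroup C) (Q' : Subgroup C) X Y le_top Q.isPGroup' hQidx hQ le_top Q'.isPGroup'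
    hQidx' hQ' hXQ hX hYQ hY with ⟨c, -, hc⟩ | ⟨c, -, hc⟩
  · left
    refine ⟨X, hXQ, hX, ?_⟩
    refine ⟨c • Q', ?_⟩
    intro x hx
    apply hc
    rw [Sylow.coe_subgroup_smul] at hx
    exact hx
  · right
    refine ⟨Y, hYQ, hY, ?_⟩
    refine ⟨c • Q, ?_⟩
    intro x hx
    apply hc
    rw [Sylow.coe_subgroup_smul] at hx
    exact hx

end Cfsg.Agent.Lib.Helper55.HallCyclic
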