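import Mathlib
import Cfsg.Agent.S1545
import Cfsg.Agent.Lib.Helper54.Coprime
import Cfsg.Agent.Lib.Helper22.Solvable

/-!
# Bender–Glauberman Theorem 15.2, abstract core (part A): Wielandt's fixed-point formula

Setting `PrimAct q Q D K`: a `q`-group `Q` normalized by `D` and `K`, `K` normalizes `D` and acts
fixed-point-freely on it, `|D|`, `|K|` prime to `q`, every non-identity element of `K` has the same
fixed points `K* = C_Q(K)` on `Q`, `|K*| = q`, and `D` does not centralize `Q`.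
-/

set_option autoImplicit false
set_option linter.unusedSectionVars false

namespace Cfsg.Agent.Lib.Helper55.BGFifteen

open Cfsg

variable {X : Type*} [Group X]

/-- The hypotheses of the abstract form of B&G Theorem 15.2. -/
structure PrimAct (q : ℕ) (Q D K : Subgroup X) : Prop where
  hQ : IsPGroup q Q
  hDQ : D ≤ Subgroup.normalizer (Q : Set X)
  hKQ : K ≤ Subgroup.normalizer (Q : Set X)
  hKD : K ≤ Subgroup.normalizer (D : Set X)
  hK1 : K ≠ ⊥
  hfpf : ∀ k ∈ K, k ≠ 1 → ∀ u ∈ D, k * u = u * k → u = 1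
  hcopD : (Nat.card D).Coprime q
  hcopK : (Nat.card K).Coprime q
  hKs : Nat.card ↥(Q ⊓ Subgroup.centralizer (K : Set X)) = q
  hprime : ∀ k ∈ K, k ≠ 1 →
    Q ⊓ Subgroup.centralizer ({k} : Set X) = Q ⊓ Subgroup.centralizer (K : Set X)
  hnc : ¬ D ≤ Subgroup.centralizer (Q : Set X)

theorem mem_normalizer_conj {H : Subgroup X} {x y : X} (hx : x ∈ Subgroup.normalizer (H : Set X))
    (hy : y ∈ H) : x * y * x⁻¹ ∈ H :=
  (Subgroup.mem_normalizer_iff.mp hx y).mp hy

theorem mem_normalizer_conj' {H : Subgroup X} {x y : X} (hx : x ∈ Subgroup.normalizer (H : Set X))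
    (hy : y ∈ H) : x⁻¹ * y * x ∈ H := by
  have := mem_normalizer_conj (inv_mem hx) hy
  simpa using this

/-- a subgroup of a group of prime order is trivial or everything -/
theorem eq_bot_or_eq_of_prime_card [Finite X] {A B : Subgroup X} (hB : (Nat.card B).Prime)
    (hAB : A ≤ B) : A = ⊥ ∨ A = B := by
  have h1 : Nat.card A ∣ Nat.card B := Subgroup.card_dvd_of_le hAB
  rcases (Nat.dvd_prime hB).mp h1 with h | h
  · left; exact Subgroup.card_eq_one.mp h
  · right; exact Subgroup.eq_of_le_of_card_ge hAB h.ge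

section

variable [Finite X] {q : ℕ} [Fact q.Prime] {Q D K : Subgroup X}

theorem PrimAct.D_ne_bot (h : PrimAct q Q D K) : D ≠ ⊥ := by
  intro hD
  apply h.hnc
  rw [hD]
  exact bot_le

theorem PrimAct.inf_DK (h : PrimAct q Q D K) {E : Subgroup X} (hE : E ≤ K) : D ⊓ E = ⊥ := by
  rw [eq_bot_iff]
  intro x hx
  rw [Subgroup.mem_bot]
  by_contra hx1
  exact hx1 (h.hfpf x (hE hx.2) hx1 x hx.1 rfl)

theorem PrimAct.card_sup (h : PrimAct q Q D K) {E : Subgroup X} (hE : E ≤ K) :
    Nat.card (D ⊔ E : Subgroup X) = Nat.card D * Nat.card E :=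
  Cfsg.Agent.Lib.Helper54.card_sup_of_le_normalizer (hE.trans h.hKD) (h.inf_DK hE)

theorem PrimAct.coprime_sup (h : PrimAct q Q D K) {E : Subgroup X} (hE : E ≤ K) :
    (Nat.card (D ⊔ E : Subgroup X)).Coprime q := by
  rw [h.card_sup hE]
  exact Nat.Coprime.mul_left h.hcopD
    (Nat.Coprime.coprime_dvd_left (Subgroup.card_dvd_of_le hE) h.hcopK)

/-- **Wielandt's formula** for the Frobenius group `D E` (`1 ≠ E ≤ K`) acting on a `D K`-invariant
subgroup `Y` of `Q`. -/
theorem PrimAct.wielandt (h : PrimAct q Q D K) {E : Subgroup X} (hE : E ≤ K) (hE1 : E ≠ ⊥)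
    {Y : Subgroup X} (hYQ : Y ≤ Q) (hDY : D ≤ Subgroup.normalizer (Y : Set X))
    (hEY : E ≤ Subgroup.normalizer (Y : Set X)) :
    Nat.card ↥(Y ⊓ Subgroup.centralizer ((D ⊔ E : Subgroup X) : Set X)) ^ Nat.card E * Nat.card Y =
      Nat.card ↥(Y ⊓ Subgroup.centralizer (E : Set X)) ^ Nat.card E *
        Nat.card ↥(Y ⊓ Subgroup.centralizer (D : Set X)) := by
  have hYq : IsPGroup q Y := h.hQ.to_le hYQ
  have hcop : (Nat.card Y).Coprime (Nat.card (D ⊔ E : Subgroup X)) := by
    obtain ⟨n, hn⟩ := hYq.exists_card_eq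
    rw [hn]
    exact Nat.Coprime.pow_left n (h.coprime_sup hE).symm
  apply Cfsg.Agent.S1545.result D E Y h.D_ne_bot hE1 (h.inf_DK hE)
  · intro e he u hu
    exact mem_normalizer_conj (h.hKD (hE he)) hu
  · intro e he he1 u hu hc
    exact h.hfpf e (hE he) he1 u hu hc
  · intro x hx y hy
    exact mem_normalizer_conj ((sup_le hDY hEY) hx) hy
  · exact (Subgroup.disjoint_of_coprime_natCard hcop).eq_bot
  · haveI := hYq.isNilpotent
    exact IsNilpotent.to_isSolvable
  · exact hcop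

end

end Cfsg.Agent.Lib.Helper55.BGFifteen
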