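import Mathlib
import Cfsg.Agent.Lib.Helper55.BGFifteenA

/-!
# Bender–Glauberman Theorem 15.2, abstract core (part B): the dichotomy

For `PrimAct q Q D K` and a `D K`-invariant subgroup `Y ≤ Q`: either `K* ≤ Y` and
`|Y| = q ^ |K| |C_Y(D)|`, or `Y ≤ C(D)`.  Also `|K|` is prime and `K* ∩ C(D) = 1`.
-/

set_option autoImplicit false
set_option linter.unusedSectionVars false

namespace Cfsg.Agent.Lib.Helper55.BGFifteen

open Cfsg

variable {X : Type*} [Group X]

theorem mem_centralizer_sup_iff' (A B : Subgroup X) (x : X) :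
    x ∈ Subgroup.centralizer ((A ⊔ B : Subgroup X) : Set X) ↔
      x ∈ Subgroup.centralizer (A : Set X) ∧ x ∈ Subgroup.centralizer (B : Set X) := by
  constructor
  · intro hx
    constructor
    · exact Subgroup.centralizer_le (show (A : Set X) ⊆ (A ⊔ B : Subgroup X) from
        fun a ha => (le_sup_left : A ≤ A ⊔ B) ha) hx
    · exact Subgroup.centralizer_le (show (B : Set X) ⊆ (A ⊔ B : Subgroup X) from
        fun a ha => (le_sup_right : B ≤ A ⊔ B) ha) hx
  · rintro ⟨hA, hB⟩
    have h1 : A ⊔ B ≤ Subgroup.centralizer ({x} : Set X) := by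
      apply sup_le
      · intro a ha
        rw [Subgroup.mem_centralizer_singleton_iff]
        exact (Subgroup.mem_centralizer_iff.mp hA a ha)
      · intro b hb
        rw [Subgroup.mem_centralizer_singleton_iff]
        exact (Subgroup.mem_centralizer_iff.mp hB b hb)
    rw [Subgroup.mem_centralizer_iff]
    intro y hy
    have := h1 hy
    rw [Subgroup.mem_centralizer_singleton_iff] at this
    exact this

theorem inf_centralizer_sup (Y A B : Subgroup X) :
    Y ⊓ Subgroup.centralizer ((A ⊔ B : Subgroup X) : Set X) =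
      Y ⊓ Subgroup.centralizer (B : Set X) ⊓ Subgroup.centralizer (A : Set X) := by
  ext x
  simp only [Subgroup.mem_inf, mem_centralizer_sup_iff']
  tauto

theorem centralizer_zpowers_eq (k : X) :
    Subgroup.centralizer ((Subgroup.zpowers k : Subgroup X) : Set X) =
      Subgroup.centralizer ({k} : Set X) := by
  apply le_antisymm
  · apply Subgroup.centralizer_le
    intro y hy
    rw [Set.mem_singleton_iff] at hy
    rw [hy]
    exact Subgroup.mem_zpowers k
  · intro x hx
    rw [Subgroup.mem_centralizer_iff]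
    have h1 : Subgroup.zpowers k ≤ Subgroup.centralizer ({x} : Set X) := by
      rw [Subgroup.zpowers_le, Subgroup.mem_centralizer_singleton_iff]
      exact ((Subgroup.mem_centralizer_singleton_iff.mp hx)).symm
    intro y hy
    have := h1 hy
    rw [Subgroup.mem_centralizer_singleton_iff] at this
    exact this

section

variable [Finite X] {q : ℕ} [Fact q.Prime] {Q D K : Subgroup X}

theorem PrimAct.Ks_prime (h : PrimAct q Q D K) :
    (Nat.card ↥(Q ⊓ Subgroup.centralizer (K : Set X))).Prime := by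
  rw [h.hKs]; exact Fact.out

theorem PrimAct.Ks_ne_bot (h : PrimAct q Q D K) :
    Q ⊓ Subgroup.centralizer (K : Set X) ≠ ⊥ := by
  intro h0
  have := h.hKs
  rw [h0, Subgroup.card_bot] at this
  exact (Fact.out : q.Prime).one_lt.ne this

/-- `K* ∩ C(D) = 1` -/
theorem PrimAct.Ks_inf_centralizer (h : PrimAct q Q D K) :
    Q ⊓ Subgroup.centralizer (K : Set X) ⊓ Subgroup.centralizer (D : Set X) = ⊥ := by
  rcases eq_bot_or_eq_of_prime_card h.Ks_prime
    (inf_le_left : Q ⊓ Subgroup.centralizer (K : Set X) ⊓ Subgroup.centralizer (D : Set X) ≤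
      Q ⊓ Subgroup.centralizer (K : Set X)) with h0 | h0
  · exact h0
  · exfalso
    have hw := h.wielandt (E := K) le_rfl h.hK1 (Y := Q) le_rfl h.hDQ h.hKQ
    rw [inf_centralizer_sup, h0, h.hKs] at hw
    have hqpos : 0 < q ^ Nat.card K := pow_pos (Fact.out : q.Prime).pos _
    have hcard : Nat.card Q = Nat.card ↥(Q ⊓ Subgroup.centralizer (D : Set X)) :=
      Nat.eq_of_mul_eq_mul_left hqpos hw
    have heq : Q ⊓ Subgroup.centralizer (D : Set X) = Q :=
      Subgroup.eq_of_le_of_card_ge inf_le_left hcard.le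
    apply h.hnc
    rw [Subgroup.le_centralizer_iff]
    rw [← heq]
    exact inf_le_right

/-- the dichotomy, first half: a `D K`-invariant subgroup of `Q` not containing `K*` is centralized
by `D` -/
theorem PrimAct.le_centralizer_of_not_le (h : PrimAct q Q D K) {Y : Subgroup X} (hYQ : Y ≤ Q)
    (hDY : D ≤ Subgroup.normalizer (Y : Set X)) (hKY : K ≤ Subgroup.normalizer (Y : Set X))
    (hKs : ¬ Q ⊓ Subgroup.centralizer (K : Set X) ≤ Y) :
    Y ≤ Subgroup.centralizer (D : Set X) := by
  have hw := h.wielandt (E := K) le_rfl h.hK1 hYQ hDY hKY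
  have h1 : Y ⊓ Subgroup.centralizer (K : Set X) = ⊥ := by
    rcases eq_bot_or_eq_of_prime_card h.Ks_prime
      (show Y ⊓ Subgroup.centralizer (K : Set X) ≤ Q ⊓ Subgroup.centralizer (K : Set X) from
        inf_le_inf_right _ hYQ) with h0 | h0
    · exact h0
    · exfalso
      apply hKs
      rw [← h0]
      exact inf_le_left
  rw [inf_centralizer_sup, h1, bot_inf_eq, Subgroup.card_bot, one_pow, one_mul, one_mul] at hw
  have heq : Y ⊓ Subgroup.centralizer (D : Set X) = Y :=
    Subgroup.eq_of_le_of_card_ge inf_le_left hw.le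
  rw [← heq]
  exact inf_le_right

/-- the dichotomy, second half -/
theorem PrimAct.card_of_le (h : PrimAct q Q D K) {Y : Subgroup X} (hYQ : Y ≤ Q)
    (hDY : D ≤ Subgroup.normalizer (Y : Set X)) (hKY : K ≤ Subgroup.normalizer (Y : Set X))
    (hKs : Q ⊓ Subgroup.centralizer (K : Set X) ≤ Y) :
    Nat.card Y = q ^ Nat.card K * Nat.card ↥(Y ⊓ Subgroup.centralizer (D : Set X)) := by
  have hw := h.wielandt (E := K) le_rfl h.hK1 hYQ hDY hKY
  have h1 : Y ⊓ Subgroup.centralizer (K : Set X) = Q ⊓ Subgroup.centralizer (K : Set X) := by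
    apply le_antisymm (inf_le_inf_right _ hYQ)
    exact le_inf hKs inf_le_right
  have h2 : Y ⊓ Subgroup.centralizer (K : Set X) ⊓ Subgroup.centralizer (D : Set X) = ⊥ := by
    rw [h1]; exact h.Ks_inf_centralizer
  rw [inf_centralizer_sup, h2, Subgroup.card_bot, one_pow, one_mul, h1, h.hKs] at hw
  exact hw

/-- `|K|` is prime -/
theorem PrimAct.card_K_prime (h : PrimAct q Q D K) : (Nat.card K).Prime := by
  have hq : q.Prime := Fact.out
  have hK1 : Nat.card K ≠ 1 := fun h1 => h.hK1 (Subgroup.card_eq_one.mp h1)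
  obtain ⟨p, hp, hpK⟩ := Nat.exists_prime_and_dvd hK1
  haveI : Fact p.Prime := ⟨hp⟩
  obtain ⟨k, hk⟩ := exists_prime_orderOf_dvd_card' (G := K) p hpK
  have hk1 : (k : X) ≠ 1 := by
    intro h1
    have : k = 1 := Subtype.ext h1
    rw [this, orderOf_one] at hk
    exact hp.one_lt.ne hk
  set E : Subgroup X := Subgroup.zpowers (k : X) with hE
  have hEK : E ≤ K := by
    rw [hE, Subgroup.zpowers_le]; exact k.2
  have hEcard : Nat.card E = p := by
    rw [hE, Nat.card_zpowers, Subgroup.orderOf_coe]; exact hk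
  have hE1 : E ≠ ⊥ := by
    intro h0
    rw [h0, Subgroup.card_bot] at hEcard
    exact hp.one_lt.ne hEcard
  have hw := h.wielandt hEK hE1 (Y := Q) le_rfl h.hDQ (hEK.trans h.hKQ)
  have h1 : Q ⊓ Subgroup.centralizer (E : Set X) = Q ⊓ Subgroup.centralizer (K : Set X) := by
    rw [hE, centralizer_zpowers_eq]
    exact h.hprime (k : X) k.2 hk1
  rw [inf_centralizer_sup, h1, h.Ks_inf_centralizer, Subgroup.card_bot, one_pow, one_mul, h.hKs,
    hEcard] at hw
  have h2 := h.card_of_le (Y := Q) le_rfl h.hDQ h.hKQ inf_le_left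
  rw [hw] at h2
  have hpos : 0 < Nat.card ↥(Q ⊓ Subgroup.centralizer (D : Set X)) := Nat.card_pos
  have h3 : q ^ p = q ^ Nat.card K := Nat.eq_of_mul_eq_mul_right hpos h2
  have h4 : p = Nat.card K := Nat.pow_right_injective hq.two_le h3
  rw [← h4]
  exact hp

end

end Cfsg.Agent.Lib.Helper55.BGFifteen
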