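import Mathlib
import Cfsg.Agent.Lib.Helper55.BGFifteenB
import Cfsg.Agent.Lib.Helper90.FrattiniAct
import Cfsg.Agent.Lib.Helper97.PStable2

/-!
# Bender–Glauberman Theorem 15.2, abstract core (part C): structure of `Q / C_Q(D)`

For `PrimAct q Q D K`, with `Q₀ = C_Q(D)`: `Q₀` is normal in `Q` (hence invariant under `Q D K`),
`Q₀ < Q`, `|Q| = |Q₀| q ^ |K|`, `Q / Q₀` is elementary abelian, and there is no `Q D K`-invariant
subgroup strictly between `Q₀` and `Q`.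
-/

set_option autoImplicit false
set_option linter.unusedSectionVars false

namespace Cfsg.Agent.Lib.Helper55.BGFifteen

open Cfsg
open scoped commutatorElement

variable {X : Type*} [Group X]

theorem le_normalizer_of_conj_mem {A Y : Subgroup X}
    (h : ∀ a ∈ A, ∀ y ∈ Y, a * y * a⁻¹ ∈ Y) : A ≤ Subgroup.normalizer (Y : Set X) := by
  intro a ha
  rw [Subgroup.mem_normalizer_iff]
  intro g
  constructor
  · exact h a ha g
  · intro hg
    have := h a⁻¹ (inv_mem ha) _ hg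
    simpa [mul_assoc] using this

theorem le_normalizer_sInf' {A : Subgroup X} {S : Set (Subgroup X)}
    (h : ∀ Y ∈ S, A ≤ Subgroup.normalizer (Y : Set X)) :
    A ≤ Subgroup.normalizer ((sInf S : Subgroup X) : Set X) := by
  apply le_normalizer_of_conj_mem
  intro a ha y hy
  rw [Subgroup.mem_sInf] at hy ⊢
  intro Y hY
  exact mem_normalizer_conj (h Y hY ha) (hy Y hY)

theorem le_normalizer_commutator' {A Y₁ Y₂ : Subgroup X}
    (h₁ : A ≤ Subgroup.normalizer (Y₁ : Set X)) (h₂ : A ≤ Subgroup.normalizer (Y₂ : Set X)) :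
    A ≤ Subgroup.normalizer ((⁅Y₁, Y₂⁆ : Subgroup X) : Set X) := by
  apply le_normalizer_of_conj_mem
  intro a ha y hy
  have hle : ⁅Y₁, Y₂⁆ ≤ (⁅Y₁, Y₂⁆ : Subgroup X).comap (MulAut.conj a).toMonoidHom := by
    rw [Subgroup.commutator_le]
    intro y₁ hy₁ y₂ hy₂
    rw [Subgroup.mem_comap]
    have e : (MulAut.conj a).toMonoidHom ⁅y₁, y₂⁆ = ⁅a * y₁ * a⁻¹, a * y₂ * a⁻¹⁆ := by
      simp only [MulEquiv.coe_toMonoidHom, MulAut.conj_apply, commutatorElement_def]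
      group
    rw [e]
    exact Subgroup.commutator_mem_commutator (mem_normalizer_conj (h₁ ha) hy₁)
      (mem_normalizer_conj (h₂ ha) hy₂)
  have := hle hy
  rw [Subgroup.mem_comap] at this
  simpa using this

theorem le_normalizer_sup' {A Y₁ Y₂ : Subgroup X}
    (h₁ : A ≤ Subgroup.normalizer (Y₁ : Set X)) (h₂ : A ≤ Subgroup.normalizer (Y₂ : Set X)) :
    A ≤ Subgroup.normalizer ((Y₁ ⊔ Y₂ : Subgroup X) : Set X) := by
  apply le_normalizer_of_conj_mem
  intro a ha y hy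
  have hle : Y₁ ⊔ Y₂ ≤ (Y₁ ⊔ Y₂ : Subgroup X).comap (MulAut.conj a).toMonoidHom := by
    apply sup_le
    · intro y₁ hy₁
      rw [Subgroup.mem_comap]
      exact (le_sup_left : Y₁ ≤ Y₁ ⊔ Y₂) (by simpa using mem_normalizer_conj (h₁ ha) hy₁)
    · intro y₂ hy₂
      rw [Subgroup.mem_comap]
      exact (le_sup_right : Y₂ ≤ Y₁ ⊔ Y₂) (by simpa using mem_normalizer_conj (h₂ ha) hy₂)
  have := hle hy
  rw [Subgroup.mem_comap] at this
  simpa using this

theorem le_normalizer_centralizer' {A D : Subgroup X}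
    (h : A ≤ Subgroup.normalizer (D : Set X)) :
    A ≤ Subgroup.normalizer ((Subgroup.centralizer (D : Set X) : Subgroup X) : Set X) := by
  apply le_normalizer_of_conj_mem
  intro a ha y hy
  rw [Subgroup.mem_centralizer_iff] at hy ⊢
  intro d hd
  have hd' : a⁻¹ * d * a ∈ D := mem_normalizer_conj' (h ha) hd
  have h1 := hy _ hd'
  calc d * (a * y * a⁻¹) = a * ((a⁻¹ * d * a) * y) * a⁻¹ := by group
    _ = a * (y * (a⁻¹ * d * a)) * a⁻¹ := by rw [h1]
    _ = a * y * a⁻¹ * d := by group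

/-- a nontrivial subgroup `Y` of a nilpotent subgroup `Q` is not contained in `[Y, Q]` -/
theorem not_le_commutator_of_isNilpotent {Q Y : Subgroup X} (hQ : Group.IsNilpotent Q)
    (hYQ : Y ≤ Q) (hY : Y ≠ ⊥) : ¬ Y ≤ ⁅Y, Q⁆ := by
  intro hle
  obtain ⟨n, hn⟩ := (Subgroup.isNilpotent_iff_lowerCentralSeries Q).mp hQ
  have key : ∀ m, Y ≤ Q.lowerCentralSeries m := by
    intro m
    induction m with
    | zero => rw [Subgroup.lowerCentralSeries_zero]; exact hYQ
    | succ m ih =>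
      rw [Subgroup.lowerCentralSeries_succ]
      exact hle.trans (Subgroup.commutator_mono ih le_rfl)
  apply hY
  rw [eq_bot_iff, ← hn]
  exact key n

theorem commutator_le_of_le_normalizer {Y Q : Subgroup X}
    (h : Q ≤ Subgroup.normalizer (Y : Set X)) : ⁅Y, Q⁆ ≤ Y := by
  rw [Subgroup.commutator_le]
  intro y hy x hx
  rw [commutatorElement_def]
  have h1 : x * y⁻¹ * x⁻¹ ∈ Y := mem_normalizer_conj (h hx) (inv_mem hy)
  have e : y * x * y⁻¹ * x⁻¹ = y * (x * y⁻¹ * x⁻¹) := by group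
  rw [e]
  exact mul_mem hy h1

/-- product formula when `B` normalizes `A` -/
theorem card_sup_mul_card_inf {A B : Subgroup X} (h : B ≤ Subgroup.normalizer (A : Set X)) :
    Nat.card (A ⊔ B : Subgroup X) * Nat.card (A ⊓ B : Subgroup X) = Nat.card A * Nat.card B := by
  have h1 := Cfsg.Agent.Lib.Helper54.relIndex_sup_of_le_normalizer h
  have h2 := Cfsg.Agent.Lib.Helper54.card_mul_relIndex (le_sup_right : A ≤ B ⊔ A)
  have h3 := Cfsg.Agent.Lib.Helper54.card_mul_relIndex (inf_le_right : A ⊓ B ≤ B)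
  rw [Subgroup.inf_relIndex_right] at h3
  rw [h1] at h2
  rw [sup_comm, ← h2, ← h3]
  ring

section

variable [Finite X] {q : ℕ} [Fact q.Prime] {Q D K : Subgroup X}

theorem PrimAct.main (h : PrimAct q Q D K) :
    Q ≤ Subgroup.normalizer ((Q ⊓ Subgroup.centralizer (D : Set X) : Subgroup X) : Set X) ∧
    D ≤ Subgroup.normalizer ((Q ⊓ Subgroup.centralizer (D : Set X) : Subgroup X) : Set X) ∧
    K ≤ Subgroup.normalizer ((Q ⊓ Subgroup.centralizer (D : Set X) : Subgroup X) : Set X) ∧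
    Q ⊓ Subgroup.centralizer (D : Set X) < Q ∧
    Nat.card Q = Nat.card ↥(Q ⊓ Subgroup.centralizer (D : Set X)) * q ^ Nat.card K ∧
    (∀ a ∈ Q, ∀ b ∈ Q, a ^ q ∈ Q ⊓ Subgroup.centralizer (D : Set X) ∧
      a * b * a⁻¹ * b⁻¹ ∈ Q ⊓ Subgroup.centralizer (D : Set X)) ∧
    ∀ N : Subgroup X, Q ⊓ Subgroup.centralizer (D : Set X) < N → N < Q →
      Q ≤ Subgroup.normalizer (N : Set X) → D ≤ Subgroup.normalizer (N : Set X) →
      K ≤ Subgroup.normalizer (N : Set X) → False := by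
  have hq : q.Prime := Fact.out
  set Ks : Subgroup X := Q ⊓ Subgroup.centralizer (K : Set X) with hKs
  set Q₀ : Subgroup X := Q ⊓ Subgroup.centralizer (D : Set X) with hQ₀
  have hQ₀Q : Q₀ ≤ Q := inf_le_left
  have hQQ : Q ≤ Subgroup.normalizer (Q : Set X) := Subgroup.le_normalizer
  have hDD : D ≤ Subgroup.normalizer (D : Set X) := Subgroup.le_normalizer
  have hDQ₀ : D ≤ Subgroup.normalizer (Q₀ : Set X) :=
    Cfsg.Agent.Lib.Helper54.le_normalizer_inf h.hDQ (le_normalizer_centralizer' hDD)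
  have hKQ₀ : K ≤ Subgroup.normalizer (Q₀ : Set X) :=
    Cfsg.Agent.Lib.Helper54.le_normalizer_inf h.hKQ (le_normalizer_centralizer' h.hKD)
  have hKs1 : Ks ≠ ⊥ := h.Ks_ne_bot
  have hQnil : Group.IsNilpotent Q := h.hQ.isNilpotent
  -- cardinality of `Q`
  have hcardQ : Nat.card Q = q ^ Nat.card K * Nat.card Q₀ :=
    h.card_of_le (Y := Q) le_rfl h.hDQ h.hKQ inf_le_left
  -- `Q₀ < Q`
  have hQ₀lt : Q₀ < Q := by
    refine lt_of_le_of_ne hQ₀Q ?_
    intro heq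
    apply h.hnc
    rw [Subgroup.le_centralizer_iff, ← heq]
    exact inf_le_right
  -- the minimal invariant subgroup containing `K*`
  set S : Set (Subgroup X) := {Y | Q ≤ Subgroup.normalizer (Y : Set X) ∧
    D ≤ Subgroup.normalizer (Y : Set X) ∧ K ≤ Subgroup.normalizer (Y : Set X) ∧ Ks ≤ Y} with hS
  have hQS : Q ∈ S := ⟨hQQ, h.hDQ, h.hKQ, inf_le_left⟩
  set Q₁ : Subgroup X := sInf S with hQ₁
  have hQ₁Q : Q₁ ≤ Q := sInf_le hQS
  have hQQ₁ : Q ≤ Subgroup.normalizer (Q₁ : Set X) := le_normalizer_sInf' (fun Y hY => hY.1)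
  have hDQ₁ : D ≤ Subgroup.normalizer (Q₁ : Set X) := le_normalizer_sInf' (fun Y hY => hY.2.1)
  have hKQ₁ : K ≤ Subgroup.normalizer (Q₁ : Set X) := le_normalizer_sInf' (fun Y hY => hY.2.2.1)
  have hKsQ₁ : Ks ≤ Q₁ := le_sInf (fun Y hY => hY.2.2.2)
  have hQ₁1 : Q₁ ≠ ⊥ := by
    intro h0
    apply hKs1
    rw [eq_bot_iff, ← h0]
    exact hKsQ₁
  -- `[Q₁, Q] ≤ Q₀`
  have hC : ⁅Q₁, Q⁆ ≤ Q₀ := by
    have hCQ₁ : ⁅Q₁, Q⁆ ≤ Q₁ := commutator_le_of_le_normalizer hQQ₁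
    have hCQ : ⁅Q₁, Q⁆ ≤ Q := hCQ₁.trans hQ₁Q
    have hnot : ¬ Ks ≤ ⁅Q₁, Q⁆ := by
      intro hle
      have hmem : ⁅Q₁, Q⁆ ∈ S :=
        ⟨le_normalizer_commutator' hQQ₁ hQQ, le_normalizer_commutator' hDQ₁ h.hDQ,
          le_normalizer_commutator' hKQ₁ h.hKQ, hle⟩
      exact not_le_commutator_of_isNilpotent hQnil hQ₁Q hQ₁1 (sInf_le hmem)
    exact le_inf hCQ (h.le_centralizer_of_not_le hCQ
      (le_normalizer_commutator' hDQ₁ h.hDQ) (le_normalizer_commutator' hKQ₁ h.hKQ) hnot)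
  -- `Q = Q₁ Q₀`
  have hcardQ₁ : Nat.card Q₁ = q ^ Nat.card K * Nat.card ↥(Q₁ ⊓ Q₀) := by
    have := h.card_of_le hQ₁Q hDQ₁ hKQ₁ hKsQ₁
    have e : Q₁ ⊓ Subgroup.centralizer (D : Set X) = Q₁ ⊓ Q₀ := by
      rw [hQ₀, ← inf_assoc, inf_eq_left.mpr hQ₁Q]
    rw [e] at this
    exact this
  have hsup : Q₁ ⊔ Q₀ = Q := by
    have hle : Q₁ ⊔ Q₀ ≤ Q := sup_le hQ₁Q hQ₀Q
    apply Subgroup.eq_of_le_of_card_ge hle
    have hprod := card_sup_mul_card_inf (hQ₀Q.trans hQQ₁)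
    rw [hcardQ₁] at hprod
    have hpos : 0 < Nat.card ↥(Q₁ ⊓ Q₀) := Nat.card_pos
    have : Nat.card ↥(Q₁ ⊔ Q₀) = q ^ Nat.card K * Nat.card Q₀ := by
      apply Nat.eq_of_mul_eq_mul_right hpos
      rw [hprod]; ring
    rw [this, hcardQ]
  -- `Q₀` is normal in `Q`
  have hQQ₀ : Q ≤ Subgroup.normalizer (Q₀ : Set X) := by
    rw [← hsup]
    apply sup_le
    · apply le_normalizer_of_conj_mem
      intro a ha y hy
      have h1 : ⁅a, y⁆ ∈ Q₀ := hC (Subgroup.commutator_mem_commutator ha (hQ₀Q hy))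
      have e : a * y * a⁻¹ = ⁅a, y⁆ * y := by
        rw [commutatorElement_def]; group
      rw [e]
      exact mul_mem h1 hy
    · exact Subgroup.le_normalizer
  -- minimality
  have hmin : ∀ N : Subgroup X, Q₀ < N → N < Q →
      Q ≤ Subgroup.normalizer (N : Set X) → D ≤ Subgroup.normalizer (N : Set X) →
      K ≤ Subgroup.normalizer (N : Set X) → False := by
    intro N hQ₀N hNQ _ hDN hKN
    by_cases hKsN : Ks ≤ N
    · have hc := h.card_of_le hNQ.le hDN hKN hKsN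
      have e : N ⊓ Subgroup.centralizer (D : Set X) = Q₀ := by
        apply le_antisymm
        · exact inf_le_inf_right _ hNQ.le
        · exact le_inf hQ₀N.le inf_le_right
      rw [e, ← hcardQ] at hc
      exact hNQ.ne (Subgroup.eq_of_le_of_card_ge hNQ.le hc.ge)
    · have := h.le_centralizer_of_not_le hNQ.le hDN hKN hKsN
      exact hQ₀N.not_ge (le_inf hNQ.le this)
  -- Frattini
  set Φ : Subgroup X := (frattini ↥Q).map Q.subtype with hΦ
  have hΦQ : Φ ≤ Q := Subgroup.map_subtype_le _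
  have hNΦ : Subgroup.normalizer (Q : Set X) ≤ Subgroup.normalizer (Φ : Set X) := by
    apply le_normalizer_of_conj_mem
    intro a ha y hy
    exact Cfsg.Agent.Lib.Helper90.conj_mem_frattini_map Q ha hy
  have hΦQ₀ : Φ ≤ Q₀ := by
    by_contra hnot
    have hlt : Q₀ < Q₀ ⊔ Φ := by
      refine lt_of_le_of_ne le_sup_left ?_
      intro heq
      apply hnot
      rw [heq]
      exact le_sup_right
    have hle : Q₀ ⊔ Φ ≤ Q := sup_le hQ₀Q hΦQ
    have hne : Q₀ ⊔ Φ ≠ Q := by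
      intro heq
      have h1 : Q₀.subgroupOf Q ⊔ frattini ↥Q = ⊤ := by
        apply Subgroup.map_injective Q.subtype_injective
        rw [Subgroup.map_sup, Subgroup.map_subgroupOf_eq_of_le hQ₀Q, ← hΦ, heq,
          ← MonoidHom.range_eq_map, Subgroup.range_subtype]
      have h2 := frattini_nongenerating h1
      rw [Subgroup.subgroupOf_eq_top] at h2
      exact hQ₀lt.not_ge h2
    exact hmin (Q₀ ⊔ Φ) hlt (lt_of_le_of_ne hle hne)
      (le_normalizer_sup' hQQ₀ (hQQ.trans hNΦ)) (le_normalizer_sup' hDQ₀ (h.hDQ.trans hNΦ))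
      (le_normalizer_sup' hKQ₀ (h.hKQ.trans hNΦ))
  refine ⟨hQQ₀, hDQ₀, hKQ₀, hQ₀lt, ?_, ?_, hmin⟩
  · rw [hcardQ, mul_comm]
  · intro a ha b hb
    constructor
    · exact hΦQ₀ (Cfsg.Agent.Lib.Helper97.pow_prime_mem_map_frattini h.hQ ha)
    · apply hΦQ₀
      apply Cfsg.Agent.Lib.Helper97.commutator_le_map_frattini h.hQ
      have := Subgroup.commutator_mem_commutator ha hb
      rwa [commutatorElement_def] at this

end

end Cfsg.Agent.Lib.Helper55.BGFifteen
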