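import Mathlib
import Cfsg.Agent.Lib.Helper55.BGFifteenC
import Cfsg.Agent.Lib.Helper62.PiHall
import Cfsg.Agent.Lib.Helper23.TypeP
import Cfsg.Agent.Lib.Helper71.Fitting
import Cfsg.Agent.Lib.Helper1.ThompsonFpf
import Cfsg.Agent.S3745

/-!
# Bender–Glauberman Theorem 15.2, abstract core (part D)

`core`: a solvable group `Ms` acted on coprimely and semiprimely by `K ≠ 1` with fixed points `K*` of
prime order `q`, with a normal Sylow `q`-subgroup `Q ⊇ K*` invariant under `K`, and `Ms` not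
nilpotent.  Then `|K|` is prime and for every complement `D` of `Q` in `Ms`: `D` is nilpotent,
`Q₀ = C_Q(D)` is normal in `Ms K`, `Q₀ < Q`, `|Q| = |Q₀| q ^ |K|`, `Q / Q₀` is elementary abelian and a
chief factor of `Ms K`.
-/

set_option autoImplicit false
set_option linter.unusedSectionVars false

namespace Cfsg.Agent.Lib.Helper55.BGFifteen

open Cfsg
open scoped commutatorElement

variable {G : Type*} [Group G]

/-- Thompson: a finite group normalized by an element `a` with `a ^ p = 1` that centralizes no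
nonidentity element of it is nilpotent. -/
theorem isNilpotent_of_fpf_conj' [Finite G] {p : ℕ} (hp : p.Prime) (K : Subgroup G) (a : G)
    (hap : a ^ p = 1) (hnorm : ∀ y ∈ K, a * y * a⁻¹ ∈ K)
    (hfpf : ∀ y ∈ K, a * y = y * a → y = 1) : Group.IsNilpotent K := by
  have hnorm' : ∀ y ∈ K, a⁻¹ * y * a ∈ K := by
    have hinj : Function.Injective (fun y : K => (⟨a * y * a⁻¹, hnorm y y.2⟩ : K)) := by
      intro y z h
      have h1 : a * (y : G) * a⁻¹ = a * (z : G) * a⁻¹ := congrArg Subtype.val h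
      apply Subtype.ext
      simpa using h1
    have hsurj := Finite.surjective_of_injective hinj
    intro y hy
    obtain ⟨z, hz⟩ := hsurj ⟨y, hy⟩
    have h1 : a * (z : G) * a⁻¹ = y := congrArg Subtype.val hz
    have : a⁻¹ * y * a = z := by rw [← h1]; group
    rw [this]; exact z.2
  let φ : MulAut K :=
    { toFun := fun y => ⟨a * y * a⁻¹, hnorm y y.2⟩
      invFun := fun y => ⟨a⁻¹ * y * a, hnorm' y y.2⟩
      left_inv := fun y => by apply Subtype.ext; simp [mul_assoc]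
      right_inv := fun y => by apply Subtype.ext; simp [mul_assoc]
      map_mul' := fun y z => by apply Subtype.ext; simp [mul_assoc] }
  have hφpow : ∀ (n : ℕ) (y : K), (((φ ^ n) y : K) : G) = a ^ n * y * (a ^ n)⁻¹ := by
    intro n
    induction n with
    | zero => intro y; simp
    | succ n ih =>
      intro y
      rw [pow_succ', MulAut.mul_apply]
      show a * ((φ ^ n) y : G) * a⁻¹ = _
      rw [ih y, pow_succ']
      group
  have hpow : φ ^ p = 1 := by
    ext y
    rw [hφpow p y, hap]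
    simp
  refine Cfsg.Agent.Lib.Helper1.fpf_nilpotent_aux p hp _ K rfl φ hpow ?_
  intro y hy
  have h1 : a * (y : G) * a⁻¹ = y := congrArg Subtype.val hy
  have h2 : a * (y : G) = y * a := by
    calc a * (y : G) = a * y * a⁻¹ * a := by group
      _ = y * a := by rw [h1]
  exact Subtype.ext (hfpf y y.2 h2)

theorem card_subgroupOf_of_le' {N X : Subgroup G} (h : N ≤ X) :
    Nat.card ↥(N.subgroupOf X) = Nat.card ↥N :=
  Nat.card_congr (Subgroup.subgroupOfEquivOfLe h).toEquiv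

theorem isComplIn_of_card' [Finite G] {N H X : Subgroup G} (hNX : N ≤ X) (hHX : H ≤ X)
    (hcop : (Nat.card N).Coprime (Nat.card H))
    (hcard : Nat.card N * Nat.card H = Nat.card X) : IsComplIn N H X := by
  refine ⟨hNX, hHX, (Subgroup.disjoint_of_coprime_natCard hcop).eq_bot, ?_⟩
  have hc : Subgroup.IsComplement' (N.subgroupOf X) (H.subgroupOf X) := by
    apply Subgroup.isComplement'_of_coprime
    · rw [card_subgroupOf_of_le' hNX, card_subgroupOf_of_le' hHX, hcard]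
    · rw [card_subgroupOf_of_le' hNX, card_subgroupOf_of_le' hHX]
      exact hcop
  intro m hm
  obtain ⟨⟨n, h⟩, hnh⟩ := hc.2 ⟨m, hm⟩
  refine ⟨(n : ↥X), Subgroup.mem_subgroupOf.1 n.2, (h : ↥X), Subgroup.mem_subgroupOf.1 h.2, ?_⟩
  have := congrArg (Subtype.val : ↥X → G) hnh
  exact this.symm

theorem sup_eq_of_isComplIn {A B M : Subgroup G} (h : IsComplIn A B M) : A ⊔ B = M := by
  apply le_antisymm (sup_le h.1 h.2.1)
  intro m hm
  obtain ⟨a, ha, b, hb, rfl⟩ := h.2.2.2 m hm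
  exact mul_mem ((le_sup_left : A ≤ A ⊔ B) ha) ((le_sup_right : B ≤ A ⊔ B) hb)

/-- two commuting nilpotent subgroups generate a nilpotent subgroup -/
theorem isNilpotent_of_isComplIn_of_le_centralizer {A B M : Subgroup G}
    (h : IsComplIn A B M) (hA : Group.IsNilpotent A) (hB : Group.IsNilpotent B)
    (hc : B ≤ Subgroup.centralizer (A : Set G)) : Group.IsNilpotent M := by
  have hsup := sup_eq_of_isComplIn h
  have hAc : A ≤ Subgroup.centralizer (B : Set G) := Subgroup.le_centralizer_iff.mp hc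
  have hMA : M ≤ Subgroup.normalizer (A : Set G) := by
    rw [← hsup]
    exact sup_le Subgroup.le_normalizer (hc.trans (Subgroup.centralizer_le_normalizer _))
  have hMB : M ≤ Subgroup.normalizer (B : Set G) := by
    rw [← hsup]
    exact sup_le (hAc.trans (Subgroup.centralizer_le_normalizer _)) Subgroup.le_normalizer
  have : (A.subgroupOf M).Normal := Subgroup.normal_subgroupOf_of_le_normalizer hMA
  have : (B.subgroupOf M).Normal := Subgroup.normal_subgroupOf_of_le_normalizer hMB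
  have hA' : Group.IsNilpotent (A.subgroupOf M) :=
    Group.nilpotent_of_mulEquiv (Subgroup.subgroupOfEquivOfLe h.1).symm
  have hB' : Group.IsNilpotent (B.subgroupOf M) :=
    Group.nilpotent_of_mulEquiv (Subgroup.subgroupOfEquivOfLe h.2.1).symm
  have hn := Cfsg.Agent.Lib.Helper71.isNilpotent_sup_of_normal (A.subgroupOf M) (B.subgroupOf M)
    hA' hB'
  have htop : A.subgroupOf M ⊔ B.subgroupOf M = ⊤ := by
    rw [← Subgroup.subgroupOf_sup h.1 h.2.1, hsup, Subgroup.subgroupOf_self]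
  rw [htop] at hn
  exact Group.isNilpotent_top.mp hn

theorem map_conj_eq_of_mem_normalizer {Y : Subgroup G} {c : G}
    (hc : c ∈ Subgroup.normalizer (Y : Set G)) : Y.map (MulAut.conj c).toMonoidHom = Y := by
  ext x
  constructor
  · rintro ⟨y, hy, rfl⟩
    simpa using mem_normalizer_conj hc hy
  · intro hx
    refine ⟨c⁻¹ * x * c, mem_normalizer_conj' hc hx, ?_⟩
    simp [mul_assoc]

/-- `C_Q(c D c⁻¹) = c C_Q(D) c⁻¹` for `c` normalizing `Q` -/
theorem inf_centralizer_map_conj {Q D : Subgroup G} {c : G}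
    (hc : c ∈ Subgroup.normalizer (Q : Set G)) :
    Q ⊓ Subgroup.centralizer ((D.map (MulAut.conj c).toMonoidHom : Subgroup G) : Set G) =
      (Q ⊓ Subgroup.centralizer (D : Set G)).map (MulAut.conj c).toMonoidHom := by
  ext x
  constructor
  · intro hx
    rw [Subgroup.mem_inf] at hx
    obtain ⟨hxQ, hxC⟩ := hx
    refine ⟨c⁻¹ * x * c, Subgroup.mem_inf.mpr ⟨mem_normalizer_conj' hc hxQ, ?_⟩,
      by simp [mul_assoc]⟩
    rw [Subgroup.mem_centralizer_iff] at hxC ⊢
    intro d hd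
    have h1 := hxC (c * d * c⁻¹) ⟨d, hd, by simp⟩
    calc d * (c⁻¹ * x * c) = c⁻¹ * ((c * d * c⁻¹) * x) * c := by group
      _ = c⁻¹ * (x * (c * d * c⁻¹)) * c := by rw [h1]
      _ = c⁻¹ * x * c * d := by group
  · rintro ⟨y, hy, rfl⟩
    rw [SetLike.mem_coe, Subgroup.mem_inf] at hy
    obtain ⟨hyQ, hyC⟩ := hy
    refine Subgroup.mem_inf.mpr ⟨by simpa using mem_normalizer_conj hc hyQ, ?_⟩
    rw [Subgroup.mem_centralizer_iff] at hyC ⊢
    rintro _ ⟨d, hd, rfl⟩
    have h1 := hyC d hd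
    simp only [MulEquiv.coe_toMonoidHom, MulAut.conj_apply]
    calc c * d * c⁻¹ * (c * y * c⁻¹) = c * (d * y) * c⁻¹ := by group
      _ = c * (y * d) * c⁻¹ := by rw [h1]
      _ = c * y * c⁻¹ * (c * d * c⁻¹) := by group

theorem core [Finite G] (q : ℕ) [Fact q.Prime] (Ms K Q : Subgroup G)
    (hsolv : Group.IsSolvable Ms) (hKMs : K ≤ Subgroup.normalizer (Ms : Set G))
    (hcop : (Nat.card K).Coprime (Nat.card Ms)) (hK1 : K ≠ ⊥)
    (hsemi : ∀ k ∈ K, k ≠ 1 →
      Ms ⊓ Subgroup.centralizer ({k} : Set G) = Ms ⊓ Subgroup.centralizer (K : Set G))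
    (hKs : Nat.card ↥(Ms ⊓ Subgroup.centralizer (K : Set G)) = q)
    (hKsQ : Ms ⊓ Subgroup.centralizer (K : Set G) ≤ Q)
    (hQMs : Q ≤ Ms) (hQ : IsPGroup q Q) (hMsQ : Ms ≤ Subgroup.normalizer (Q : Set G))
    (hKQ : K ≤ Subgroup.normalizer (Q : Set G))
    (hsyl : ¬ q ∣ Q.relIndex Ms) (hnn : ¬ Group.IsNilpotent Ms) :
    (Nat.card K).Prime ∧ ∀ D : Subgroup G, Cfsg.IsComplIn Q D Ms →
      Group.IsNilpotent D ∧
      Ms ⊔ K ≤ Subgroup.normalizer ((Q ⊓ Subgroup.centralizer (D : Set G) : Subgroup G) : Set G) ∧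
      Q ⊓ Subgroup.centralizer (D : Set G) < Q ∧
      Nat.card Q = Nat.card ↥(Q ⊓ Subgroup.centralizer (D : Set G)) * q ^ Nat.card K ∧
      (∀ a ∈ Q, ∀ b ∈ Q, a ^ q ∈ Q ⊓ Subgroup.centralizer (D : Set G) ∧
        a * b * a⁻¹ * b⁻¹ ∈ Q ⊓ Subgroup.centralizer (D : Set G)) ∧
      ∀ N : Subgroup G, Q ⊓ Subgroup.centralizer (D : Set G) < N → N < Q →
        ¬ Ms ⊔ K ≤ Subgroup.normalizer (N : Set G) := by
  have hq : q.Prime := Fact.out
  set Ks : Subgroup G := Ms ⊓ Subgroup.centralizer (K : Set G) with hKsdef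
  -- `q ∣ |Ms|`, so `|K|` is prime to `q`
  have hqMs : q ∣ Nat.card Ms := by
    rw [← hKs]
    exact Subgroup.card_dvd_of_le inf_le_left
  have hcopKq : (Nat.card K).Coprime q := Nat.Coprime.coprime_dvd_right hqMs hcop
  -- the `K`-invariant Hall `q'`-subgroup
  set π : Set ℕ := {p | p.Prime ∧ p ≠ q} with hπ
  obtain ⟨⟨D₀, hD₀H, hKD₀⟩, -, -⟩ := Cfsg.Agent.S3745.result K Ms hKMs hcop hsolv π
  have hD₀Ms : D₀ ≤ Ms := hD₀H.1
  have hcopD₀ : (Nat.card D₀).Coprime q := by
    rw [Nat.coprime_comm, Nat.Prime.coprime_iff_not_dvd hq]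
    intro hd
    exact (hD₀H.2.1 q hq hd).2 rfl
  obtain ⟨n, hn⟩ := hQ.exists_card_eq
  have hcardD₀ : Nat.card D₀ = Q.relIndex Ms := by
    have h1 := Cfsg.Agent.Lib.Helper62.isPiHallOf_card_mul hD₀H
    have h2 := Cfsg.Agent.Lib.Helper54.card_mul_relIndex hQMs
    have h3 : Nat.card D₀ * D₀.relIndex Ms = Q.relIndex Ms * Nat.card Q := by
      rw [h1, ← h2, mul_comm]
    refine Cfsg.Agent.Lib.Helper62.pi_part_unique (π := π) h3 hD₀H.2.1 hD₀H.2.2 ?_ ?_
    · intro p hp hpd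
      refine ⟨hp, ?_⟩
      rintro rfl
      exact hsyl hpd
    · intro p hp hpπ hpd
      rw [hn] at hpd
      exact hpπ.2 ((Nat.prime_dvd_prime_iff_eq hp hq).mp (hp.dvd_of_dvd_pow hpd))
  have hcopQD₀ : (Nat.card Q).Coprime (Nat.card D₀) := by
    rw [hn]
    exact Nat.Coprime.pow_left n hcopD₀.symm
  have hcompl₀ : IsComplIn Q D₀ Ms := by
    apply isComplIn_of_card' hQMs hD₀Ms hcopQD₀
    rw [hcardD₀]
    exact Cfsg.Agent.Lib.Helper54.card_mul_relIndex hQMs
  have hdisj : Q ⊓ D₀ = ⊥ := hcompl₀.2.2.1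
  -- `K` acts without fixed points on `D₀`
  have hfpf : ∀ k ∈ K, k ≠ 1 → ∀ u ∈ D₀, k * u = u * k → u = 1 := by
    intro k hk hk1 u hu hku
    have h1 : u ∈ Ms ⊓ Subgroup.centralizer ({k} : Set G) := by
      refine Subgroup.mem_inf.mpr ⟨hD₀Ms hu, ?_⟩
      rw [Subgroup.mem_centralizer_singleton_iff]
      exact hku.symm
    rw [hsemi k hk hk1] at h1
    have h2 : u ∈ Q ⊓ D₀ := Subgroup.mem_inf.mpr ⟨hKsQ h1, hu⟩
    rw [hdisj] at h2
    exact Subgroup.mem_bot.mp h2
  -- `D₀` is nilpotent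
  have hD₀nil : Group.IsNilpotent D₀ := by
    have hK1' : Nat.card K ≠ 1 := fun h1 => hK1 (Subgroup.card_eq_one.mp h1)
    obtain ⟨p, hp, hpK⟩ := Nat.exists_prime_and_dvd hK1'
    have : Fact p.Prime := ⟨hp⟩
    obtain ⟨k, hk⟩ := exists_prime_orderOf_dvd_card' (G := K) p hpK
    have hk1 : (k : G) ≠ 1 := by
      intro h1
      have : k = 1 := Subtype.ext h1
      rw [this, orderOf_one] at hk
      exact hp.one_lt.ne hk
    have hkp : (k : G) ^ p = 1 := by
      have := pow_orderOf_eq_one k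
      rw [hk] at this
      exact_mod_cast congrArg Subtype.val this
    apply isNilpotent_of_fpf_conj' hp D₀ (k : G) hkp
    · intro y hy
      exact mem_normalizer_conj (hKD₀ k.2) hy
    · intro y hy hc
      exact hfpf (k : G) k.2 hk1 y hy hc
  -- the `PrimAct` structure
  have hQKs : Q ⊓ Subgroup.centralizer (K : Set G) = Ks := by
    apply le_antisymm
    · exact inf_le_inf_right _ hQMs
    · exact le_inf hKsQ inf_le_right
  have hPA : PrimAct q Q D₀ K := by
    refine ⟨hQ, hD₀Ms.trans hMsQ, hKQ, hKD₀, hK1, hfpf, hcopD₀, hcopKq, ?_, ?_, ?_⟩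
    · rw [hQKs]; exact hKs
    · intro k hk hk1
      rw [hQKs]
      apply le_antisymm
      · rw [← hsemi k hk hk1]
        exact inf_le_inf_right _ hQMs
      · refine le_inf hKsQ ?_
        rw [← hsemi k hk hk1]
        exact inf_le_right
    · intro hc
      exact hnn (isNilpotent_of_isComplIn_of_le_centralizer hcompl₀ hQ.isNilpotent hD₀nil hc)
  obtain ⟨hQQ₀, hDQ₀, hKQ₀, hlt, hcard, hel, hmin⟩ := hPA.main
  refine ⟨hPA.card_K_prime, ?_⟩
  have hsup₀ := sup_eq_of_isComplIn hcompl₀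
  have hMsQ₀ : Ms ≤ Subgroup.normalizer
      ((Q ⊓ Subgroup.centralizer (D₀ : Set G) : Subgroup G) : Set G) := by
    rw [← hsup₀]
    exact sup_le hQQ₀ hDQ₀
  intro D hD
  -- `D` is conjugate to `D₀`
  have hDH : IsPiHallOf π D Ms := by
    have hcardD : Nat.card D = Q.relIndex Ms := by
      have h1 := Cfsg.Agent.Lib.Helper23.card_of_isComplIn hD
      have h2 := Cfsg.Agent.Lib.Helper54.card_mul_relIndex hQMs
      rw [h1] at h2
      exact (Nat.eq_of_mul_eq_mul_left Nat.card_pos h2).symm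
    exact Cfsg.Agent.Lib.Helper62.isPiHallOf_of_card_eq hD₀H hD.2.1 (hcardD.trans hcardD₀.symm)
  obtain ⟨c, hcMs, hcD⟩ := Cfsg.Agent.Lib.Helper62.isPiHallOf_conj hsolv hD₀H hDH
  have hDmap : D = D₀.map (MulAut.conj c).toMonoidHom := by
    rw [← hcD]
    rfl
  have hQ₀eq : Q ⊓ Subgroup.centralizer (D : Set G) = Q ⊓ Subgroup.centralizer (D₀ : Set G) := by
    rw [hDmap, inf_centralizer_map_conj (hMsQ hcMs)]
    exact map_conj_eq_of_mem_normalizer (hMsQ₀ hcMs)
  rw [hQ₀eq]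
  refine ⟨?_, sup_le hMsQ₀ hKQ₀, hlt, hcard, hel, ?_⟩
  · rw [hDmap]
    exact Group.nilpotent_of_surjective ((MulAut.conj c).toMonoidHom.subgroupMap D₀)
      ((MulAut.conj c).toMonoidHom.subgroupMap_surjective D₀)
  · intro N hN1 hN2 hMN
    exact hmin N hN1 hN2 ((hQMs.trans le_sup_left).trans hMN)
      ((hD₀Ms.trans le_sup_left).trans hMN) (le_sup_right.trans hMN)

end Cfsg.Agent.Lib.Helper55.BGFifteen
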