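import Mathlib
import Cfsg.Prelude.Def_OddOrder
import Cfsg.Prelude.Def_OddOrderLocal
import Cfsg.Agent.Lib.Helper55.BGFifteenD

/-!
# Bender–Glauberman Theorem 15.2 (a)–(f): assembly

`s1437_of`: the statement of S1437 from the output of steps 1–5 (helper47's `steps15`) and the
abstract `core` of part D.
-/

set_option autoImplicit false
set_option linter.unusedSectionVars false

namespace Cfsg.Agent.Lib.Helper55.BGFifteen

open Cfsg

variable {G : Type*} [Group G]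

theorem le_normalizer_map_subtype' (M : Subgroup G) (N : Subgroup M) [hN : N.Normal] :
    M ≤ Subgroup.normalizer ((N.map M.subtype : Subgroup G) : Set G) := by
  apply le_normalizer_of_conj_mem
  rintro a ha _ ⟨y, hy, rfl⟩
  exact ⟨⟨a, ha⟩ * y * ⟨a, ha⟩⁻¹, hN.conj_mem y hy ⟨a, ha⟩, by simp⟩

theorem le_normalizer_sigmaCore' (M : Subgroup G) :
    M ≤ Subgroup.normalizer (sigmaCore M : Set G) :=
  le_normalizer_map_subtype' M (piCore (sigma M) ↥M)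

/-- The conclusion of steps 1–5 of the proof of B&G Theorem 15.2. -/
def Steps15 (M K U : Subgroup G) : Prop :=
  U = ⊥ ∧ sigmaCore M = ⁅M, M⁆ ∧ M = sigmaCore M ⊔ K ∧ K ≠ ⊥ ∧
    ¬ Group.IsNilpotent (sigmaCore M) ∧
    (Nat.card K).Coprime (Nat.card (sigmaCore M)) ∧
    (∀ k ∈ K, k ≠ 1 → sigmaCore M ⊓ Subgroup.centralizer ({k} : Set G) =
      sigmaCore M ⊓ Subgroup.centralizer (K : Set G)) ∧
    (Nat.card ↥(sigmaCore M ⊓ Subgroup.centralizer (K : Set G))).Prime ∧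
    Nat.card ↥(sigmaCore M ⊓ Subgroup.centralizer (K : Set G)) ∣ Nat.card (fittingHallOf M) ∧
    Nat.card ↥(sigmaCore M ⊓ Subgroup.centralizer (K : Set G)) ∈ beta M ∧
    ∃ Q : Subgroup G, sigmaCore M ⊓ Subgroup.centralizer (K : Set G) ≤ Q ∧
      Q ≤ fittingHallOf M ∧ Q ≤ sigmaCore M ∧ M ≤ Subgroup.normalizer (Q : Set G) ∧
      IsPGroup (Nat.card ↥(sigmaCore M ⊓ Subgroup.centralizer (K : Set G))) Q ∧
      ¬ Nat.card ↥(sigmaCore M ⊓ Subgroup.centralizer (K : Set G)) ∣ Q.relIndex (sigmaCore M)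

theorem s1437_of [Finite G] (hG : IsMinSimpleOddOrder G) (M : Subgroup G) (hM : IsCoatom M)
    (K U : Subgroup G) (h15 : Steps15 M K U) :
    U = ⊥ ∧ Cfsg.sigmaCore M = ⁅M, M⁆ ∧ (Nat.card K).Prime ∧ (Nat.card ↥(Cfsg.sigmaCore M ⊓ Subgroup.centralizer (K : Set G))).Prime ∧
      Nat.card ↥(Cfsg.sigmaCore M ⊓ Subgroup.centralizer (K : Set G)) ∣ Nat.card (Cfsg.fittingHallOf M) ∧ Nat.card ↥(Cfsg.sigmaCore M ⊓ Subgroup.centralizer (K : Set G)) ∈ Cfsg.beta M ∧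
      ∃ Q : Subgroup G, Q ≤ Cfsg.fittingHallOf M ∧ M ≤ Subgroup.normalizer (Q : Set G) ∧ IsPGroup (Nat.card ↥(Cfsg.sigmaCore M ⊓ Subgroup.centralizer (K : Set G))) Q ∧
        ¬ Nat.card ↥(Cfsg.sigmaCore M ⊓ Subgroup.centralizer (K : Set G)) ∣ Q.relIndex (Cfsg.sigmaCore M) ∧
        ∀ D : Subgroup G, Cfsg.IsComplIn Q D (Cfsg.sigmaCore M) →
          Group.IsNilpotent D ∧ M ≤ Subgroup.normalizer ((Q ⊓ Subgroup.centralizer (D : Set G) : Subgroup G) : Set G) ∧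
          Q ⊓ Subgroup.centralizer (D : Set G) < Q ∧
          Nat.card Q = Nat.card ↥(Q ⊓ Subgroup.centralizer (D : Set G)) * Nat.card ↥(Cfsg.sigmaCore M ⊓ Subgroup.centralizer (K : Set G)) ^ Nat.card K ∧
          (∀ a ∈ Q, ∀ b ∈ Q, a ^ Nat.card ↥(Cfsg.sigmaCore M ⊓ Subgroup.centralizer (K : Set G)) ∈ Q ⊓ Subgroup.centralizer (D : Set G) ∧
            a * b * a⁻¹ * b⁻¹ ∈ Q ⊓ Subgroup.centralizer (D : Set G)) ∧
          ∀ N : Subgroup G, Q ⊓ Subgroup.centralizer (D : Set G) < N → N < Q → ¬ M ≤ Subgroup.normalizer (N : Set G) := by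
  obtain ⟨hU, hder, hMeq, hK1, hnn, hcop, hsemi, hqp, hqF, hqβ, Q, hKsQ, hQF, hQMs, hMQ, hQ, hsyl⟩ :=
    h15
  have hMsM : sigmaCore M ≤ M := Subgroup.map_subtype_le _
  have hKM : K ≤ M := by
    rw [hMeq]; exact le_sup_right
  have hsolv : Group.IsSolvable (sigmaCore M) := by
    apply hG.2.2.2
    intro htop
    apply hM.1
    rw [eq_top_iff, ← htop]
    exact hMsM
  have : Fact (Nat.card ↥(sigmaCore M ⊓ Subgroup.centralizer (K : Set G))).Prime := ⟨hqp⟩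
  obtain ⟨hKp, hD⟩ := core (Nat.card ↥(sigmaCore M ⊓ Subgroup.centralizer (K : Set G)))
    (sigmaCore M) K Q hsolv (hKM.trans (le_normalizer_sigmaCore' M)) hcop hK1 hsemi rfl hKsQ hQMs hQ
    (hMsM.trans hMQ) (hKM.trans hMQ) hsyl hnn
  refine ⟨hU, hder, hKp, hqp, hqF, hqβ, Q, hQF, hMQ, hQ, hsyl, ?_⟩
  intro D hDc
  obtain ⟨h1, h2, h3, h4, h5, h6⟩ := hD D hDc
  refine ⟨h1, hMeq.le.trans h2, h3, h4, h5, ?_⟩
  intro N hN1 hN2 hMN
  exact h6 N hN1 hN2 (hMeq.ge.trans hMN)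

end Cfsg.Agent.Lib.Helper55.BGFifteen
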