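import Cfsg.Agent.Lib.Helper55.BGThirteenF

/-!
# Bender–Glauberman §12, towards statement S1421: `U` fixes a point of `A`
-/

set_option autoImplicit false
open Cfsg

namespace Cfsg.Agent.Lib.Helper55.BGThirteen

open Cfsg.Agent.Lib
open scoped commutatorElement Pointwise

variable {G : Type*} [Group G]

/-- all Sylow `p`-subgroups are commutative as soon as one is -/
theorem sylow_comm_of_exists [Finite G] {p : ℕ} [Fact p.Prime]
    (h : ∃ S : Sylow p G, IsMulCommutative (S : Subgroup G)) (S' : Sylow p G) :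
    IsMulCommutative (S' : Subgroup G) := by
  obtain ⟨S, hS⟩ := h
  obtain ⟨g, rfl⟩ := MulAction.exists_smul_eq G S S'
  refine ⟨⟨?_⟩⟩
  rintro ⟨x, hx⟩ ⟨y, hy⟩
  apply Subtype.ext
  show x * y = y * x
  rw [Sylow.smul_def, Sylow.pointwise_smul_def] at hx hy
  rw [Helper54.mem_conj_smul_iff] at hx hy
  have h1 := congrArg Subtype.val (hS.is_comm.comm ⟨_, hx⟩ ⟨_, hy⟩)
  have h2 : (g⁻¹ * x * g) * (g⁻¹ * y * g) = (g⁻¹ * y * g) * (g⁻¹ * x * g) := h1
  calc x * y = g * ((g⁻¹ * x * g) * (g⁻¹ * y * g)) * g⁻¹ := by group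
    _ = g * ((g⁻¹ * y * g) * (g⁻¹ * x * g)) * g⁻¹ := by rw [h2]
    _ = y * x := by group

/-- `τ₂(M)`-elements of `E` for a second prime `r` (with abelian Sylow subgroups) centralize `A`. -/
theorem tau2_centralizes [Finite G] (hG : IsMinSimpleOddOrder G) (M : Subgroup G)
    (hM : IsCoatom M) (E : Subgroup G) (hE : IsComplIn E (sigmaCore M) M) (p : ℕ)
    [Fact p.Prime] (hp : p ∈ tau2 M)
    (A : Subgroup G) (hA : A ≤ E ∧ IsElementaryAbelian p A ∧ Nat.card A = p ^ 2)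
    (r : ℕ) [Fact r.Prime] (hr : r ∈ tau2 M) (hrp : r ≠ p)
    (hSr : ∃ S : Sylow r G, IsMulCommutative (S : Subgroup G))
    (e : G) (heE : e ∈ E) (k : ℕ) (hek : e ^ r ^ k = 1) :
    e ∈ Subgroup.centralizer (A : Set G) := by
  have hpp : p.Prime := Fact.out
  have hrr : r.Prime := Fact.out
  have hr1 : ¬ PRankLE r 1 ↥E :=
    Helper97.BGTwelve.not_pRankLE_complement hE (Helper54.sigmaCore_isPi M) hr.2.1 hr.2.2.2
  obtain ⟨B, hBE, hBe, hBc⟩ := Helper97.BGTwelve.exists_elemAb_sq_of_not_pRankLE_one E hr1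
  have hBr : IsPGroup r B := by
    intro b
    refine ⟨1, ?_⟩
    rw [pow_one]
    apply Subtype.ext
    simpa using hBe.2 b b.2
  obtain ⟨S, hBS⟩ := hBr.exists_le_sylow
  have hSc := sylow_comm_of_exists hSr S
  obtain ⟨hSE, -, hNS, -⟩ := ab_structure hG M hM E hE r hr B ⟨hBE, hBe, hBc⟩ S hSc hBS
  obtain ⟨⟨hENB, -⟩, -, -⟩ := Cfsg.Agent.S1418.result hG M hM E hE r hr B ⟨hBE, hBe, hBc⟩
  obtain ⟨⟨hENA, -⟩, -, -⟩ := Cfsg.Agent.S1418.result hG M hM E hE p hp A hA
  have hES : E ≤ Subgroup.normalizer ((S : Subgroup G) : Set G) := hENB.trans hNS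
  have heS : e ∈ (S : Subgroup G) := mem_sylow_of_mem_normalizer S (hES heE) hek
  have hSA : (S : Subgroup G) ⊓ A = ⊥ := by
    apply Disjoint.eq_bot
    apply Subgroup.disjoint_of_coprime_natCard
    obtain ⟨m, hm⟩ := S.isPGroup'.exists_card_eq
    rw [hm, hA.2.2]
    exact Nat.Coprime.pow m 2 ((Nat.coprime_primes hrr hpp).mpr hrp)
  rw [Subgroup.mem_centralizer_iff]
  intro a ha
  have h1 : a * e⁻¹ * a⁻¹ ∈ (S : Subgroup G) :=
    (Subgroup.mem_normalizer_iff.mp (hES (hA.1 ha)) e⁻¹).mp (inv_mem heS)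
  have h2 : e * a * e⁻¹ ∈ A := (Subgroup.mem_normalizer_iff.mp (hENA heE) a).mp ha
  have h3 : e * a * e⁻¹ * a⁻¹ ∈ (S : Subgroup G) ⊓ A := by
    refine Subgroup.mem_inf.mpr ⟨?_, mul_mem h2 (inv_mem ha)⟩
    have h4 : e * a * e⁻¹ * a⁻¹ = e * (a * e⁻¹ * a⁻¹) := by group
    rw [h4]
    exact mul_mem heS h1
  rw [hSA, Subgroup.mem_bot] at h3
  calc a * e = (e * a * e⁻¹ * a⁻¹)⁻¹ * (e * a) := by group
    _ = e * a := by rw [h3, inv_one, one_mul]

/-- **`U` fixes a point of `A`.** -/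
theorem reducible [Finite G] (hG : IsMinSimpleOddOrder G) (M : Subgroup G) (hM : IsCoatom M)
    (E : Subgroup G) (hE : IsComplIn E (sigmaCore M) M) (p : ℕ) [Fact p.Prime] (hp : p ∈ tau2 M)
    (A : Subgroup G) (hA : A ≤ E ∧ IsElementaryAbelian p A ∧ Nat.card A = p ^ 2)
    (S : Sylow p G) (hSc : IsMulCommutative (S : Subgroup G)) (hAS : A ≤ (S : Subgroup G))
    (U : Subgroup G) (hUE : U ≤ E)
    (hH : ∀ e ∈ U, e ≠ 1 → (∀ q : ℕ, q.Prime → q ∣ orderOf e → q ∈ tau1 M ∪ tau3 M) →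
      sigmaCore M ⊓ Subgroup.centralizer ({e} : Set G) = ⊥)
    (hT : ∀ r : ℕ, r.Prime → r ∈ tau2 M → r ≠ p → ∀ e ∈ U, ∀ k : ℕ, e ^ r ^ k = 1 →
      e ∈ Subgroup.centralizer (A : Set G)) :
    ∃ X : Subgroup G, X ≤ A ∧ Nat.card X = p ∧ U ≤ Subgroup.normalizer (X : Set G) := by
  have hpp : p.Prime := Fact.out
  obtain ⟨hSE, hΩ, hNS, hNC⟩ := ab_structure hG M hM E hE p hp A hA S hSc hAS
  obtain ⟨⟨hEN, -⟩, -, -⟩ := Cfsg.Agent.S1418.result hG M hM E hE p hp A hA
  have hSC : (S : Subgroup G) ≤ Subgroup.centralizer (A : Set G) := by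
    intro x hx
    rw [Subgroup.mem_centralizer_iff]
    intro a ha
    exact congrArg Subtype.val (hSc.is_comm.comm ⟨a, hAS ha⟩ ⟨x, hx⟩)
  by_cases hUC : U ≤ Subgroup.centralizer (A : Set G)
  · -- any point
    have hA1 : A ≠ ⊥ := by
      intro h
      have h1 := hA.2.2
      rw [h, Subgroup.card_bot] at h1
      have : 1 < p ^ 2 := Nat.one_lt_pow (by norm_num) hpp.one_lt
      omega
    obtain ⟨a, ha1⟩ := (Subgroup.ne_bot_iff_exists_ne_one).mp hA1
    have ha1' : (a : G) ≠ 1 := fun h => ha1 (Subtype.ext h)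
    have hord : orderOf (a : G) = p := orderOf_eq_prime (hA.2.1.2 a a.2) ha1'
    refine ⟨Subgroup.zpowers (a : G), by rw [Subgroup.zpowers_le]; exact a.2, by
      rw [Nat.card_zpowers, hord], ?_⟩
    intro u hu
    apply mem_normalizer_zpowers_of_commute
    exact (Subgroup.mem_centralizer_iff.mp (hUC hu) a a.2).symm
  · obtain ⟨u, huU, huC⟩ := SetLike.not_le_iff_exists.mp hUC
    have hex : ∃ (q : ℕ) (_ : q.Prime) (k j : ℕ), (u ^ k) ^ q ^ j = 1 ∧
        u ^ k ∉ Subgroup.centralizer (A : Set G) := by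
      by_contra hcon
      push Not at hcon
      apply huC
      exact mem_of_forall_prime_pow_mem (Subgroup.centralizer (A : Set G)) (orderOf u) u
        (orderOf_pos u) (pow_orderOf_eq_one u) (fun q hq k j hkj => hcon q hq k j hkj)
    obtain ⟨r, hrr, k, j, hkj, heC⟩ := hex
    have : Fact r.Prime := ⟨hrr⟩
    set e : G := u ^ k with he
    have heU : e ∈ U := pow_mem huU k
    have heE : e ∈ E := hUE heU
    have he1 : e ≠ 1 := by
      intro h
      apply heC
      rw [h]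
      exact one_mem _
    have hrp : r ≠ p := by
      intro h
      rw [h] at hkj
      exact heC (hSC (mem_sylow_of_mem_normalizer S (hNS (hEN heE)) hkj))
    have hrE : r ∣ Nat.card E := by
      have h1 : orderOf e ∣ r ^ j := orderOf_dvd_of_pow_eq_one hkj
      obtain ⟨m, -, hm⟩ := (Nat.dvd_prime_pow hrr).mp h1
      have hm0 : m ≠ 0 := by
        rintro rfl
        rw [pow_zero] at hm
        exact he1 (orderOf_eq_one_iff.mp hm)
      have h2 : r ∣ orderOf e := by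
        rw [hm]
        exact dvd_pow_self r hm0
      have h3 := orderOf_dvd_natCard (⟨e, heE⟩ : E)
      rw [Subgroup.orderOf_mk] at h3
      exact h2.trans h3
    have hrτ2 : r ∉ tau2 M := fun h => heC (hT r hrr h hrp e heU j hkj)
    have hr13 : r ∈ tau1 M ∪ tau3 M := mem_tau13_of hG M hM E hE hrr hrE hrτ2
    have hr1 : PRankLE r 1 M := pRankLE_one_of_tau13 hr13
    -- the order of `e`
    have hex2 : ∃ m, e ^ r ^ m = 1 := ⟨j, hkj⟩
    classical
    have hspec := Nat.find_spec hex2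
    have hmin : ∀ m, m < Nat.find hex2 → e ^ r ^ m ≠ 1 := fun m hm => Nat.find_min hex2 hm
    set m := Nat.find hex2 with hm
    have hm0 : m ≠ 0 := by
      intro h0
      rw [h0, pow_zero, pow_one] at hspec
      exact he1 hspec
    obtain ⟨n, hn⟩ : ∃ n, m = n + 1 := ⟨m - 1, by omega⟩
    have hen : e ^ r ^ (n + 1) = 1 := hn ▸ hspec
    have he0 : e ^ r ^ n ≠ 1 := hmin n (by omega)
    have he0r : (e ^ r ^ n) ^ r = 1 := by
      rw [← pow_mul, ← pow_succ]
      exact hen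
    have hord0 : orderOf (e ^ r ^ n) = r := orderOf_eq_prime he0r he0
    by_cases he0C : e ^ r ^ n ∈ Subgroup.centralizer (A : Set G)
    · obtain ⟨X, hXA, hXc, hNX⟩ := case_i hG M hM E hE p hp A hA S hSc hAS r hr1 hrp e heE n hen
        he0 he0C heC
      exact ⟨X, hXA, hXc, (hUE.trans hEN).trans hNX⟩
    · have hreg : sigmaCore M ⊓ Subgroup.centralizer ({e ^ r ^ n} : Set G) = ⊥ := by
        apply hH _ (pow_mem heU _) he0
        intro q hq hqd
        rw [hord0] at hqd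
        have : q = r := (Nat.prime_dvd_prime_iff_eq hq hrr).mp hqd
        rw [this]
        exact hr13
      obtain ⟨X, hXA, hXc, hEX⟩ := case_ii hG M hM E hE p hp A hA r hrp (e ^ r ^ n)
        (pow_mem heE _) hord0 hreg he0C
      exact ⟨X, hXA, hXc, hUE.trans hEX⟩

end Cfsg.Agent.Lib.Helper55.BGThirteen
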