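import Cfsg.Agent.Lib.Helper55.BGThirteenM
import Cfsg.Agent.Lib.Helper50.SigmaDecomp

/-!
# Bender–Glauberman §12/§15: statements S1421, S1359, S1360 from the general theorem
-/

set_option autoImplicit false
open Cfsg

namespace Cfsg.Agent.Lib.Helper55.BGThirteen

open Cfsg.Agent.Lib
open scoped commutatorElement Pointwise

variable {G : Type*} [Group G]

/-- statement S1421 -/
theorem s1421_of [Finite G] (hG : IsMinSimpleOddOrder G) (M : Subgroup G) (hM : IsCoatom M)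
    (E : Subgroup G) (hE : IsComplIn E (sigmaCore M) M)
    (h : ∀ e ∈ E, e ≠ 1 → (∀ p : ℕ, p.Prime → p ∣ orderOf e → p ∈ tau1 M ∪ tau3 M) →
      sigmaCore M ⊓ Subgroup.centralizer ({e} : Set G) = ⊥) :
    (∃ A₀ : Subgroup G, A₀ ≤ E ∧ E ≤ Subgroup.normalizer (A₀ : Set G) ∧ IsMulCommutative A₀ ∧
        ∀ x ∈ sigmaCore M, x ≠ 1 → E ⊓ Subgroup.centralizer ({x} : Set G) ≤ A₀) ∧
      ∃ E₀ : Subgroup G, E₀ ≤ E ∧ Monoid.exponent E₀ = Monoid.exponent E ∧
        ∀ e ∈ E₀, e ≠ 1 → sigmaCore M ⊓ Subgroup.centralizer ({e} : Set G) = ⊥ := by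
  apply main_of_normal_hall hG M hM E hE E le_rfl Subgroup.le_normalizer _ h
  rw [Subgroup.relIndex_self]
  exact Nat.coprime_one_right _

/-- `K ⊔ U` is a complement of `M_σ` in `M`, with `U` a normal Hall subgroup of it -/
theorem sigmaDecomposition_compl [Finite G] (hG : IsMinSimpleOddOrder G) (M : Subgroup G)
    (hM : IsCoatom M) (K U : Subgroup G) (hKU : IsSigmaDecomposition M K U) :
    IsComplIn (K ⊔ U) (sigmaCore M) M ∧ K ⊔ U ≤ Subgroup.normalizer (U : Set G) ∧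
      (Nat.card U).Coprime (U.relIndex (K ⊔ U)) := by
  have hU := Helper21.uniquenessThm_of hG
  have h1350 := (Helper54.sigmaCore_hall_of hG hU M hM).1
  have hKM : K ≤ M := hKU.hall.1
  have hUM : U ≤ M := hKU.compl.1
  have hσM : sigmaCore M ≤ M := Helper54.sigmaCore_le M
  have hKσ : K ≤ Subgroup.normalizer (sigmaCore M : Set G) :=
    hKM.trans (Helper54.le_normalizer_sigmaCore M)
  have hUK : U ⊓ K = ⊥ := by
    rw [eq_bot_iff, ← hKU.compl.2.2.1]
    exact inf_le_inf_left U le_sup_left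
  have hcard : Nat.card (U ⊔ K : Subgroup G) = Nat.card U * Nat.card K :=
    Helper54.card_sup_of_le_normalizer hKU.normal hUK
  have hprimeK : ∀ q : ℕ, q.Prime → q ∣ Nat.card K → q ∉ sigma M ∧ q ∈ kappa M := by
    intro q hq hqd
    have h1 := hKU.hall.2.1 q hq hqd
    exact ⟨h1.2.2.1, h1⟩
  have hprimeU : ∀ q : ℕ, q.Prime → q ∣ Nat.card U → q ∉ sigma M ∧ q ∉ kappa M :=
    fun q hq hqd => Helper50.not_mem_of_dvd_card_of_sigmaDecomposition h1350 hKU hq hqd
  have hNU : K ⊔ U ≤ Subgroup.normalizer (U : Set G) := sup_le hKU.normal Subgroup.le_normalizer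
  refine ⟨⟨sup_le hKM hUM, hσM, ?_, ?_⟩, hNU, ?_⟩
  · apply Disjoint.eq_bot
    apply Subgroup.disjoint_of_coprime_natCard
    rw [sup_comm, hcard]
    apply Nat.coprime_of_dvd
    intro q hq hq1 hq2
    have hqσ : q ∈ sigma M := Helper54.sigmaCore_isPi M q hq hq2
    rcases (Nat.Prime.dvd_mul hq).mp hq1 with h | h
    · exact (hprimeU q hq h).1 hqσ
    · exact (hprimeK q hq h).1 hqσ
  · intro m hm
    obtain ⟨u, hu, x, hx, rfl⟩ := hKU.compl.2.2.2 m hm
    have hx' : x ∈ ((K ⊔ sigmaCore M : Subgroup G) : Set G) := hx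
    rw [Subgroup.coe_mul_of_left_le_normalizer_right K (sigmaCore M) hKσ] at hx'
    obtain ⟨k, hk, s, hs, rfl⟩ := Set.mem_mul.mp hx'
    refine ⟨u * k, mul_mem (Subgroup.mem_sup_right hu) (Subgroup.mem_sup_left hk), s, hs, ?_⟩
    group
  · have h1 := Helper54.card_mul_relIndex (le_sup_right : U ≤ K ⊔ U)
    rw [sup_comm, hcard] at h1
    have h2 : U.relIndex (U ⊔ K) = Nat.card K :=
      Nat.eq_of_mul_eq_mul_left Nat.card_pos h1
    rw [sup_comm, h2]
    apply Nat.coprime_of_dvd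
    intro q hq hq1 hq2
    exact (hprimeU q hq hq1).2 (hprimeK q hq hq2).2

/-- the hypothesis `(H)` holds for `U` in a standard factorisation -/
theorem hypH_of_sigmaDecomposition [Finite G] (hG : IsMinSimpleOddOrder G) (M : Subgroup G)
    (hM : IsCoatom M) (K U : Subgroup G) (hKU : IsSigmaDecomposition M K U) :
    ∀ e ∈ U, e ≠ 1 → (∀ q : ℕ, q.Prime → q ∣ orderOf e → q ∈ tau1 M ∪ tau3 M) →
      sigmaCore M ⊓ Subgroup.centralizer ({e} : Set G) = ⊥ := by
  have hU := Helper21.uniquenessThm_of hG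
  have h1350 := (Helper54.sigmaCore_hall_of hG hU M hM).1
  have hUM : U ≤ M := hKU.compl.1
  intro e he he1 hq
  obtain ⟨q, hqp, hqd, hqo⟩ := exists_pow_orderOf_eq_prime e he1
  have : Fact q.Prime := ⟨hqp⟩
  have hqU : q ∣ Nat.card U := by
    have h3 := orderOf_dvd_natCard (⟨e, he⟩ : U)
    rw [Subgroup.orderOf_mk] at h3
    exact hqd.trans h3
  obtain ⟨hqσ, hqκ⟩ := Helper50.not_mem_of_dvd_card_of_sigmaDecomposition h1350 hKU hqp hqU
  have hqM : q ∣ Nat.card M := hqU.trans (Subgroup.card_dvd_of_le hUM)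
  have hq2 : q ≠ 2 := by
    rintro rfl
    have h2 : 2 ∣ Nat.card G := hqM.trans (Subgroup.card_subgroup_dvd_card M)
    exact (Nat.not_even_iff_odd.mpr hG.1) (even_iff_two_dvd.mpr h2)
  have hr1 : PRankLE q 1 M := pRankLE_one_of_tau13 (hq q hqp hqd)
  set x : G := e ^ (orderOf e / q) with hx
  have hxM : x ∈ M := hUM (pow_mem he _)
  have hx1 : x ≠ 1 := by
    intro h
    rw [h, orderOf_one] at hqo
    exact hqp.one_lt.ne' hqo.symm
  have hxp : IsPGroup q (Subgroup.zpowers x) := by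
    apply IsPGroup.of_card (n := 1)
    rw [Nat.card_zpowers, hqo, pow_one]
  rw [eq_bot_iff]
  intro y hy
  obtain ⟨hyK, hye⟩ := Subgroup.mem_inf.mp hy
  rw [Subgroup.mem_centralizer_singleton_iff] at hye
  have hxy : x * y = y * x := ((Commute.pow_right hye (orderOf e / q)).eq).symm
  rw [Subgroup.mem_bot]
  exact Helper50.eq_one_of_commute_of_not_mem_kappa hq2 hqM hqσ hqκ hr1 hxM hx1 hxp hyK hxy

/-- the general theorem for `U` of a standard factorisation -/
theorem main_of_sigmaDecomposition [Finite G] (hG : IsMinSimpleOddOrder G) (M : Subgroup G)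
    (hM : IsCoatom M) (K U : Subgroup G) (hKU : IsSigmaDecomposition M K U) :
    (∃ A₀ : Subgroup G, A₀ ≤ U ∧ U ≤ Subgroup.normalizer (A₀ : Set G) ∧ IsMulCommutative A₀ ∧
        ∀ x ∈ sigmaCore M, x ≠ 1 → U ⊓ Subgroup.centralizer ({x} : Set G) ≤ A₀) ∧
      ∃ U₀ : Subgroup G, U₀ ≤ U ∧ Monoid.exponent U₀ = Monoid.exponent U ∧
        ∀ e ∈ U₀, e ≠ 1 → sigmaCore M ⊓ Subgroup.centralizer ({e} : Set G) = ⊥ := by
  obtain ⟨hE, hNU, hcop⟩ := sigmaDecomposition_compl hG M hM K U hKU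
  exact main_of_normal_hall hG M hM (K ⊔ U) hE U le_sup_right hNU hcop
    (hypH_of_sigmaDecomposition hG M hM K U hKU)

/-- statement S1359 -/
theorem s1359_of [Finite G] (hG : IsMinSimpleOddOrder G) (M : Subgroup G) (hM : IsCoatom M)
    (K U : Subgroup G) (hKU : IsSigmaDecomposition M K U) :
    IsMulCommutative (Subgroup.closure ((U : Set G) ∩ sigmaHat M)) := by
  obtain ⟨⟨A₀, -, -, hA₀c, hA₀⟩, -⟩ := main_of_sigmaDecomposition hG M hM K U hKU
  have hle : Subgroup.closure ((U : Set G) ∩ sigmaHat M) ≤ A₀ := by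
    rw [Subgroup.closure_le]
    rintro u ⟨huU, -, y, hyK, hy1, huy⟩
    apply hA₀ y hyK hy1
    refine Subgroup.mem_inf.mpr ⟨huU, ?_⟩
    rw [Subgroup.mem_centralizer_singleton_iff]
    exact huy
  refine ⟨⟨fun a b => Subtype.ext ?_⟩⟩
  have h1 := congrArg Subtype.val (hA₀c.is_comm.comm ⟨(a : G), hle a.2⟩ ⟨(b : G), hle b.2⟩)
  exact h1

/-- statement S1360 -/
theorem s1360_of [Finite G] (hG : IsMinSimpleOddOrder G) (M : Subgroup G) (hM : IsCoatom M)
    (K U : Subgroup G) (hKU : IsSigmaDecomposition M K U) :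
    ∃ U₀ : Subgroup G, U₀ ≤ U ∧ Monoid.exponent U₀ = Monoid.exponent U ∧
      ∀ u ∈ U₀, u ∈ sigmaHat M → u = 1 := by
  obtain ⟨-, U₀, hU₀U, hexp, hreg⟩ := main_of_sigmaDecomposition hG M hM K U hKU
  refine ⟨U₀, hU₀U, hexp, ?_⟩
  rintro u hu ⟨-, y, hyK, hy1, huy⟩
  by_contra hu1
  have h1 : y ∈ sigmaCore M ⊓ Subgroup.centralizer ({u} : Set G) := by
    refine Subgroup.mem_inf.mpr ⟨hyK, ?_⟩
    rw [Subgroup.mem_centralizer_singleton_iff]
    exact huy.symm
  rw [hreg u hu hu1, Subgroup.mem_bot] at h1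
  exact hy1 h1

end Cfsg.Agent.Lib.Helper55.BGThirteen
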