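import Mathlib

/-!
# Automorphisms of odd order of abelian 2-groups; the involutions of `Z/2^m × Z/2^m`
-/

set_option autoImplicit false

namespace Cfsg.Agent.Lib.Helper55

/-- If `t ^ 2 = 1` and `t ^ k = 1` with `k` odd then `t = 1`. -/
theorem eq_one_of_sq_of_odd_pow {G : Type*} [Monoid G] {t : G} (h2 : t ^ 2 = 1) {k : ℕ} (hk : Odd k)
    (hk1 : t ^ k = 1) : t = 1 := by
  obtain ⟨j, rfl⟩ := hk
  rw [pow_succ, pow_mul, h2, one_pow, one_mul] at hk1
  exact hk1

/-- An element normalizing an abelian `2`-group `P`, some odd power of which centralizes `P`, and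
which centralizes all elements of `P` of order at most `2`, centralizes `P`. -/
theorem conj_eq_of_conj_eq_on_omega {G : Type*} [Group G] (P : Subgroup G)
    (hcomm : ∀ a ∈ P, ∀ b ∈ P, a * b = b * a) (hP2 : ∀ x ∈ P, ∃ j : ℕ, x ^ (2 ^ j) = 1)
    (n : G) (hn : ∀ x ∈ P, n * x * n⁻¹ ∈ P) (k : ℕ) (hk : Odd k)
    (hnk : ∀ x ∈ P, n ^ k * x * (n ^ k)⁻¹ = x)
    (hΩ : ∀ x ∈ P, x ^ 2 = 1 → n * x * n⁻¹ = x) : ∀ x ∈ P, n * x * n⁻¹ = x := by
  have key : ∀ j : ℕ, ∀ x ∈ P, x ^ (2 ^ j) = 1 → n * x * n⁻¹ = x := by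
    intro j
    induction j with
    | zero =>
      intro x _ hx
      rw [pow_zero, pow_one] at hx
      rw [hx]; group
    | succ j ih =>
      intro x hxP hx
      have hx2P : x ^ 2 ∈ P := P.pow_mem hxP 2
      have hx2 : (x ^ 2) ^ (2 ^ j) = 1 := by rw [← pow_mul, ← pow_succ']; exact hx
      have h1 : n * x ^ 2 * n⁻¹ = x ^ 2 := ih (x ^ 2) hx2P hx2
      set y := n * x * n⁻¹ with hy
      have hyP : y ∈ P := hn x hxP
      have hy2 : y ^ 2 = x ^ 2 := by rw [hy, conj_pow]; exact h1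
      set t := y * x⁻¹ with ht
      have htP : t ∈ P := P.mul_mem hyP (P.inv_mem hxP)
      have hyx : y * x⁻¹ = x⁻¹ * y := hcomm y hyP x⁻¹ (P.inv_mem hxP)
      have ht2 : t ^ 2 = 1 := by
        have hc : Commute y x⁻¹ := hyx
        rw [ht, hc.mul_pow, hy2, inv_pow, mul_inv_cancel]
      have hnt : n * t * n⁻¹ = t := hΩ t htP ht2
      have hyt : y = t * x := by rw [ht]; group
      have hpow : ∀ i : ℕ, n ^ i * x * (n ^ i)⁻¹ = t ^ i * x := by
        intro i
        induction i with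
        | zero => simp
        | succ i ihi =>
          have e : n ^ (i + 1) * x * (n ^ (i + 1))⁻¹ = n * (n ^ i * x * (n ^ i)⁻¹) * n⁻¹ := by
            rw [pow_succ']; group
          rw [e, ihi]
          have e2 : n * (t ^ i * x) * n⁻¹ = (n * t * n⁻¹) ^ i * (n * x * n⁻¹) := by
            rw [conj_pow]; group
          rw [e2, hnt, ← hy, hyt, ← mul_assoc, ← pow_succ]
      have h3 := hpow k
      rw [hnk x hxP] at h3
      have h4 : t ^ k = 1 := by
        have : t ^ k * x = 1 * x := by rw [one_mul]; exact h3.symm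
        exact mul_right_cancel this
      have ht1 : t = 1 := eq_one_of_sq_of_odd_pow ht2 hk h4
      rw [hyt, ht1, one_mul]
  intro x hx
  obtain ⟨j, hj⟩ := hP2 x hx
  exact key j x hx hj

/-- In a four-group `{1, a, b, ab}` of involutions of `P`, an element normalizing `P`, fixing `a`,
with an odd power centralizing `b`, centralizes all involutions of `P`. -/
theorem conj_eq_on_four {G : Type*} [Group G] (P : Subgroup G) (a b : G) (ha : a ∈ P) (hb : b ∈ P)
    (ha2 : a ^ 2 = 1) (hb2 : b ^ 2 = 1) (ha1 : a ≠ 1)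
    (hdesc : ∀ x ∈ P, x ^ 2 = 1 → x = 1 ∨ x = a ∨ x = b ∨ x = a * b)
    (n : G) (hn : ∀ x ∈ P, n * x * n⁻¹ ∈ P) (hna : n * a * n⁻¹ = a) (k : ℕ) (hk : Odd k)
    (hnk : n ^ k * b * (n ^ k)⁻¹ = b) : ∀ x ∈ P, x ^ 2 = 1 → n * x * n⁻¹ = x := by
  have hnb : n * b * n⁻¹ = b := by
    have hcP : n * b * n⁻¹ ∈ P := hn b hb
    have hc2 : (n * b * n⁻¹) ^ 2 = 1 := by rw [conj_pow, hb2]; group
    rcases hdesc _ hcP hc2 with h | h | h | h
    · -- n b n⁻¹ = 1, so b = 1
      have : b = 1 := by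
        have := conj_eq_one_iff.mp h
        exact this
      rw [this]; group
    · -- n b n⁻¹ = a = n a n⁻¹
      have : b = a := by
        have h' : n * b * n⁻¹ = n * a * n⁻¹ := by rw [h, hna]
        exact mul_left_cancel (mul_right_cancel h')
      rw [this]; exact hna
    · exact h
    · exfalso
      have hpow : ∀ i : ℕ, n ^ i * b * (n ^ i)⁻¹ = a ^ i * b := by
        intro i
        induction i with
        | zero => simp
        | succ i ihi =>
          have e : n ^ (i + 1) * b * (n ^ (i + 1))⁻¹ = n * (n ^ i * b * (n ^ i)⁻¹) * n⁻¹ := by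
            rw [pow_succ']; group
          rw [e, ihi]
          have e2 : n * (a ^ i * b) * n⁻¹ = (n * a * n⁻¹) ^ i * (n * b * n⁻¹) := by
            rw [conj_pow]; group
          rw [e2, hna, h, ← mul_assoc, ← pow_succ]
      have h3 := hpow k
      rw [hnk] at h3
      have h4 : a ^ k = 1 := by
        have : a ^ k * b = 1 * b := by rw [one_mul]; exact h3.symm
        exact mul_right_cancel this
      exact ha1 (eq_one_of_sq_of_odd_pow ha2 hk h4)
  intro x hx hx2
  rcases hdesc x hx hx2 with rfl | rfl | rfl | rfl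
  · group
  · exact hna
  · exact hnb
  · have : n * (a * b) * n⁻¹ = (n * a * n⁻¹) * (n * b * n⁻¹) := by group
    rw [this, hna, hnb]

/-- In `ZMod (2^m)`, `m ≥ 1`, the solutions of `c + c = 0` are `0` and `2^(m-1)`. -/
theorem zmod_two_pow_add_self_eq_zero (m : ℕ) (c : ZMod (2 ^ (m + 1))) (hc : c + c = 0) :
    c = 0 ∨ c = ((2 ^ m : ℕ) : ZMod (2 ^ (m + 1))) := by
  have hlt : c.val < 2 ^ (m + 1) := ZMod.val_lt c
  have h1 : ((c.val + c.val : ℕ) : ZMod (2 ^ (m + 1))) = 0 := by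
    rw [Nat.cast_add, ZMod.natCast_zmod_val]; exact hc
  rw [ZMod.natCast_eq_zero_iff] at h1
  have h2 : 2 ^ m ∣ c.val := by
    have : 2 ^ m * 2 ∣ c.val * 2 := by
      rw [← pow_succ]; rwa [mul_two]
    exact Nat.dvd_of_mul_dvd_mul_right (by norm_num) this
  obtain ⟨q, hq⟩ := h2
  have hq2 : q < 2 := by
    by_contra hge
    push Not at hge
    have : 2 ^ m * 2 ≤ 2 ^ m * q := Nat.mul_le_mul_left _ hge
    rw [← pow_succ, ← hq] at this
    omega
  have hcv : c = ((c.val : ℕ) : ZMod (2 ^ (m + 1))) := (ZMod.natCast_zmod_val c).symm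
  rcases (by omega : q = 0 ∨ q = 1) with rfl | rfl
  · left; rw [hcv, hq]; simp
  · right; rw [hcv, hq]; simp

theorem zmod_two_pow_half_ne_zero (m : ℕ) : ((2 ^ m : ℕ) : ZMod (2 ^ (m + 1))) ≠ 0 := by
  rw [Ne, ZMod.natCast_eq_zero_iff]
  intro h
  have := Nat.le_of_dvd (by positivity) h
  have h3 : m + 1 ≤ m := (Nat.pow_le_pow_iff_right (by norm_num)).mp this
  omega

theorem zmod_two_pow_half_add_self (m : ℕ) :
    ((2 ^ m : ℕ) : ZMod (2 ^ (m + 1))) + ((2 ^ m : ℕ) : ZMod (2 ^ (m + 1))) = 0 := by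
  rw [← Nat.cast_add, ZMod.natCast_eq_zero_iff, ← mul_two, ← pow_succ]

end Cfsg.Agent.Lib.Helper55

namespace Cfsg.Agent.Lib.Helper55

open Multiplicative

/-- A subgroup isomorphic to a commutative group is commutative. -/
theorem comm_of_mulEquiv {G A : Type*} [Group G] [CommGroup A] (P : Subgroup G) (e : ↥P ≃* A) :
    ∀ a ∈ P, ∀ b ∈ P, a * b = b * a := by
  intro a ha b hb
  have h : (⟨a, ha⟩ : P) * ⟨b, hb⟩ = ⟨b, hb⟩ * ⟨a, ha⟩ := by
    apply e.injective
    rw [map_mul, map_mul, mul_comm]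
  exact congrArg Subtype.val h

/-- The elements of order at most two of `Z/2^(m+1) × Z/2^(m+1)` form a four-group. -/
theorem homocyclic_involutions {G : Type*} [Group G] (P : Subgroup G) (m : ℕ)
    (e : ↥P ≃* Multiplicative (ZMod (2 ^ (m + 1)) × ZMod (2 ^ (m + 1)))) :
    ∃ t₁ t₂ : G, t₁ ∈ P ∧ t₂ ∈ P ∧ t₁ ^ 2 = 1 ∧ t₂ ^ 2 = 1 ∧ t₁ ≠ 1 ∧ t₂ ≠ 1 ∧ t₁ ≠ t₂ ∧
      (∀ x ∈ P, x ^ 2 = 1 → x = 1 ∨ x = t₁ ∨ x = t₂ ∨ x = t₁ * t₂) := by
  set h : ZMod (2 ^ (m + 1)) := ((2 ^ m : ℕ) : ZMod (2 ^ (m + 1))) with hh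
  have hne : h ≠ 0 := zmod_two_pow_half_ne_zero m
  have hadd : h + h = 0 := zmod_two_pow_half_add_self m
  set u₁ : ↥P := e.symm (ofAdd (h, 0)) with hu₁
  set u₂ : ↥P := e.symm (ofAdd (0, h)) with hu₂
  have hsq : ∀ v : ZMod (2 ^ (m + 1)) × ZMod (2 ^ (m + 1)), v + v = 0 →
      (e.symm (ofAdd v)) ^ 2 = 1 := by
    intro v hv
    rw [← map_pow, pow_two, ← ofAdd_add, hv, ofAdd_zero, map_one]
  have hu₁2 : u₁ ^ 2 = 1 := hsq _ (by simp [hadd])
  have hu₂2 : u₂ ^ 2 = 1 := hsq _ (by simp [hadd])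
  have hu₁1 : u₁ ≠ 1 := by
    intro h1
    have := congrArg e h1
    rw [hu₁, MulEquiv.apply_symm_apply, map_one] at this
    have h2 := congrArg toAdd this
    simp only [toAdd_ofAdd, toAdd_one, Prod.mk_eq_zero] at h2
    exact hne h2.1
  have hu₂1 : u₂ ≠ 1 := by
    intro h1
    have := congrArg e h1
    rw [hu₂, MulEquiv.apply_symm_apply, map_one] at this
    have h2 := congrArg toAdd this
    simp only [toAdd_ofAdd, toAdd_one, Prod.mk_eq_zero] at h2
    exact hne h2.2
  have hu12 : u₁ ≠ u₂ := by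
    intro h1
    have := e.symm.injective h1
    have h2 := congrArg toAdd this
    simp only [toAdd_ofAdd, Prod.mk.injEq] at h2
    exact hne h2.1
  refine ⟨u₁, u₂, u₁.2, u₂.2, ?_, ?_, ?_, ?_, ?_, ?_⟩
  · exact_mod_cast congrArg Subtype.val hu₁2
  · exact_mod_cast congrArg Subtype.val hu₂2
  · intro h1; exact hu₁1 (Subtype.ext h1)
  · intro h1; exact hu₂1 (Subtype.ext h1)
  · intro h1; exact hu12 (Subtype.ext h1)
  · intro x hx hx2
    set v := toAdd (e ⟨x, hx⟩) with hv
    have hx2' : (⟨x, hx⟩ : P) ^ 2 = 1 := Subtype.ext (by simpa using hx2)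
    have hvv : v + v = 0 := by
      have := congrArg (fun y => toAdd (e y)) hx2'
      simp only [map_pow, map_one, toAdd_pow, toAdd_one] at this
      rw [two_nsmul] at this
      exact this
    have hc := zmod_two_pow_add_self_eq_zero m v.1 (by simpa using congrArg Prod.fst hvv)
    have hd := zmod_two_pow_add_self_eq_zero m v.2 (by simpa using congrArg Prod.snd hvv)
    have hxe : (⟨x, hx⟩ : P) = e.symm (ofAdd v) := by
      rw [hv, ofAdd_toAdd, MulEquiv.symm_apply_apply]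
    have hval : ∀ w : ↥P, (⟨x, hx⟩ : P) = w → x = (w : G) := fun w hw => congrArg Subtype.val hw
    rcases hc with hc | hc <;> rcases hd with hd | hd
    · left
      have : v = 0 := Prod.ext hc hd
      rw [this, ofAdd_zero, map_one] at hxe
      exact hval _ hxe
    · right; right; left
      have : v = (0, h) := Prod.ext hc hd
      rw [this] at hxe
      exact hval _ hxe
    · right; left
      have : v = (h, 0) := Prod.ext hc hd
      rw [this] at hxe
      exact hval _ hxe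
    · right; right; right
      have : v = (h, 0) + (0, h) := by
        apply Prod.ext <;> simp [hc, hd, hh]
      rw [this, ofAdd_add, map_mul] at hxe
      have := hval _ hxe
      rw [this]; rfl

end Cfsg.Agent.Lib.Helper55
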