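import Mathlib
import Cfsg.Agent.Lib.Helper55.Homocyclic

/-!
# Homocyclic Sylow 2-subgroups `Z/2^m × Z/2^m`: the automizer acts freely on involutions
-/

set_option autoImplicit false

namespace Cfsg.Agent.Lib.Helper55

open Subgroup

/-- The index of `C_G(P)` in `N_G(P)` is odd for an abelian Sylow 2-subgroup. -/
theorem odd_relIndex_centralizer_normalizer {G : Type*} [Group G] [Finite G] (P : Sylow 2 G)
    (hcomm : ∀ a ∈ (P : Subgroup G), ∀ b ∈ (P : Subgroup G), a * b = b * a) :
    Odd ((centralizer (P : Set G)).relIndex (normalizer (P : Set G))) := by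
  have hPC : (P : Subgroup G) ≤ centralizer (P : Set G) := by
    intro x hx
    rw [mem_centralizer_iff]
    intro y hy
    exact hcomm y hy x hx
  have hPN : (P : Subgroup G) ≤ normalizer (P : Set G) := le_normalizer
  have h1 : (centralizer (P : Set G)).relIndex (normalizer (P : Set G)) ∣
      (P : Subgroup G).relIndex (normalizer (P : Set G)) := relIndex_dvd_of_le_left _ hPC
  have h2 : (P : Subgroup G).relIndex (normalizer (P : Set G)) ∣ (P : Subgroup G).index :=
    relIndex_dvd_index_of_le hPN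
  have h3 : ¬ 2 ∣ (P : Subgroup G).index := P.not_dvd_index
  rw [← Nat.not_even_iff_odd, even_iff_two_dvd]
  intro h
  exact h3 (h.trans (h1.trans h2))

/-- A power of an element of the normalizer by the index of the centralizer lies in the centralizer. -/
theorem pow_relIndex_mem_centralizer {G : Type*} [Group G] (P : Subgroup G) (n : G)
    (hn : n ∈ normalizer (P : Set G)) :
    n ^ ((centralizer (P : Set G)).relIndex (normalizer (P : Set G))) ∈ centralizer (P : Set G) := by
  have hker := P.normalizerMonoidHom_ker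
  have : ((centralizer (P : Set G)).subgroupOf (normalizer (P : Set G))).Normal := by
    rw [← hker]; infer_instance
  have := Subgroup.pow_index_mem ((centralizer (P : Set G)).subgroupOf (normalizer (P : Set G)))
    (⟨n, hn⟩ : normalizer (P : Set G))
  rw [mem_subgroupOf, Subgroup.coe_pow] at this
  exact this

/-- In a group with Sylow 2-subgroup `P ≅ Z/2^m × Z/2^m` (`m ≥ 1`), an element of `N_G(P)` fixing an
involution of `P` centralizes `P`. -/
theorem mem_centralizer_of_fix_involution {G : Type*} [Group G] [Finite G] (P : Sylow 2 G) (m : ℕ)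
    (e : ↥(P : Subgroup G) ≃* Multiplicative (ZMod (2 ^ (m + 1)) × ZMod (2 ^ (m + 1))))
    (t : G) (htP : t ∈ (P : Subgroup G)) (ht2 : t ^ 2 = 1) (ht1 : t ≠ 1)
    (n : G) (hn : n ∈ normalizer ((P : Subgroup G) : Set G)) (hnt : n * t * n⁻¹ = t) :
    n ∈ centralizer ((P : Subgroup G) : Set G) := by
  have hcomm := comm_of_mulEquiv (P : Subgroup G) e
  have hodd := odd_relIndex_centralizer_normalizer P hcomm
  have hnkC := pow_relIndex_mem_centralizer (P : Subgroup G) n hn
  generalize (centralizer ((P : Subgroup G) : Set G)).relIndex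
    (normalizer ((P : Subgroup G) : Set G)) = k at hodd hnkC
  have hnk : ∀ x ∈ (P : Subgroup G), n ^ k * x * (n ^ k)⁻¹ = x := by
    intro x hx
    rw [mem_centralizer_iff] at hnkC
    calc n ^ k * x * (n ^ k)⁻¹ = (x * n ^ k) * (n ^ k)⁻¹ := by rw [hnkC x hx]
      _ = x := by group
  have hn' : ∀ x ∈ (P : Subgroup G), n * x * n⁻¹ ∈ (P : Subgroup G) := by
    intro x hx
    exact (mem_normalizer_iff.mp hn x).mp hx
  have hP2 : ∀ x ∈ (P : Subgroup G), ∃ j : ℕ, x ^ (2 ^ j) = 1 := by
    intro x hx
    obtain ⟨j, hj⟩ := P.isPGroup' ⟨x, hx⟩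
    exact ⟨j, by simpa using congrArg Subtype.val hj⟩
  obtain ⟨t₁, t₂, h₁P, h₂P, h₁2, h₂2, h₁1, h₂1, h12, hdesc⟩ := homocyclic_involutions (P : Subgroup G) m e
  have h21 : t₂ * t₁ = t₁ * t₂ := hcomm t₂ h₂P t₁ h₁P
  have h11 : t₁ * t₁ = 1 := by rw [← pow_two]; exact h₁2
  have hΩ : ∀ x ∈ (P : Subgroup G), x ^ 2 = 1 → n * x * n⁻¹ = x := by
    rcases hdesc t htP ht2 with h | h | h | h
    · exact absurd h ht1
    · subst h
      exact conj_eq_on_four (P : Subgroup G) t t₂ htP h₂P ht2 h₂2 ht1 hdesc n hn' hnt k hodd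
        (hnk t₂ h₂P)
    · subst h
      refine conj_eq_on_four (P : Subgroup G) t t₁ htP h₁P ht2 h₁2 ht1 ?_ n hn' hnt k hodd
        (hnk t₁ h₁P)
      intro x hx hx2
      rcases hdesc x hx hx2 with h | h | h | h
      · exact Or.inl h
      · exact Or.inr (Or.inr (Or.inl h))
      · exact Or.inr (Or.inl h)
      · exact Or.inr (Or.inr (Or.inr (by rw [h, h21])))
    · subst h
      refine conj_eq_on_four (P : Subgroup G) (t₁ * t₂) t₁ htP h₁P ht2 h₁2 ht1 ?_ n hn' hnt k hodd
        (hnk t₁ h₁P)
      intro x hx hx2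
      have e3 : t₁ * t₂ * t₁ = t₂ := by rw [mul_assoc, h21, ← mul_assoc, h11, one_mul]
      rcases hdesc x hx hx2 with h | h | h | h
      · exact Or.inl h
      · exact Or.inr (Or.inr (Or.inl h))
      · exact Or.inr (Or.inr (Or.inr (by rw [h, e3])))
      · exact Or.inr (Or.inl h)
  have hall := conj_eq_of_conj_eq_on_omega (P : Subgroup G) hcomm hP2 n hn' k hodd hnk hΩ
  rw [mem_centralizer_iff]
  intro x hx
  have := hall x hx
  calc x * n = (n * x * n⁻¹) * n := by rw [this]
    _ = n * x := by group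

end Cfsg.Agent.Lib.Helper55
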