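import Mathlib
import Cfsg.Prelude.Def_Solvable
import Cfsg.Agent.Lib.Helper2.HuppertDefs

set_option autoImplicit false

/-!
# S3360-[A1] (helper55, for helper2 #4952)

An element `x` of prime order `r` of `GL(V)`, `V` an `n`-dimensional `ZMod q`-space, where `r` is a
primitive prime divisor of `q ^ n - 1`, fixes no nonzero vector and is irreducible.
-/

open Cfsg Module
open Cfsg.Agent.Lib.Helper2.Huppert

namespace Cfsg.Agent.Lib.Helper55.Huppert

variable {q : ℕ} [Fact q.Prime] {V : Type*} [AddCommGroup V] [Module (ZMod q) V] [Finite V]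

/-- fixed point congruence for an `x`-invariant subspace -/
theorem card_modEq_card_fixed (x : V ≃ₗ[ZMod q] V) (r : ℕ) [Fact r.Prime] (hx : x ^ r = 1)
    (W : Submodule (ZMod q) V) (hW : ∀ v ∈ W, x v ∈ W) :
    Nat.card W ≡ Nat.card {w : W // x (w : V) = (w : V)} [MOD r] := by
  classical
  have : Fintype W := Fintype.ofFinite W
  let f : Function.End W := fun w => ⟨x w, hW w w.2⟩
  have hpow : ∀ (k : ℕ) (w : W), (((f ^ k) w : W) : V) = (x ^ k) (w : V) := by
    intro k
    induction k with
    | zero => intro w; rw [pow_zero, pow_zero]; rfl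
    | succ k ih =>
      intro w
      rw [pow_succ, pow_succ]
      change (((f ^ k) (f w) : W) : V) = (x ^ k) (x (w : V))
      rw [ih (f w)]
  have hf : f ^ r ^ 1 = 1 := by
    rw [pow_one]
    funext w
    apply Subtype.ext
    rw [hpow r w, hx]
    rfl
  have key := Equiv.Perm.card_fixedPoints_modEq (p := r) (n := 1) hf
  rw [Fintype.card_eq_nat_card, Fintype.card_eq_nat_card] at key
  have he : Nat.card (Function.fixedPoints f) = Nat.card {w : W // x (w : V) = (w : V)} := by
    apply Nat.card_congr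
    refine Equiv.subtypeEquivRight ?_
    intro w
    change f w = w ↔ _
    constructor
    · intro h
      exact congrArg Subtype.val h
    · intro h
      exact Subtype.ext h
  rw [he] at key
  exact key

theorem prim_fpf_irr (x : V ≃ₗ[ZMod q] V) (r : ℕ) [Fact r.Prime]
    (hr : r ∣ q ^ finrank (ZMod q) V - 1)
    (hprim : ∀ i : ℕ, 1 ≤ i → i < finrank (ZMod q) V → ¬ r ∣ q ^ i - 1)
    (hx : x ^ r = 1) (hx1 : x ≠ 1) : (∀ v : V, x v = v → v = 0) ∧ IrrElt x := by
  classical
  have hq : q.Prime := Fact.out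
  have hrp : r.Prime := Fact.out
  set n := finrank (ZMod q) V with hn
  have hcardK : Nat.card (ZMod q) = q := Nat.card_zmod q
  -- general consequence of a congruence
  have harith : ∀ d : ℕ, d ≤ n → q ^ n ≡ q ^ d [MOD r] → d = 0 ∨ d = n := by
    intro d hdn hmod
    by_contra hcon
    push Not at hcon
    obtain ⟨hd0, hdn'⟩ := hcon
    have hlt : d < n := lt_of_le_of_ne hdn hdn'
    have hn1 : 1 ≤ n := by omega
    have hrq : ¬ r ∣ q := by
      intro h
      have h1 : r ∣ q ^ n := dvd_pow h (by omega)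
      have h2 : 1 ≤ q ^ n := Nat.one_le_pow _ _ hq.pos
      have h3 : r ∣ q ^ n - (q ^ n - 1) := Nat.dvd_sub h1 hr
      have h4 : q ^ n - (q ^ n - 1) = 1 := by omega
      rw [h4] at h3
      exact hrp.one_lt.ne' (Nat.dvd_one.1 h3)
    have hle : q ^ d ≤ q ^ n := Nat.pow_le_pow_right hq.pos hdn
    have h1 : r ∣ q ^ n - q ^ d := (Nat.modEq_iff_dvd' hle).1 hmod.symm
    have h2 : q ^ n - q ^ d = q ^ d * (q ^ (n - d) - 1) := by
      rw [Nat.mul_sub, mul_one, ← pow_add]
      congr 2
      omega
    rw [h2] at h1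
    have hcop : Nat.Coprime r (q ^ d) :=
      Nat.Coprime.pow_right _ ((Nat.Prime.coprime_iff_not_dvd hrp).2 hrq)
    have h3 : r ∣ q ^ (n - d) - 1 := hcop.dvd_of_dvd_mul_left h1
    exact hprim (n - d) (by omega) (by omega) h3
  -- the fixed space
  set C : Submodule (ZMod q) V := LinearMap.ker ((x : V →ₗ[ZMod q] V) - LinearMap.id) with hC
  have hmemC : ∀ v : V, v ∈ C ↔ x v = v := by
    intro v
    rw [hC, LinearMap.mem_ker, LinearMap.sub_apply, LinearMap.id_apply, sub_eq_zero]
    rfl
  have hcardV : Nat.card V = q ^ n := by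
    rw [Module.natCard_eq_pow_finrank (K := ZMod q), hcardK]
  have hcardtop : Nat.card (⊤ : Submodule (ZMod q) V) = q ^ n := by
    rw [← hcardV]
    exact Nat.card_congr (Submodule.topEquiv (R := ZMod q) (M := V)).toEquiv
  have hcardW : ∀ W : Submodule (ZMod q) V, Nat.card W = q ^ finrank (ZMod q) W := by
    intro W
    rw [Module.natCard_eq_pow_finrank (K := ZMod q), hcardK]
  have hCbot : C = ⊥ := by
    have h1 := card_modEq_card_fixed x r hx ⊤ (fun v _ => Submodule.mem_top)
    have h2 : Nat.card {w : (⊤ : Submodule (ZMod q) V) // x (w : V) = (w : V)} = Nat.card C := by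
      apply Nat.card_congr
      refine ⟨fun w => ⟨w.1.1, (hmemC _).2 w.2⟩, fun c => ⟨⟨c.1, Submodule.mem_top⟩, (hmemC _).1 c.2⟩,
        fun w => ?_, fun c => ?_⟩
      · rfl
      · rfl
    rw [h2, hcardtop, hcardW C] at h1
    have hle : finrank (ZMod q) C ≤ n := Submodule.finrank_le C
    rcases harith _ hle h1 with h0 | h0
    · exact Submodule.finrank_eq_zero.1 h0
    · exfalso
      have htop : C = ⊤ := Submodule.eq_top_of_finrank_eq h0
      apply hx1
      ext v
      have : v ∈ C := by rw [htop]; exact Submodule.mem_top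
      exact (hmemC v).1 this
  have hfix : ∀ v : V, x v = v → v = 0 := by
    intro v hv
    have : v ∈ C := (hmemC v).2 hv
    rw [hCbot] at this
    exact (Submodule.mem_bot _).1 this
  refine ⟨hfix, ?_⟩
  intro W hW
  have h1 := card_modEq_card_fixed x r hx W hW
  have h2 : Nat.card {w : W // x (w : V) = (w : V)} = 1 := by
    rw [Nat.card_eq_one_iff_unique]
    refine ⟨⟨fun a b => ?_⟩, ⟨⟨0, by simp⟩⟩⟩
    apply Subtype.ext
    apply Subtype.ext
    rw [hfix _ a.2, hfix _ b.2]
  rw [h2, hcardW W] at h1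
  have hle : finrank (ZMod q) W ≤ n := Submodule.finrank_le W
  have h3 : q ^ n ≡ q ^ finrank (ZMod q) W [MOD r] := by
    have h4 : q ^ n ≡ 1 [MOD r] := by
      have h5 : 1 ≤ q ^ n := Nat.one_le_pow _ _ hq.pos
      exact ((Nat.modEq_iff_dvd' h5).2 hr).symm
    exact h4.trans h1.symm
  rcases harith _ hle h3 with h0 | h0
  · left; exact Submodule.finrank_eq_zero.1 h0
  · right; exact Submodule.eq_top_of_finrank_eq h0

end Cfsg.Agent.Lib.Helper55.Huppert
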