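import Mathlib
import Cfsg.Prelude.Def_Solvable
import Cfsg.Agent.Lib.Helper2.HuppertDefs

set_option autoImplicit false

/-!
# S3360-[A8] (helper55, for helper2 #4952)

If `r ^ 2 ∣ |G|` and every element of order `r` of the linear group `G` is irreducible, then `G` has
an element of order `r ^ 2`: a Sylow `r`-subgroup centralizes a central element `ξ` of order `r`, the
centralizer of the irreducible `ρ ξ` in `End V` is a commutative domain (Schur, via a cyclic vector),
so the Sylow subgroup is cyclic.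
-/

open Cfsg Module
open Cfsg.Agent.Lib.Helper2.Huppert

namespace Cfsg.Agent.Lib.Helper55.Huppert

section Schur

variable {q : ℕ} [Fact q.Prime] {V : Type*} [AddCommGroup V] [Module (ZMod q) V]

theorem end_comm_apply (a b : Module.End (ZMod q) V) (h : a * b = b * a) (v : V) :
    a (b v) = b (a v) := by
  have := LinearMap.congr_fun h v
  simpa [Module.End.mul_apply] using this

/-- an endomorphism commuting with an irreducible element is zero or injective -/
theorem ker_eq_bot_of_commute (X : V ≃ₗ[ZMod q] V) (h : IrrElt X) (f : Module.End (ZMod q) V)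
    (hf : (X : V →ₗ[ZMod q] V) * f = f * (X : V →ₗ[ZMod q] V)) (hf0 : f ≠ 0) :
    LinearMap.ker f = ⊥ := by
  have hinv : ∀ v ∈ LinearMap.ker f, X v ∈ LinearMap.ker f := by
    intro v hv
    rw [LinearMap.mem_ker] at hv ⊢
    have h1 := end_comm_apply _ _ hf v
    have h2 : f (X v) = X (f v) := h1.symm
    rw [h2, hv, map_zero]
  rcases h (LinearMap.ker f) hinv with h1 | h1
  · exact h1
  · exfalso
    apply hf0
    exact LinearMap.ker_eq_top.1 h1

/-- Schur + cyclic vector: the centralizer of an irreducible element is commutative -/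
theorem commute_of_commute (X : V ≃ₗ[ZMod q] V) (h : IrrElt X) (g1 g2 : Module.End (ZMod q) V)
    (h1 : (X : V →ₗ[ZMod q] V) * g1 = g1 * (X : V →ₗ[ZMod q] V))
    (h2 : (X : V →ₗ[ZMod q] V) * g2 = g2 * (X : V →ₗ[ZMod q] V)) : g1 * g2 = g2 * g1 := by
  classical
  by_cases hV : ∀ v : V, v = 0
  · ext v
    rw [hV ((g1 * g2) v), hV ((g2 * g1) v)]
  push Not at hV
  obtain ⟨v0, hv0⟩ := hV
  set XL : Module.End (ZMod q) V := (X : V →ₗ[ZMod q] V) with hXL
  set F := Algebra.adjoin (ZMod q) ({XL} : Set (Module.End (ZMod q) V)) with hF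
  set S := Subalgebra.centralizer (ZMod q) ({XL} : Set (Module.End (ZMod q) V)) with hS
  have hXF : XL ∈ F := Algebra.subset_adjoin (Set.mem_singleton XL)
  have hFC : F ≤ Subalgebra.centralizer (ZMod q) (S : Set (Module.End (ZMod q) V)) :=
    Algebra.adjoin_le_centralizer_centralizer (ZMod q) _
  have hFS : F ≤ S := by
    apply Algebra.adjoin_le
    intro y hy
    rw [Set.mem_singleton_iff] at hy
    subst hy
    rw [SetLike.mem_coe, Subalgebra.mem_centralizer_iff]
    intro g hg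
    rw [Set.mem_singleton_iff] at hg
    subst hg
    rfl
  have hg1S : g1 ∈ S := by
    rw [Subalgebra.mem_centralizer_iff]
    intro g hg
    rw [Set.mem_singleton_iff] at hg
    subst hg
    exact h1
  have hg2S : g2 ∈ S := by
    rw [Subalgebra.mem_centralizer_iff]
    intro g hg
    rw [Set.mem_singleton_iff] at hg
    subst hg
    exact h2
  -- elements of F commute with elements of S
  have hcomm : ∀ f ∈ F, ∀ g ∈ S, ∀ v : V, g (f v) = f (g v) := by
    intro f hf g hg v
    have := hFC hf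
    rw [Subalgebra.mem_centralizer_iff] at this
    exact end_comm_apply g f (this g hg) v
  -- the cyclic submodule
  let W0 : Submodule (ZMod q) V :=
    { carrier := {v | ∃ f ∈ F, f v0 = v}
      add_mem' := by
        rintro _ _ ⟨f, hf, rfl⟩ ⟨g, hg, rfl⟩
        exact ⟨f + g, F.add_mem hf hg, rfl⟩
      zero_mem' := ⟨0, F.zero_mem, rfl⟩
      smul_mem' := by
        rintro c _ ⟨f, hf, rfl⟩
        exact ⟨c • f, F.smul_mem hf c, rfl⟩ }
  have hW0mem : ∀ v : V, v ∈ W0 ↔ ∃ f ∈ F, f v0 = v := fun v => Iff.rfl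
  have hW0inv : ∀ v ∈ W0, X v ∈ W0 := by
    intro v hv
    obtain ⟨f, hf, rfl⟩ := (hW0mem v).1 hv
    exact (hW0mem _).2 ⟨XL * f, F.mul_mem hXF hf, rfl⟩
  have hv0W : v0 ∈ W0 := (hW0mem v0).2 ⟨1, F.one_mem, rfl⟩
  have hW0top : W0 = ⊤ := by
    rcases h W0 hW0inv with hb | ht
    · exfalso
      rw [hb] at hv0W
      exact hv0 ((Submodule.mem_bot _).1 hv0W)
    · exact ht
  have hall : ∀ v : V, ∃ f ∈ F, f v0 = v := by
    intro v
    have : v ∈ W0 := by rw [hW0top]; exact Submodule.mem_top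
    exact (hW0mem v).1 this
  obtain ⟨f1, hf1, hf1v⟩ := hall (g1 v0)
  obtain ⟨f2, hf2, hf2v⟩ := hall (g2 v0)
  ext v
  obtain ⟨hh, hhF, rfl⟩ := hall v
  rw [Module.End.mul_apply, Module.End.mul_apply]
  have e1 : g1 (g2 (hh v0)) = hh (f2 (f1 v0)) := by
    rw [hcomm hh hhF g2 hg2S v0, ← hf2v, hcomm hh hhF g1 hg1S (f2 v0), hcomm f2 hf2 g1 hg1S v0,
      ← hf1v]
  have e2 : g2 (g1 (hh v0)) = hh (f1 (f2 v0)) := by
    rw [hcomm hh hhF g1 hg1S v0, ← hf1v, hcomm hh hhF g2 hg2S (f1 v0), hcomm f1 hf1 g2 hg2S v0,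
      ← hf2v]
  rw [e1, e2, hcomm f1 hf1 f2 (hFS hf2) v0]

/-- the centralizer algebra of an irreducible element, as a type -/
def Cen (X : V ≃ₗ[ZMod q] V) (_h : IrrElt X) : Type _ :=
  ↥(Subalgebra.centralizer (ZMod q)
    ({(X : V →ₗ[ZMod q] V)} : Set (Module.End (ZMod q) V)))

instance cenRing (X : V ≃ₗ[ZMod q] V) (h : IrrElt X) : Ring (Cen X h) :=
  inferInstanceAs (Ring ↥(Subalgebra.centralizer (ZMod q)
    ({(X : V →ₗ[ZMod q] V)} : Set (Module.End (ZMod q) V))))

theorem cen_mem (X : V ≃ₗ[ZMod q] V) (h : IrrElt X) (a : Cen X h) :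
    (X : V →ₗ[ZMod q] V) * a.1 = a.1 * (X : V →ₗ[ZMod q] V) := by
  have := a.2
  rw [Subalgebra.mem_centralizer_iff] at this
  exact this _ (Set.mem_singleton _)

instance cenCommRing (X : V ≃ₗ[ZMod q] V) (h : IrrElt X) : CommRing (Cen X h) :=
  { cenRing X h with
    mul_comm := fun a b =>
      Subtype.ext (commute_of_commute X h a.1 b.1 (cen_mem X h a) (cen_mem X h b)) }

instance cenNontrivial [Nontrivial V] (X : V ≃ₗ[ZMod q] V) (h : IrrElt X) :
    Nontrivial (Cen X h) := by
  refine ⟨⟨0, 1, ?_⟩⟩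
  intro h01
  have h2 : ((0 : Cen X h)).1 = ((1 : Cen X h)).1 := congrArg Subtype.val h01
  obtain ⟨v, hv⟩ := exists_ne (0 : V)
  have h3 := LinearMap.congr_fun h2 v
  exact hv h3.symm

instance cenNoZeroDivisors (X : V ≃ₗ[ZMod q] V) (h : IrrElt X) : NoZeroDivisors (Cen X h) := by
  refine ⟨fun {a b} hab => ?_⟩
  by_cases ha : a = 0
  · exact Or.inl ha
  right
  have ha' : a.1 ≠ 0 := fun h0 => ha (Subtype.ext h0)
  have hker := ker_eq_bot_of_commute X h a.1 (cen_mem X h a) ha'
  apply Subtype.ext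
  ext v
  have h1 : (a * b).1 v = 0 := by rw [hab]; rfl
  have h2 : a.1 (b.1 v) = 0 := h1
  have h3 : b.1 v ∈ LinearMap.ker a.1 := LinearMap.mem_ker.2 h2
  rw [hker] at h3
  exact (Submodule.mem_bot _).1 h3

instance cenIsDomain [Nontrivial V] (X : V ≃ₗ[ZMod q] V) (h : IrrElt X) : IsDomain (Cen X h) :=
  NoZeroDivisors.to_isDomain _

end Schur

variable {q : ℕ} [Fact q.Prime] {V : Type*} [AddCommGroup V] [Module (ZMod q) V] [Finite V]
  {G : Type*} [Group G] [Finite G]

theorem exists_orderOf_sq [Nontrivial V] (ρ : G →* (V ≃ₗ[ZMod q] V)) (hρ : Function.Injective ρ)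
    {r : ℕ} [Fact r.Prime] (hr2 : r ^ 2 ∣ Nat.card G)
    (hirr : ∀ g : G, orderOf g = r → IrrElt (ρ g)) : ∃ ζ : G, orderOf ζ = r ^ 2 := by
  classical
  have hrp : r.Prime := Fact.out
  have hG0 : Nat.card G ≠ 0 := Nat.card_pos.ne'
  obtain ⟨R⟩ : Nonempty (Sylow r G) := inferInstance
  set k := (Nat.card G).factorization r with hk
  have hRcard : Nat.card (R : Subgroup G) = r ^ k := R.card_eq_multiplicity
  have hk2 : 2 ≤ k := (hrp.pow_dvd_iff_le_factorization hG0).1 hr2
  have hRnt : Nontrivial (R : Subgroup G) := by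
    rw [← Finite.one_lt_card_iff_nontrivial, hRcard]
    exact Nat.one_lt_pow (by omega) hrp.one_lt
  have hRp : IsPGroup r (R : Subgroup G) := R.isPGroup'
  have hZnt : Nontrivial (Subgroup.center (R : Subgroup G)) := hRp.center_nontrivial
  have hZp : IsPGroup r (Subgroup.center (R : Subgroup G)) :=
    hRp.to_subgroup _
  obtain ⟨m, hm⟩ := hZp.exists_card_eq
  have hm0 : m ≠ 0 := by
    rintro rfl
    rw [pow_zero] at hm
    have := (Finite.one_lt_card_iff_nontrivial).2 hZnt
    omega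
  have hdvd : r ∣ Nat.card (Subgroup.center (R : Subgroup G)) := by
    rw [hm]; exact dvd_pow_self r hm0
  obtain ⟨ξ0, hξ0⟩ := exists_prime_orderOf_dvd_card' r hdvd
  set ξ : G := ((ξ0 : (R : Subgroup G)) : G) with hξ
  have hξord : orderOf ξ = r := by
    rw [hξ, Subgroup.orderOf_coe, Subgroup.orderOf_coe, hξ0]
  have hI : IrrElt (ρ ξ) := hirr ξ hξord
  -- R centralizes ξ
  have hcent : ∀ a : (R : Subgroup G), ξ * (a : G) = (a : G) * ξ := by
    intro a
    have h1 : (ξ0 : (R : Subgroup G)) * a = a * (ξ0 : (R : Subgroup G)) := by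
      have := ξ0.2
      rw [Subgroup.mem_center_iff] at this
      exact (this a).symm
    have h2 := congrArg (fun x : (R : Subgroup G) => (x : G)) h1
    simpa using h2
  let T : (V ≃ₗ[ZMod q] V) →* Module.End (ZMod q) V :=
    LinearEquiv.automorphismGroup.toLinearMapMonoidHom
  have hT : ∀ e : V ≃ₗ[ZMod q] V, T e = (e : V →ₗ[ZMod q] V) := fun e => rfl
  have hTinj : Function.Injective T := by
    intro e1 e2 h12
    rw [hT, hT] at h12
    exact LinearEquiv.toLinearMap_injective h12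
  have hmemC : ∀ a : (R : Subgroup G), T (ρ (a : G)) ∈ Subalgebra.centralizer (ZMod q)
      ({((ρ ξ : V ≃ₗ[ZMod q] V) : V →ₗ[ZMod q] V)} : Set (Module.End (ZMod q) V)) := by
    intro a
    rw [Subalgebra.mem_centralizer_iff]
    intro g hg
    rw [Set.mem_singleton_iff] at hg
    subst hg
    rw [← hT (ρ ξ), ← map_mul, ← map_mul, ← map_mul, ← map_mul, hcent a]
  let φ : (R : Subgroup G) →* Cen (ρ ξ) hI :=
    { toFun := fun a => ⟨T (ρ (a : G)), hmemC a⟩
      map_one' := by
        apply Subtype.ext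
        change T (ρ ((1 : (R : Subgroup G)) : G)) = 1
        rw [Subgroup.coe_one, map_one, map_one]
      map_mul' := by
        intro a b
        apply Subtype.ext
        change T (ρ ((a * b : (R : Subgroup G)) : G)) = T (ρ (a : G)) * T (ρ (b : G))
        rw [Subgroup.coe_mul, map_mul, map_mul] }
  have hφinj : Function.Injective φ := by
    intro a b hab
    have h1 : T (ρ (a : G)) = T (ρ (b : G)) := congrArg Subtype.val hab
    exact Subtype.ext (hρ (hTinj h1))
  have hcyc : IsCyclic (R : Subgroup G) := isCyclic_of_injective_ringHom φ hφinj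
  obtain ⟨g, hg⟩ := hcyc.exists_generator
  have hgord : orderOf g = r ^ k := by
    rw [orderOf_eq_card_of_forall_mem_zpowers hg, hRcard]
  have hn0 : r ^ (k - 2) ≠ 0 := pow_ne_zero _ hrp.pos.ne'
  have hdv : r ^ (k - 2) ∣ orderOf g := by
    rw [hgord]; exact pow_dvd_pow r (by omega)
  have hord : orderOf (g ^ r ^ (k - 2)) = r ^ 2 := by
    rw [orderOf_pow_of_dvd hn0 hdv, hgord]
    have : r ^ k = r ^ 2 * r ^ (k - 2) := by rw [← pow_add]; congr 1; omega
    rw [this, Nat.mul_div_cancel _ (Nat.pos_of_ne_zero hn0)]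
  refine ⟨((g ^ r ^ (k - 2) : (R : Subgroup G)) : G), ?_⟩
  rw [Subgroup.orderOf_coe, hord]

end Cfsg.Agent.Lib.Helper55.Huppert
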