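/-
helper55: modules [ORD] and [PS] of helper71's S2536 (Hall subgroups of symmetric groups).
All declarations live in `Cfsg.Agent.Lib.Helper55.HallSym`.
-/
import Mathlib
import Cfsg.Prelude.Def_HallClasses

set_option autoImplicit false

namespace Cfsg.Agent.Lib.Helper55.HallSym

open Cfsg Equiv

/-- (MAX) a Hall `π`-subgroup contained in a `π`-subgroup is equal to it. -/
theorem eq_of_isPiHall_of_le {Γ : Type*} [Group Γ] [Finite Γ] {π : Set ℕ} {H K : Subgroup Γ}
    (hH : IsPiHall π H) (hHK : H ≤ K) (hK : ∀ p : ℕ, p.Prime → p ∣ Nat.card K → p ∈ π) :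
    H = K := by
  apply le_antisymm hHK
  rw [← Subgroup.relIndex_eq_one]
  by_contra hne
  obtain ⟨r, hr, hrd⟩ := Nat.exists_prime_and_dvd hne
  have h1 : r ∣ Nat.card K := hrd.trans (Subgroup.relIndex_dvd_card H K)
  have h2 : r ∣ H.index := hrd.trans (Subgroup.relIndex_dvd_index_of_le hHK)
  exact hH.2 r hr (hK r hr h1) h2

section
variable {β : Type} [Fintype β] [DecidableEq β]

/-- the order of a point stabilizer of `Perm β` -/
theorem card_stabilizer_perm (y : β) :
    Nat.card (MulAction.stabilizer (Perm β) y) = (Fintype.card β - 1).factorial := by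
  have h1 := (MulAction.stabilizer (Perm β) y).card_mul_index
  rw [MulAction.index_stabilizer_of_transitive (Perm β) y, Nat.card_eq_fintype_card (α := Perm β),
    Fintype.card_perm, Nat.card_eq_fintype_card (α := β)] at h1
  have hpos : 0 < Fintype.card β := Fintype.card_pos_iff.mpr ⟨y⟩
  obtain ⟨n, hn⟩ : ∃ n, Fintype.card β = n + 1 := ⟨Fintype.card β - 1, by omega⟩
  rw [hn] at h1 ⊢
  rw [Nat.factorial_succ, mul_comm] at h1
  rw [Nat.add_sub_cancel]
  exact Nat.eq_of_mul_eq_mul_left (Nat.succ_pos n) h1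

/-- **[ORD]** -/
theorem stabilizer_le_of_hall (π : Set ℕ) (H : Subgroup (Perm β)) (hH : IsPiHall π H)
    (hπ : ∀ r : ℕ, r.Prime → r < Fintype.card β → r ∈ π) (y : β) (hy : ∀ h ∈ H, h y = y) :
    ∀ σ : Perm β, σ y = y → σ ∈ H := by
  have hle : H ≤ MulAction.stabilizer (Perm β) y := fun h hh => hy h hh
  have hS : ∀ p : ℕ, p.Prime → p ∣ Nat.card (MulAction.stabilizer (Perm β) y) → p ∈ π := by
    intro p hp hd
    rw [card_stabilizer_perm] at hd
    have h1 := (hp.dvd_factorial).mp hd
    have hpos : 0 < Fintype.card β := Fintype.card_pos_iff.mpr ⟨y⟩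
    exact hπ p hp (by omega)
  have heq := eq_of_isPiHall_of_le hH hle hS
  intro σ hσ
  rw [heq]
  exact hσ

/-- **[PS]** -/
theorem hall_stabilizer (π : Set ℕ) (H : Subgroup (Perm β)) (hH : IsPiHall π H)
    (htr : ∀ a b : β, ∃ h ∈ H, h a = b) (x : β) :
    (∃ H' : Subgroup (Perm {y // y ≠ x}), IsPiHall π H' ∧
        (∀ h ∈ H, h x = x → ∃ h' ∈ H', ∀ y : {y // y ≠ x}, ((h' y : {y // y ≠ x}) : β) = h y) ∧
        (∀ h' ∈ H', ∃ h ∈ H, h x = x ∧ ∀ y : {y // y ≠ x}, ((h' y : {y // y ≠ x}) : β) = h y)) ∧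
      ∀ r : ℕ, r.Prime → r ∣ Fintype.card β → r ∈ π := by
  classical
  set S : Subgroup (Perm β) := MulAction.stabilizer (Perm β) x with hSdef
  let ψ : Perm {y // y ≠ x} →* Perm β := Equiv.Perm.ofSubtype
  have hψinj : Function.Injective ψ := Equiv.Perm.ofSubtype_injective
  have hψx : ∀ f : Perm {y // y ≠ x}, ψ f x = x := fun f =>
    Equiv.Perm.ofSubtype_apply_of_not_mem f (by simp)
  have hrange : ψ.range = S := by
    ext σ
    constructor
    · rintro ⟨f, rfl⟩
      exact hψx f
    · intro hσ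
      have hσx : σ x = x := hσ
      have h₁ : ∀ y, (σ y ≠ x) ↔ (y ≠ x) := by
        intro y
        constructor
        · intro h hy; apply h; rw [hy, hσx]
        · intro h hy; apply h; rw [← hσx] at hy; exact σ.injective hy
      have h₂ : ∀ y, σ y ≠ y → y ≠ x := by
        intro y h hy; apply h; rw [hy, hσx]
      exact ⟨Equiv.Perm.subtypePerm σ h₁, Equiv.Perm.ofSubtype_subtypePerm h₁ h₂⟩
  -- transitivity
  have hpreH : MulAction.IsPretransitive H β := by
    constructor
    intro a b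
    obtain ⟨h, hh, hab⟩ := htr a b
    exact ⟨⟨h, hh⟩, hab⟩
  have hrel1 : S.relIndex H = Nat.card β := by
    have h1 := MulAction.index_stabilizer_of_transitive H x
    have h2 : MulAction.stabilizer H x = S.subgroupOf H := by
      ext h
      rw [MulAction.mem_stabilizer_iff, Subgroup.mem_subgroupOf, hSdef, MulAction.mem_stabilizer_iff]
      rfl
    rw [h2] at h1
    exact h1
  have hSidx : S.index = Nat.card β := MulAction.index_stabilizer_of_transitive (Perm β) x
  have hcardpos : 0 < Nat.card β := Nat.card_pos_iff.mpr ⟨⟨x⟩, inferInstance⟩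
  have hrel2 : H.relIndex S = H.index := by
    have e1 : (H ⊓ S).relIndex H * H.index = (H ⊓ S).index := Subgroup.relIndex_mul_index inf_le_left
    have e2 : (H ⊓ S).relIndex S * S.index = (H ⊓ S).index := Subgroup.relIndex_mul_index inf_le_right
    rw [Subgroup.inf_relIndex_left, hrel1] at e1
    rw [Subgroup.inf_relIndex_right, hSidx] at e2
    have e3 : Nat.card β * H.index = Nat.card β * H.relIndex S := by
      rw [e1, ← e2, mul_comm]
    exact (Nat.eq_of_mul_eq_mul_left hcardpos e3).symm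
  refine ⟨⟨H.comap ψ, ⟨?_, ?_⟩, ?_, ?_⟩, ?_⟩
  · intro p hp hd
    apply hH.1 p hp
    have h1 : Nat.card ((H.comap ψ).map ψ) = Nat.card (H.comap ψ) :=
      Subgroup.card_map_of_injective hψinj
    have h2 : (H.comap ψ).map ψ ≤ H := Subgroup.map_comap_le ψ H
    exact hd.trans (h1 ▸ Subgroup.card_dvd_of_le h2)
  · intro p hp hpπ hd
    rw [Subgroup.index_comap, hrange, hrel2] at hd
    exact hH.2 p hp hpπ hd
  · intro h hh hx
    have h₁ : ∀ y, (h y ≠ x) ↔ (y ≠ x) := by
      intro y
      constructor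
      · intro h' hy; apply h'; rw [hy, hx]
      · intro h' hy; apply h'; rw [← hx] at hy; exact h.injective hy
    have h₂ : ∀ y, h y ≠ y → y ≠ x := by
      intro y h' hy; apply h'; rw [hy, hx]
    refine ⟨Equiv.Perm.subtypePerm h h₁, ?_, fun y => rfl⟩
    rw [Subgroup.mem_comap]
    have : ψ (Equiv.Perm.subtypePerm h h₁) = h := Equiv.Perm.ofSubtype_subtypePerm h₁ h₂
    rw [this]; exact hh
  · intro h' hh'
    refine ⟨ψ h', hh', hψx h', fun y => ?_⟩
    exact (Equiv.Perm.ofSubtype_apply_coe h' y).symm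
  · intro r hr hd
    apply hH.1 r hr
    rw [← Nat.card_eq_fintype_card, ← hrel1] at hd
    exact hd.trans (Subgroup.relIndex_dvd_card S H)

end

end Cfsg.Agent.Lib.Helper55.HallSym
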