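/-
helper55: module [TB] of helper71's S2536 (Hall subgroups of symmetric groups): restriction of a
Hall subgroup to an invariant subset.
All declarations live in `Cfsg.Agent.Lib.Helper55.HallSym`.
-/
import Mathlib
import Cfsg.Prelude.Def_HallClasses
import Cfsg.Agent.Lib.Helper55.HallSymA

set_option autoImplicit false

namespace Cfsg.Agent.Lib.Helper55.HallSym

open Cfsg Equiv

section
variable {β : Type} [Fintype β] [DecidableEq β]

/-- restriction of a subgroup of `Perm β` to an invariant predicate -/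
def restrictHom (H : Subgroup (Perm β)) (p : β → Prop) (hp : ∀ h ∈ H, ∀ a, p (h a) ↔ p a) :
    ↥H →* Perm {a // p a} where
  toFun h := Equiv.Perm.subtypePerm (h : Perm β) (hp h h.2)
  map_one' := by
    ext a
    rfl
  map_mul' f g := by
    ext a
    rfl

omit [Fintype β] [DecidableEq β] in
theorem restrictHom_apply (H : Subgroup (Perm β)) (p : β → Prop) (hp : ∀ h ∈ H, ∀ a, p (h a) ↔ p a)
    (h : ↥H) (a : {a // p a}) : ((restrictHom H p hp h a : {a // p a}) : β) = (h : Perm β) a := rfl

/-- the index of the Young subgroup -/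
theorem index_range_subtypeCongrHom (t : Finset β) :
    (Equiv.Perm.subtypeCongrHom (fun a => a ∈ t)).range.index = (Fintype.card β).choose t.card := by
  have hinj := Equiv.Perm.subtypeCongrHom_injective (fun a : β => a ∈ t)
  have h1 := (Equiv.Perm.subtypeCongrHom (fun a : β => a ∈ t)).range.card_mul_index
  have h2 : Nat.card (Equiv.Perm.subtypeCongrHom (fun a : β => a ∈ t)).range =
      t.card.factorial * (Fintype.card β - t.card).factorial := by
    rw [Nat.card_congr (MonoidHom.ofInjective hinj).symm.toEquiv, Nat.card_prod,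
      Nat.card_eq_fintype_card, Nat.card_eq_fintype_card, Fintype.card_perm, Fintype.card_perm,
      Fintype.card_coe, Fintype.card_subtype_compl, Fintype.card_coe]
  have hle : t.card ≤ Fintype.card β := Finset.card_le_univ t
  have h3 := Nat.choose_mul_factorial_mul_factorial hle
  rw [h2, Nat.card_eq_fintype_card, Fintype.card_perm, ← h3] at h1
  have hpos : 0 < t.card.factorial * (Fintype.card β - t.card).factorial :=
    Nat.mul_pos (Nat.factorial_pos _) (Nat.factorial_pos _)
  have h4 : t.card.factorial * (Fintype.card β - t.card).factorial *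
      (Equiv.Perm.subtypeCongrHom (fun a : β => a ∈ t)).range.index =
      t.card.factorial * (Fintype.card β - t.card).factorial * (Fintype.card β).choose t.card := by
    rw [h1]; ring
  exact Nat.eq_of_mul_eq_mul_left hpos h4

/-- **[TB]** -/
theorem hall_restrict (π : Set ℕ) (H : Subgroup (Perm β)) (hH : IsPiHall π H) (t : Finset β)
    (ht : ∀ h ∈ H, ∀ a ∈ t, h a ∈ t) :
    (∃ H' : Subgroup (Perm {y // y ∈ t}), IsPiHall π H' ∧
        (∀ h ∈ H, ∃ h' ∈ H', ∀ y : {y // y ∈ t}, ((h' y : {y // y ∈ t}) : β) = h y) ∧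
        (∀ h' ∈ H', ∃ h ∈ H, ∀ y : {y // y ∈ t}, ((h' y : {y // y ∈ t}) : β) = h y)) ∧
      ∀ r : ℕ, r.Prime → r ∈ π → ¬ r ∣ (Fintype.card β).choose t.card := by
  -- invariance in both directions
  have hp : ∀ h ∈ H, ∀ a, (h a ∈ t) ↔ (a ∈ t) := by
    intro h hh a
    constructor
    · intro ha
      have := ht h⁻¹ (H.inv_mem hh) (h a) ha
      simpa using this
    · exact ht h hh a
  have hq : ∀ h ∈ H, ∀ a, (¬ h a ∈ t) ↔ (¬ a ∈ t) := fun h hh a => not_congr (hp h hh a)
  let ρA := restrictHom H (fun a => a ∈ t) hp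
  let ρB := restrictHom H (fun a => ¬ a ∈ t) hq
  let φ := Equiv.Perm.subtypeCongrHom (fun a : β => a ∈ t)
  have hφinj : Function.Injective φ := Equiv.Perm.subtypeCongrHom_injective _
  let K : Subgroup (Perm β) := (ρA.range.prod ρB.range).map φ
  have hHK : H ≤ K := by
    intro h hh
    refine ⟨(ρA ⟨h, hh⟩, ρB ⟨h, hh⟩), ⟨⟨⟨h, hh⟩, rfl⟩, ⟨⟨h, hh⟩, rfl⟩⟩, ?_⟩
    ext a
    by_cases ha : a ∈ t
    · exact Equiv.Perm.subtypeCongr.left_apply _ _ ha
    · exact Equiv.Perm.subtypeCongr.right_apply _ _ ha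
  have hKcard : Nat.card K = Nat.card ρA.range * Nat.card ρB.range := by
    rw [Subgroup.card_map_of_injective hφinj,
      Nat.card_congr (Subgroup.prodEquiv ρA.range ρB.range).toEquiv, Nat.card_prod]
  have hKπ : ∀ p : ℕ, p.Prime → p ∣ Nat.card K → p ∈ π := by
    intro p hp' hd
    rw [hKcard] at hd
    rcases (hp'.dvd_mul).mp hd with h1 | h1
    · exact hH.1 p hp' (h1.trans (Subgroup.card_range_dvd ρA))
    · exact hH.1 p hp' (h1.trans (Subgroup.card_range_dvd ρB))
  have heq : H = K := eq_of_isPiHall_of_le hH hHK hKπ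
  have hidx : H.index = ρA.range.index * ρB.range.index * (Fintype.card β).choose t.card := by
    have h0 : H.index = K.index := congrArg Subgroup.index heq
    rw [h0]
    show ((ρA.range.prod ρB.range).map φ).index = _
    rw [Subgroup.index_map_of_injective (ρA.range.prod ρB.range) hφinj, Subgroup.index_prod,
      index_range_subtypeCongrHom]
  refine ⟨⟨ρA.range, ⟨?_, ?_⟩, ?_, ?_⟩, ?_⟩
  · intro p hp' hd
    exact hH.1 p hp' (hd.trans (Subgroup.card_range_dvd ρA))
  · intro p hp' hpπ hd
    apply hH.2 p hp' hpπ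
    rw [hidx, mul_assoc]
    exact Dvd.dvd.mul_right hd _
  · intro h hh
    exact ⟨ρA ⟨h, hh⟩, ⟨⟨h, hh⟩, rfl⟩, fun y => rfl⟩
  · rintro h' ⟨⟨h, hh⟩, rfl⟩
    exact ⟨h, hh, fun y => rfl⟩
  · intro r hr hrπ hd
    apply hH.2 r hr hrπ
    rw [hidx]
    exact Dvd.dvd.mul_left hd _

end

end Cfsg.Agent.Lib.Helper55.HallSym
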