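import Mathlib

/-!
# S1329 project (helper55): coprime commutator / fixed-point generation

`Cocyc A` = the subgroups `B ≤ A` with `A = ⟨B, a⟩` for some `a ∈ A` (the formulation of the
landed `Cfsg.Agent.S3734.result`), `ZStar A Y` = the subgroup of `C_Y(A)` generated by the
`C_Y(A) ⊓ ⁅C_Y(B), A⁆`, `B ∈ Cocyc A`.

Target ("Theorem T"): for abelian `A` acting coprimely on a solvable `Y`,
`C_Y(A) ⊓ ⁅Y, A⁆ ≤ ZStar A Y`.
-/

set_option autoImplicit false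

namespace Cfsg.Agent.Lib.Helper55.CFG

variable {G : Type*} [Group G]

/-- the subgroups `B ≤ A` with `A = ⟨B, a⟩` for some `a ∈ A` -/
def Cocyc (A : Subgroup G) : Set (Subgroup G) :=
  {B : Subgroup G | B ≤ A ∧ ∃ a ∈ A, B ⊔ Subgroup.zpowers a = A}

/-- the subgroup generated by the `C_Y(A) ⊓ ⁅C_Y(B), A⁆`, `B ∈ Cocyc A` -/
def ZStar (A Y : Subgroup G) : Subgroup G :=
  ⨆ B ∈ Cocyc A, (Y ⊓ Subgroup.centralizer (A : Set G)) ⊓
    ⁅Y ⊓ Subgroup.centralizer (B : Set G), A⁆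

theorem ZStar_le (A Y : Subgroup G) : ZStar A Y ≤ Y ⊓ Subgroup.centralizer (A : Set G) :=
  iSup₂_le fun _ _ => inf_le_left

theorem ZStar_mono (A : Subgroup G) {Y₁ Y₂ : Subgroup G} (h : Y₁ ≤ Y₂) :
    ZStar A Y₁ ≤ ZStar A Y₂ :=
  iSup₂_mono fun _ _ =>
    inf_le_inf (inf_le_inf_right _ h) (Subgroup.commutator_mono (inf_le_inf_right _ h) le_rfl)

theorem le_ZStar (A Y : Subgroup G) {B : Subgroup G} (hB : B ∈ Cocyc A) :
    (Y ⊓ Subgroup.centralizer (A : Set G)) ⊓ ⁅Y ⊓ Subgroup.centralizer (B : Set G), A⁆ ≤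
      ZStar A Y :=
  le_iSup₂ (f := fun B (_ : B ∈ Cocyc A) => (Y ⊓ Subgroup.centralizer (A : Set G)) ⊓
    ⁅Y ⊓ Subgroup.centralizer (B : Set G), A⁆) B hB

/-- `A` itself is cocyclic in `A` -/
theorem self_mem_Cocyc (A : Subgroup G) : A ∈ Cocyc A :=
  ⟨le_rfl, 1, A.one_mem, by simp⟩

end Cfsg.Agent.Lib.Helper55.CFG
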