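/-
helper55: module [RHOZERO] of helper74's PF (12.7) character core (h124): the Dade restriction to
`N` of `τ_L(γ)` vanishes on `F#`.
All declarations live in `Cfsg.Agent.Lib.Helper55.PF127`.
-/
import Mathlib
import Cfsg.Agent.Lib.Helper74.PF127Defs
import Cfsg.Agent.Lib.Helper4.PFTypes
import Cfsg.Agent.Lib.Helper3.Dade
import Cfsg.Agent.Lib.Helper64.PFTwelveX1
import Cfsg.Agent.Lib.Helper26.PFBookC

set_option autoImplicit false

namespace Cfsg.Agent.Lib.Helper55.PF127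

open Cfsg Cfsg.Agent.Lib.Helper4.PF Cfsg.Agent.Lib.Helper74.PF127
open scoped ComplexConjugate

theorem conjSub_one {G : Type*} [Group G] (M : Subgroup G) : conjSub 1 M = M := by
  ext y
  rw [Cfsg.Agent.Lib.Helper26.PFBook.mem_conjSub]
  simp

/-- MODULE [RHOZERO] -/
theorem rho_zero {G : Type*} [Group G] [Fintype G]
    (N : Subgroup G) (L : Subgroup G) [Fintype L] (hL : IsCoatom L)
    (hlitA : ∀ t : G, litA (conjSub t L) = {a | a ∈ conjSub t L ∧ a ≠ 1 ∧
      ∃ x ∈ fittingHallOf (conjSub t L), x ≠ 1 ∧ a * x = x * a})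
    (hnorm : ∀ t : G, conjSub t L = L → t ∈ L)
    (hDL : DadeHypothesis (litA L) L (supportR L))
    (hRL : ∀ b ∈ litA L, b ∉ fittingHallOf L → supportR L b = ⊥)
    (hB : ∀ t a u : G, a ∈ fittingHallOf N → a ≠ 1 → u ∈ supportR N a →
      a * u ∈ litA (conjSub t L) → a * u ∉ fittingHallOf (conjSub t L) →
      a ∈ conjSub t L ∧ a ∉ fittingHallOf (conjSub t L) ∧
      (∀ L' : Subgroup G, IsCoatom L' → Subgroup.centralizer ({a} : Set G) ≤ L' →
        L' = conjSub t L) ∧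
      Subgroup.centralizer ({a} : Set G) ≤ conjSub t L ∧
      supportR N a = fittingHallOf (conjSub t L) ⊓ Subgroup.centralizer ({a} : Set G) ∧
      (Nat.card (fittingHallOf (conjSub t L))).Coprime (orderOf a))
    (γ : L → ℂ) (hγ : IsClassFunction L γ)
    (hγH : ∀ l : L, (l : G) ∈ fittingHallOf L → γ l = 0)
    (hγA : ∀ l : L, (l : G) ∉ litA L → γ l = 0)
    (hγsum : ∀ g : L, (g : G) ∉ fittingHallOf L →
      (Nat.card (fittingHallOf L)).Coprime (orderOf g) →
      ∑ᶠ c ∈ {c : L | (c : G) ∈ fittingHallOf L ∧ c * g = g * c}, γ (g * c) = 0)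
    (a : G) (ha : a ∈ fittingHallOf N) (ha1 : a ≠ 1) :
    dadeAvg (supportR N) (dadeIsometry (litA L) L (supportR L) γ) a = 0 := by
  classical
  set Φ := dadeIsometry (litA L) L (supportR L) γ with hΦ
  have hΦcf : IsClassFunction G Φ := Cfsg.Agent.Lib.Helper3.Dade.dade_isClassFunction hDL hγ
  have hlitAL : litA L = {a | a ∈ L ∧ a ≠ 1 ∧
      ∃ x ∈ fittingHallOf L, x ≠ 1 ∧ a * x = x * a} := by
    have := hlitA 1
    rwa [conjSub_one] at this
  -- K1
  have K1 : ∀ g : G, Φ g ≠ 0 → ∃ b : L, (b : G) ∈ litA L ∧ (b : G) ∉ fittingHallOf L ∧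
      ∃ x : G, x * g * x⁻¹ = b := by
    intro g hg
    by_cases h : ∃ b : L, Cfsg.Agent.Lib.Helper3.Dade.Rel (litA L) L (supportR L) g b
    · obtain ⟨b, hb⟩ := h
      have hΦb : Φ g = γ b := Cfsg.Agent.Lib.Helper3.Dade.dade_eq hDL hγ hb
      have hγb : γ b ≠ 0 := hΦb ▸ hg
      have hbH : (b : G) ∉ fittingHallOf L := fun hbH => hγb (hγH b hbH)
      obtain ⟨hbA, x, u, hu, hx⟩ := hb
      rw [hRL b hbA hbH, Subgroup.mem_bot] at hu
      refine ⟨b, hbA, hbH, x, ?_⟩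
      rw [hx, hu, mul_one]
    · exact absurd (Cfsg.Agent.Lib.Helper3.Dade.dade_eq_zero h) hg
  -- K2
  have K2 : ∀ (x g : G) (b : L), (b : G) ∈ litA L → (b : G) ∉ fittingHallOf L →
      x * g * x⁻¹ = b → g ∈ litA (conjSub x⁻¹ L) ∧ g ∉ fittingHallOf (conjSub x⁻¹ L) := by
    intro x g b hbA hbH hx
    have hg : g = x⁻¹ * (b : G) * x⁻¹⁻¹ := by rw [← hx]; group
    rw [hlitAL] at hbA
    obtain ⟨hbL, hb1, y, hy, hy1, hby⟩ := hbA
    constructor
    · rw [hlitA x⁻¹]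
      refine ⟨?_, ?_, x⁻¹ * y * x⁻¹⁻¹,
        Cfsg.Agent.Lib.Helper64.PF12.conj_mem_fittingHallOf_conjSub L x⁻¹ hy, ?_, ?_⟩
      · rw [Cfsg.Agent.Lib.Helper26.PFBook.mem_conjSub, inv_inv, hx]
        exact hbL
      · intro h1
        apply hb1
        rw [← hx, h1]; group
      · intro h1
        apply hy1
        have : y = x * (x⁻¹ * y * x⁻¹⁻¹) * x⁻¹ := by group
        rw [this, h1]; group
      · rw [hg]
        calc x⁻¹ * (b : G) * x⁻¹⁻¹ * (x⁻¹ * y * x⁻¹⁻¹) = x⁻¹ * ((b : G) * y) * x⁻¹⁻¹ := by group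
          _ = x⁻¹ * (y * (b : G)) * x⁻¹⁻¹ := by rw [hby]
          _ = x⁻¹ * y * x⁻¹⁻¹ * (x⁻¹ * (b : G) * x⁻¹⁻¹) := by group
    · intro hgH
      apply hbH
      have := Cfsg.Agent.Lib.Helper64.PF12.mem_fittingHallOf_of_conjSub L x⁻¹ hgH
      rw [inv_inv] at this
      rw [← hx]
      exact this
  unfold dadeAvg
  suffices hs : ∑ᶠ u ∈ (supportR N a : Set G), Φ (a * u) = 0 by rw [hs, mul_zero]
  by_cases hall : ∀ u ∈ (supportR N a : Set G), Φ (a * u) = 0
  · rw [finsum_mem_congr rfl hall]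
    exact finsum_mem_zero _
  push Not at hall
  obtain ⟨u0, hu0, hΦu0⟩ := hall
  obtain ⟨b, hbA, hbH, x, hx⟩ := K1 (a * u0) hΦu0
  obtain ⟨hgA, hgH⟩ := K2 x (a * u0) b hbA hbH hx
  obtain ⟨haLt, haHt, huniq, hCa, hRa, hcop⟩ := hB x⁻¹ a u0 ha ha1 hu0 hgA hgH
  have ha'L : x * a * x⁻¹ ∈ L := by
    have := (Cfsg.Agent.Lib.Helper26.PFBook.mem_conjSub).mp haLt
    rwa [inv_inv] at this
  have ha'H : x * a * x⁻¹ ∉ fittingHallOf L := by
    intro h
    apply haHt
    have := Cfsg.Agent.Lib.Helper64.PF12.conj_mem_fittingHallOf_conjSub L x⁻¹ h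
    have e : x⁻¹ * (x * a * x⁻¹) * x⁻¹⁻¹ = a := by group
    rwa [e] at this
  set a' : L := ⟨x * a * x⁻¹, ha'L⟩ with ha'
  -- the map `c ↦ x⁻¹ c x`
  have hmaps : ∀ c : L, (c : G) ∈ fittingHallOf L → c * a' = a' * c →
      x⁻¹ * (c : G) * x ∈ supportR N a := by
    intro c hcH hca
    rw [hRa, Subgroup.mem_inf]
    constructor
    · have := Cfsg.Agent.Lib.Helper64.PF12.conj_mem_fittingHallOf_conjSub L x⁻¹ hcH
      rwa [inv_inv] at this
    · rw [Subgroup.mem_centralizer_iff]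
      intro z hz
      rw [Set.mem_singleton_iff] at hz
      subst hz
      have h1 : (c : G) * (x * z * x⁻¹) = (x * z * x⁻¹) * (c : G) := congrArg Subtype.val hca
      calc z * (x⁻¹ * (c : G) * x) = x⁻¹ * ((x * z * x⁻¹) * (c : G)) * x := by group
        _ = x⁻¹ * ((c : G) * (x * z * x⁻¹)) * x := by rw [h1]
        _ = x⁻¹ * (c : G) * x * z := by group
  -- the Claim
  have hclaim : ∀ c : L, (c : G) ∈ fittingHallOf L → c * a' = a' * c →
      Φ ((a' * c : L) : G) = γ (a' * c) := by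
    intro c hcH hca
    by_cases hl : ((a' * c : L) : G) ∈ litA L
    · have := Cfsg.Agent.Lib.Helper3.Dade.dade_coset hDL hγ (a' * c) hl
        (u := 1) (Subgroup.one_mem _)
      rwa [mul_one] at this
    · rw [hγA _ hl]
      by_contra hne
      obtain ⟨b', hb'A, hb'H, x', hx'⟩ := K1 _ hne
      have hu := hmaps c hcH hca
      have hl' : ((a' * c : L) : G) = x * (a * (x⁻¹ * (c : G) * x)) * x⁻¹ := by
        show x * a * x⁻¹ * (c : G) = _
        group
      have hx'' : (x' * x) * (a * (x⁻¹ * (c : G) * x)) * (x' * x)⁻¹ = b' := by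
        rw [← hx', hl']; group
      obtain ⟨hgA', hgH'⟩ := K2 (x' * x) _ b' hb'A hb'H hx''
      obtain ⟨-, -, -, hCa', -, -⟩ := hB (x' * x)⁻¹ a _ ha ha1 hu hgA' hgH'
      have heq : conjSub (x' * x)⁻¹ L = conjSub x⁻¹ L :=
        huniq _ (Cfsg.Agent.Lib.Helper26.PFBook.isCoatom_conjSub hL _) hCa'
      have hx'L : conjSub x'⁻¹ L = L := by
        ext w
        rw [Cfsg.Agent.Lib.Helper26.PFBook.mem_conjSub, inv_inv]
        have h1 : x⁻¹ * w * x ∈ conjSub (x' * x)⁻¹ L ↔ x⁻¹ * w * x ∈ conjSub x⁻¹ L := by rw [heq]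
        rw [Cfsg.Agent.Lib.Helper26.PFBook.mem_conjSub, Cfsg.Agent.Lib.Helper26.PFBook.mem_conjSub,
          inv_inv, inv_inv] at h1
        have e1 : x' * x * (x⁻¹ * w * x) * (x' * x)⁻¹ = x' * w * x'⁻¹ := by group
        have e2 : x * (x⁻¹ * w * x) * x⁻¹ = w := by group
        rw [e1, e2] at h1
        exact h1
      have hx'mem : x'⁻¹ ∈ L := hnorm x'⁻¹ hx'L
      apply hl
      have h2 := hDL.conj_mem x'⁻¹ hx'mem (b' : G) hb'A
      rw [← hx'] at h2
      have e3 : x'⁻¹ * (x' * ((a' * c : L) : G) * x'⁻¹) * x'⁻¹⁻¹ = ((a' * c : L) : G) := by group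
      rwa [e3] at h2
  -- the sum
  have hsumeq : ∑ᶠ c ∈ {c : L | (c : G) ∈ fittingHallOf L ∧ c * a' = a' * c}, γ (a' * c) =
      ∑ᶠ u ∈ (supportR N a : Set G), Φ (a * u) := by
    apply finsum_mem_eq_of_bijOn (fun c : L => x⁻¹ * (c : G) * x)
    · refine ⟨?_, ?_, ?_⟩
      · intro c hc
        exact hmaps c hc.1 hc.2
      · intro c _ c' _ h
        apply Subtype.ext
        have h' : x⁻¹ * (c : G) * x = x⁻¹ * (c' : G) * x := h
        calc (c : G) = x * (x⁻¹ * (c : G) * x) * x⁻¹ := by group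
          _ = x * (x⁻¹ * (c' : G) * x) * x⁻¹ := by rw [h']
          _ = (c' : G) := by group
      · intro u hu
        have hu' : u ∈ supportR N a := hu
        rw [hRa, Subgroup.mem_inf] at hu'
        obtain ⟨hu1, hu2⟩ := hu'
        have h1 := Cfsg.Agent.Lib.Helper64.PF12.mem_fittingHallOf_of_conjSub L x⁻¹ hu1
        rw [inv_inv] at h1
        have hcL : x * u * x⁻¹ ∈ L := by
          have hle : fittingHallOf L ≤ L := by
            unfold fittingHallOf
            rintro _ ⟨h', _, rfl⟩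
            exact h'.2
          exact hle h1
        refine ⟨⟨x * u * x⁻¹, hcL⟩, ⟨h1, ?_⟩, ?_⟩
        · apply Subtype.ext
          show x * u * x⁻¹ * (x * a * x⁻¹) = x * a * x⁻¹ * (x * u * x⁻¹)
          have h3 : a * u = u * a := (Subgroup.mem_centralizer_iff.mp hu2) a (Set.mem_singleton a)
          calc x * u * x⁻¹ * (x * a * x⁻¹) = x * (u * a) * x⁻¹ := by group
            _ = x * (a * u) * x⁻¹ := by rw [h3]
            _ = x * a * x⁻¹ * (x * u * x⁻¹) := by group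
        · show x⁻¹ * (x * u * x⁻¹) * x = u
          group
    · intro c hc
      rw [← hclaim c hc.1 hc.2]
      have e : ((a' * c : L) : G) = x * (a * (x⁻¹ * (c : G) * x)) * x⁻¹ := by
        show x * a * x⁻¹ * (c : G) = _
        group
      rw [e, hΦcf]
  rw [← hsumeq]
  apply hγsum a' ha'H
  have h1 : orderOf a' = orderOf a := by
    rw [← Subgroup.orderOf_coe]
    exact orderOf_injective (MulAut.conj x).toMonoidHom (MulAut.conj x).injective a
  rw [h1, ← Cfsg.Agent.Lib.Helper26.PFBook.card_fittingHallOf_map_conj L x⁻¹]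
  exact hcop

end Cfsg.Agent.Lib.Helper55.PF127
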