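import Mathlib
import Cfsg.Prelude.Def_OddOrderLocal
import Cfsg.Agent.Lib.Helper21.PrimeAction1

/-!
# Bender–Glauberman §11: the Shult reduction (E) of board #1817

`K` nilpotent, `X` of prime order `p` normalizing `K` with `C_K(X) = 1`, `R` an `X`-invariant
`q`-subgroup normalizing `K`, `|K|` prime to `p q`, `q` odd.  Then `[R, X]` centralizes `K`.
-/

set_option autoImplicit false
open Cfsg

namespace Cfsg.Agent.Lib.Helper55.BGEleven

variable {G : Type*} [Group G]

/-- `B ≤ C` as soon as, for every prime `s`, `B ⊓ C` contains a subgroup of order the full power of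
`s` dividing `|B|`. -/
theorem le_of_forall_prime_pow_le [Finite G] {B C : Subgroup G}
    (h : ∀ s : ℕ, s.Prime → ∃ T : Subgroup G, T ≤ B ∧ T ≤ C ∧
      Nat.card T = s ^ (Nat.card B).factorization s) : B ≤ C := by
  have hdvd : Nat.card B ∣ Nat.card (B ⊓ C : Subgroup G) := by
    rw [← Nat.factorization_prime_le_iff_dvd Nat.card_pos.ne' Nat.card_pos.ne']
    intro s hs
    obtain ⟨T, hTB, hTC, hTcard⟩ := h s hs
    have h1 : s ^ (Nat.card B).factorization s ∣ Nat.card (B ⊓ C : Subgroup G) :=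
      hTcard ▸ Subgroup.card_dvd_of_le (le_inf hTB hTC)
    exact (Nat.Prime.pow_dvd_iff_le_factorization hs Nat.card_pos.ne').mp h1
  have : B ⊓ C = B :=
    Subgroup.eq_of_le_of_card_ge inf_le_left (Nat.le_of_dvd Nat.card_pos hdvd)
  rw [← this]
  exact inf_le_right

/-- (E) of board #1817 (Shult reduction). -/
theorem exc_shult [Finite G] (p q : ℕ) [Fact p.Prime] [Fact q.Prime] (hqp : q ≠ p) (hq2 : q ≠ 2)
    (K X R : Subgroup G) (hKnil : Group.IsNilpotent K) (hKp : (Nat.card K).Coprime p)
    (hKq : (Nat.card K).Coprime q) (hX : Nat.card X = p)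
    (hXK : X ≤ Subgroup.normalizer (K : Set G))
    (hfpf : K ⊓ Subgroup.centralizer (X : Set G) = ⊥)
    (hR : IsPGroup q R) (hRK : R ≤ Subgroup.normalizer (K : Set G))
    (hXR : X ≤ Subgroup.normalizer (R : Set G)) :
    ∀ x ∈ X, ∀ g ∈ R, g⁻¹ * (x * g * x⁻¹) ∈ Subgroup.centralizer (K : Set G) := by
  classical
  intro x hx g hg
  set N : Subgroup G := Subgroup.normalizer (K : Set G) with hN
  have hKN : K ≤ N := Subgroup.le_normalizer
  set K' : Subgroup N := K.subgroupOf N with hK'
  have hK'n : K'.Normal := Subgroup.normal_in_normalizer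
  let e : K' ≃* K := Subgroup.subgroupOfEquivOfLe hKN
  have : Group.IsNilpotent K' := Group.nilpotent_of_mulEquiv e.symm
  have hcardK' : Nat.card K' = Nat.card K := Nat.card_congr e.toEquiv
  set c : G := g⁻¹ * (x * g * x⁻¹) with hc
  have hxN : x ∈ N := hXK hx
  have hgN : g ∈ N := hRK hg
  have hcN : c ∈ N := N.mul_mem (N.inv_mem hgN) (N.mul_mem (N.mul_mem hxN hgN) (N.inv_mem hxN))
  -- it suffices that `K ≤ C_G(c)`
  suffices hsuff : K ≤ Subgroup.centralizer ({c} : Set G) by
    rw [Subgroup.mem_centralizer_iff]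
    intro k hk
    have := hsuff hk
    rw [Subgroup.mem_centralizer_iff] at this
    exact (this c rfl).symm
  apply le_of_forall_prime_pow_le
  intro s hs
  by_cases hsK : s ∣ Nat.card K
  swap
  · refine ⟨⊥, bot_le, bot_le, ?_⟩
    rw [Nat.factorization_eq_zero_of_not_dvd hsK, pow_zero]
    exact Subgroup.card_bot
  have : Fact s.Prime := ⟨hs⟩
  have hsp : s ≠ p := by
    rintro rfl
    exact (Nat.Prime.coprime_iff_not_dvd hs).mp hKp.symm hsK
  have hsq : s ≠ q := by
    rintro rfl
    exact (Nat.Prime.coprime_iff_not_dvd hs).mp hKq.symm hsK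
  -- the Sylow `s`-subgroup of `K'`
  obtain ⟨S'⟩ : Nonempty (Sylow s K') := inferInstance
  have hS'n : (S' : Subgroup K').Normal :=
    Sylow.normal_of_normalizerCondition Group.normalizerCondition_of_isNilpotent S'
  have hS'c : (S' : Subgroup K').Characteristic := Sylow.characteristic_of_normal S' hS'n
  set P' : Subgroup N := (S' : Subgroup K').map K'.subtype with hP'
  have hP'n : P'.Normal := ConjAct.normal_of_characteristic_of_normal
  have hP's : IsPGroup s P' := S'.isPGroup'.map _
  have hP'K : ∀ n : N, n ∈ P' → (n : G) ∈ K := by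
    rintro n ⟨k, -, rfl⟩
    exact Subgroup.mem_subgroupOf.mp k.2
  set R' : Subgroup N := R.subgroupOf N with hR'
  set X' : Subgroup N := X.subgroupOf N with hX'
  have hR'q : IsPGroup q R' := hR.comap_subtype
  have hX'card : Nat.card X' = p := by
    rw [← hX]
    exact Nat.card_congr (Subgroup.subgroupOfEquivOfLe hXK).toEquiv
  have hX'R' : X' ≤ Subgroup.normalizer (R' : Set N) := by
    intro y hy
    rw [Subgroup.mem_normalizer_iff]
    intro r
    have hyX : (y : G) ∈ X := Subgroup.mem_subgroupOf.mp hy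
    have := Subgroup.mem_normalizer_iff.mp (hXR hyX) (r : G)
    simp only [hR', Subgroup.mem_subgroupOf, Subgroup.coe_mul, Subgroup.coe_inv]
    exact this
  have hfix' : P' ⊓ Subgroup.centralizer (X' : Set N) = ⊥ := by
    rw [eq_bot_iff]
    rintro n ⟨hnP, hnC⟩
    rw [Subgroup.mem_bot]
    have h1 : (n : G) ∈ K ⊓ Subgroup.centralizer (X : Set G) := by
      refine ⟨hP'K n hnP, ?_⟩
      show (n : G) ∈ Subgroup.centralizer (X : Set G)
      rw [Subgroup.mem_centralizer_iff]
      intro y hy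
      have hyN : y ∈ N := hXK hy
      have h2 := Subgroup.mem_centralizer_iff.mp hnC ⟨y, hyN⟩ (Subgroup.mem_subgroupOf.mpr hy)
      exact congrArg Subtype.val h2
    rw [hfpf, Subgroup.mem_bot] at h1
    exact Subtype.ext h1
  have hmain := Cfsg.Agent.Lib.Helper21.comm_mem_centralizer_of_shult (p := s) (q := q) (r := p)
    hsq hsp hqp hq2 P' R' X' hP's hR'q hX'card hX'R' hfix'
    ⟨x, hxN⟩ (Subgroup.mem_subgroupOf.mpr hx) ⟨g, hgN⟩ (Subgroup.mem_subgroupOf.mpr hg)
  -- back to `G`
  refine ⟨P'.map N.subtype, ?_, ?_, ?_⟩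
  · rintro _ ⟨n, hn, rfl⟩
    exact hP'K n hn
  · rintro _ ⟨n, hn, rfl⟩
    rw [Subgroup.mem_centralizer_iff]
    intro y hy
    rw [Set.mem_singleton_iff] at hy
    subst hy
    have h2 := Subgroup.mem_centralizer_iff.mp hmain n hn
    have h3 := congrArg Subtype.val h2
    simp only [Subgroup.coe_mul, Subgroup.coe_inv] at h3
    exact h3.symm
  · rw [Subgroup.card_subtype, hP', Subgroup.card_subtype, Sylow.card_eq_multiplicity, hcardK']

end Cfsg.Agent.Lib.Helper55.BGEleven
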