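import Cfsg.Agent.Lib.Helper55.BGElevenB
import Cfsg.Agent.Lib.Helper55.BGElevenC
import Cfsg.Agent.Lib.Helper55.BGElevenD
import Cfsg.Agent.Lib.Helper91.BGElevenCentral

/-!
# Bender–Glauberman §11: the facts (A)–(E) of board #1817 packaged for `Helper54.IsExceptional`

All statements are conditional on the Uniqueness Theorem `hU` and on `p`-length one `hPL`
(Theorem 10.6 = S1410), as in `Helper54.BGElevenC`.
-/

set_option autoImplicit false
open Cfsg
open scoped Pointwise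

namespace Cfsg.Agent.Lib.Helper55.BGEleven

open Cfsg.Agent.Lib.Helper54
open Cfsg.Agent.Lib.Helper34 (UniquenessThm)

variable {G : Type*} [Group G] {M A₀ A : Subgroup G} {p : ℕ}

/-- `p ∣ |M|`. -/
theorem Exc.dvd_card [Finite G] [Fact p.Prime] (h : IsExceptional M p A₀ A) :
    p ∣ Nat.card M := by
  have h1 : Nat.card A ∣ Nat.card M := Subgroup.card_dvd_of_le h.le
  rw [h.card] at h1
  exact (dvd_pow_self p (by norm_num)).trans h1

/-- `|M_σ|` is prime to `p`. -/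
theorem Exc.coprime_card_sigmaCore [Finite G] [Fact p.Prime]
    (h : IsExceptional M p A₀ A) : (Nat.card (sigmaCore M)).Coprime p := by
  have hp : p.Prime := Fact.out
  rw [Nat.coprime_comm, Nat.Prime.coprime_iff_not_dvd hp]
  intro hdvd
  exact h.not_sigma (sigmaCore_isPi M p hp hdvd)

/-- `M_σ` is a Hall subgroup of `G`. -/
theorem coprime_card_index_sigmaCore [Finite G] (hG : IsMinSimpleOddOrder G) (hU : UniquenessThm G)
    (M : Subgroup G) (hM : IsCoatom M) :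
    (Nat.card (sigmaCore M)).Coprime (sigmaCore M).index := by
  have hH := (sigmaCore_hall_of hG hU M hM).2
  apply Nat.coprime_of_dvd
  intro k hk h1 h2
  exact hH.2 k hk (hH.1 k hk h1) h2

/-- No Sylow `p`-subgroup of `M` has its normalizer inside `M`. -/
theorem Exc.not_normalizer_le [Finite G] [Fact p.Prime] (h : IsExceptional M p A₀ A)
    (P : Sylow p M) :
    ¬ Subgroup.normalizer ((((P : Subgroup M).map M.subtype : Subgroup G)) : Set G) ≤ M := by
  intro hle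
  exact h.not_sigma ⟨Fact.out, (Exc.dvd_card h), P, hle⟩

/-- Some Sylow `p`-subgroup of `M` contains `A`. -/
theorem Exc.exists_sylow [Finite G] [Fact p.Prime] (h : IsExceptional M p A₀ A) :
    ∃ P : Sylow p M, A ≤ (P : Subgroup M).map M.subtype := by
  have hAp : IsPGroup p (A.subgroupOf M) := h.isPGroup.comap_subtype
  obtain ⟨P, hP⟩ := hAp.exists_le_sylow
  refine ⟨P, ?_⟩
  intro a ha
  exact ⟨⟨a, h.le ha⟩, hP (Subgroup.mem_subgroupOf.mpr ha), rfl⟩

/-- (A) + (A'): for a Sylow `p`-subgroup `P` of `M` containing `A`: `A ≤ Z(P)`, `A = Ω₁(P)` and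
`N_G(P) ≤ N_G(A)`. -/
theorem Exc.sylow_facts [Finite G] [Fact p.Prime] (h : IsExceptional M p A₀ A)
    (hG : IsMinSimpleOddOrder G) (hU : UniquenessThm G)
    (hPL : ∀ H : Subgroup G, H ≠ ⊤ → PLengthLE p 1 H)
    (P : Sylow p M) (hAP : A ≤ (P : Subgroup M).map M.subtype) :
    (∀ a ∈ A, ∀ y ∈ (P : Subgroup M).map M.subtype, a * y = y * a) ∧
      (∀ x ∈ (P : Subgroup M).map M.subtype, x ^ p = 1 ↔ x ∈ A) ∧
      Subgroup.normalizer ((((P : Subgroup M).map M.subtype : Subgroup G)) : Set G) ≤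
        Subgroup.normalizer (A : Set G) := by
  set P₀ : Subgroup G := (P : Subgroup M).map M.subtype with hP₀
  have hP₀M : P₀ ≤ M := Subgroup.map_subtype_le _
  have hP₀p : IsPGroup p P₀ := P.isPGroup'.map _
  obtain ⟨g, hgP, hgM⟩ := SetLike.not_le_iff_exists.mp ((Exc.not_normalizer_le h) P)
  have hcen : ∀ a ∈ A, ∀ y ∈ P₀, a * y = y * a :=
    Cfsg.Agent.Lib.Helper91.BGEleven.exc_central hG.2.1 hG.2.2.1 p M (sigmaCore M) A A₀ P₀
      h.coatom.1 (sigmaCore_le M) (le_normalizer_sigmaCore M)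
      (sigmaCore_ne_bot hG hU M h.coatom) (Exc.coprime_card_sigmaCore h)
      (coprime_card_index_sigmaCore hG hU M h.coatom) hAP hP₀M hP₀p h.elemAb h.card
      (fun B _ hB hAB => h.maximal hG hU B hB hAB) h.le₀ h.card₀ h.norm
      (h.transitivityHypothesis hG hU hPL)
      (fun g hg hAg => exceptional_sigmaCore_inf_conj hG hU p hPL M A₀ A h g hg hAg)
      g hgP hgM
  obtain ⟨hΩ, hN⟩ := exc_omega p A P₀ hAP h.elemAb
    (fun B _ hB hAB => h.maximal hG hU B hB hAB) hcen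
  exact ⟨hcen, fun x hx => ⟨hΩ x hx, fun hxA => h.elemAb.2 x hxA⟩, hN⟩

/-- `N_G(A) ⊄ M`. -/
theorem Exc.exists_normalizer_not_mem [Finite G] [Fact p.Prime]
    (h : IsExceptional M p A₀ A) (hG : IsMinSimpleOddOrder G) (hU : UniquenessThm G)
    (hPL : ∀ H : Subgroup G, H ≠ ⊤ → PLengthLE p 1 H) :
    ∃ g : G, g ∈ Subgroup.normalizer (A : Set G) ∧ g ∉ M := by
  obtain ⟨P, hAP⟩ := (Exc.exists_sylow h)
  obtain ⟨g, hgP, hgM⟩ := SetLike.not_le_iff_exists.mp ((Exc.not_normalizer_le h) P)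
  exact ⟨g, ((Exc.sylow_facts h) hG hU hPL P hAP).2.2 hgP, hgM⟩

/-- (B): `M_σ ∩ C_G(A) = 1`. -/
theorem Exc.sigmaCore_inf_centralizer [Finite G] [Fact p.Prime]
    (h : IsExceptional M p A₀ A) (hG : IsMinSimpleOddOrder G) (hU : UniquenessThm G)
    (hPL : ∀ H : Subgroup G, H ≠ ⊤ → PLengthLE p 1 H) :
    sigmaCore M ⊓ Subgroup.centralizer (A : Set G) = ⊥ := by
  obtain ⟨g, hgA, hgM⟩ := (Exc.exists_normalizer_not_mem h) hG hU hPL
  exact exc_centralizer_inf M (sigmaCore M) A A₀ h.le₀ h.norm h.le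
    (fun g hg hAg => exceptional_sigmaCore_inf_conj hG hU p hPL M A₀ A h g hg hAg) g hgA hgM

/-- (C): two distinct points of `A` act fixed-point-freely on `M_σ`. -/
theorem Exc.two_fpf [Finite G] [Fact p.Prime]
    (h : IsExceptional M p A₀ A) (hG : IsMinSimpleOddOrder G) (hU : UniquenessThm G)
    (hPL : ∀ H : Subgroup G, H ≠ ⊤ → PLengthLE p 1 H) :
    ∃ A₁ A₂ : Subgroup G, A₁ ≤ A ∧ A₂ ≤ A ∧ Nat.card A₁ = p ∧ Nat.card A₂ = p ∧ A₁ ≠ A₂ ∧
      sigmaCore M ⊓ Subgroup.centralizer (A₁ : Set G) = ⊥ ∧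
      sigmaCore M ⊓ Subgroup.centralizer (A₂ : Set G) = ⊥ := by
  obtain ⟨g, hgA, hgM⟩ := (Exc.exists_normalizer_not_mem h) hG hU hPL
  exact exc_two_fpf hG.1 p M (sigmaCore M) A A₀ h.le₀ h.card₀ h.norm h.le
    (fun g hg hAg => exceptional_sigmaCore_inf_conj hG hU p hPL M A₀ A h g hg hAg) g hgA hgM

/-- (D): `M_σ` is nilpotent. -/
theorem Exc.sigmaCore_nilpotent [Finite G] [Fact p.Prime]
    (h : IsExceptional M p A₀ A) (hG : IsMinSimpleOddOrder G) (hU : UniquenessThm G)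
    (hPL : ∀ H : Subgroup G, H ≠ ⊤ → PLengthLE p 1 H) :
    Group.IsNilpotent (sigmaCore M) := by
  obtain ⟨A₁, -, hA₁A, -, hA₁, -, -, hfpf, -⟩ := (Exc.two_fpf h) hG hU hPL
  exact exc_nilpotent p (sigmaCore M) A₁ hA₁
    ((hA₁A.trans h.le).trans (le_normalizer_sigmaCore M)) hfpf

/-- Bender–Glauberman Lemma 11.4 (uniqueness form): for a maximal subgroup `H ≠ M` containing `A`,
`M_σ ∩ H_σ = 1`. -/
theorem Exc.sigmaCore_inf_sigmaCore [Finite G] [Fact p.Prime]
    (h : IsExceptional M p A₀ A) (hG : IsMinSimpleOddOrder G) (hU : UniquenessThm G)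
    (hPL : ∀ H : Subgroup G, H ≠ ⊤ → PLengthLE p 1 H)
    (H : Subgroup G) (hH : IsCoatom H) (hAH : A ≤ H) (hHM : H ≠ M) :
    sigmaCore M ⊓ sigmaCore H = ⊥ := by
  by_cases hconj : ∃ g : G, MulAut.conj g • M = H
  · obtain ⟨g, rfl⟩ := hconj
    have hgM : g ∉ M := by
      intro hg
      apply hHM
      exact mem_normalizer_iff_conj_smul.mp (Subgroup.le_normalizer hg)
    have h1 := exceptional_sigmaCore_inf_conj hG hU p hPL M A₀ A h g hgM hAH
    rw [eq_bot_iff, ← h1]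
    exact inf_le_inf_left _ (sigmaCore_le _)
  · push Not at hconj
    exact ((sigma_disjoint hG hU M H h.coatom hH hconj).2 ((Exc.sigmaCore_nilpotent h) hG hU hPL)).2

/-- (E), the Shult reduction: if the point `X` of `A` acts fixed-point-freely on `M_σ` and `R ≤ M`
is an `X`-invariant `q`-subgroup, `q ∉ σ(M) ∪ {p}`, then `[R, X]` centralizes `M_σ`. -/
theorem Exc.shult [Finite G] [Fact p.Prime]
    (h : IsExceptional M p A₀ A) (hG : IsMinSimpleOddOrder G) (hU : UniquenessThm G)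
    (hPL : ∀ H : Subgroup G, H ≠ ⊤ → PLengthLE p 1 H)
    (X : Subgroup G) (hXA : X ≤ A) (hX : Nat.card X = p)
    (hfpf : sigmaCore M ⊓ Subgroup.centralizer (X : Set G) = ⊥)
    (q : ℕ) [Fact q.Prime] (hqp : q ≠ p) (hqσ : q ∉ sigma M)
    (R : Subgroup G) (hR : IsPGroup q R) (hRM : R ≤ M)
    (hXR : X ≤ Subgroup.normalizer (R : Set G)) :
    ∀ x ∈ X, ∀ g ∈ R, g⁻¹ * (x * g * x⁻¹) ∈ Subgroup.centralizer (sigmaCore M : Set G) := by
  have hq : q.Prime := Fact.out
  intro x hx g hg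
  by_cases hq2 : q = 2
  · -- a `2`-subgroup of a group of odd order is trivial
    have hg1 : g = 1 := by
      obtain ⟨j, hj⟩ := hR ⟨g, hg⟩
      have hj' : g ^ q ^ j = 1 := by
        have := congrArg Subtype.val hj
        simpa using this
      have h1 : orderOf g ∣ q ^ j := orderOf_dvd_of_pow_eq_one hj'
      have h2 : Odd (orderOf g) := Odd.of_dvd_nat hG.1 (orderOf_dvd_natCard g)
      have h3 : (orderOf g).Coprime (q ^ j) := by
        rw [hq2]
        exact Nat.Coprime.pow_right j (Nat.coprime_two_right.mpr h2)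
      exact orderOf_eq_one_iff.mp (Nat.Coprime.eq_one_of_dvd h3 h1)
    rw [hg1]
    simp
  have hKq : (Nat.card (sigmaCore M)).Coprime q := by
    rw [Nat.coprime_comm, Nat.Prime.coprime_iff_not_dvd hq]
    intro hdvd
    exact hqσ (sigmaCore_isPi M q hq hdvd)
  exact exc_shult p q hqp hq2 (sigmaCore M) X R ((Exc.sigmaCore_nilpotent h) hG hU hPL)
    (Exc.coprime_card_sigmaCore h) hKq hX ((hXA.trans h.le).trans (le_normalizer_sigmaCore M)) hfpf hR
    (hRM.trans (le_normalizer_sigmaCore M)) hXR x hx g hg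

end Cfsg.Agent.Lib.Helper55.BGEleven
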