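import Mathlib

/-!
# Carmichael's relations for the alternating group: the abstract order bound

A group generated by `x 0, …, x (m-1)` with `x 0 ^ 3 = 1`, `x i ^ 2 = 1` (`i ≥ 1`),
`(x i * x (i+1)) ^ 3 = 1` and `(x i * x j) ^ 2 = 1` (`j > i + 1`) has order at most `(m+2)!/2`.
-/

set_option autoImplicit false

namespace Cfsg.Agent.Lib.Helper55

open Subgroup

/-- Carmichael's relations on the first `m` terms of a sequence of group elements. -/
structure IsCarm {G : Type*} [Group G] (x : ℕ → G) (m : ℕ) : Prop where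
  r0 : 0 < m → x 0 ^ 3 = 1
  r1 : ∀ i, 1 ≤ i → i < m → x i ^ 2 = 1
  r2 : ∀ i, i + 1 < m → (x i * x (i + 1)) ^ 3 = 1
  r3 : ∀ i j, i + 1 < j → j < m → (x i * x j) ^ 2 = 1

variable {G : Type*} [Group G]

/-- The subgroup generated by the first `k` generators. -/
def carmH (x : ℕ → G) (k : ℕ) : Subgroup G := closure {g | ∃ i, i < k ∧ g = x i}

theorem carmH_mono (x : ℕ → G) {k l : ℕ} (h : k ≤ l) : carmH x k ≤ carmH x l := by
  apply Subgroup.closure_mono
  rintro g ⟨i, hi, rfl⟩
  exact ⟨i, lt_of_lt_of_le hi h, rfl⟩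

theorem x_mem_carmH (x : ℕ → G) {i k : ℕ} (h : i < k) : x i ∈ carmH x k :=
  subset_closure ⟨i, h, rfl⟩

theorem carmH_zero (x : ℕ → G) : carmH x 0 = ⊥ := by
  unfold carmH
  rw [closure_eq_bot_iff]
  rintro g ⟨i, hi, _⟩
  omega

/-- The coset representatives. -/
def carmT (x : ℕ → G) : ℕ → List G
  | 0 => [1, x 0, (x 0)⁻¹]
  | (k + 1) => 1 :: (carmT x k).map (fun t => x (k + 1) * t)

theorem carmT_length (x : ℕ → G) (k : ℕ) : (carmT x k).length = k + 3 := by
  induction k with
  | zero => rfl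
  | succ k ih => simp [carmT, ih]

theorem one_mem_carmT (x : ℕ → G) (k : ℕ) : (1 : G) ∈ carmT x k := by
  cases k <;> simp [carmT]

theorem carmT_subset (x : ℕ → G) (k : ℕ) : ∀ t ∈ carmT x k, t ∈ carmH x (k + 1) := by
  induction k with
  | zero =>
    intro t ht
    simp only [carmT, List.mem_cons, List.not_mem_nil, or_false] at ht
    rcases ht with rfl | rfl | rfl
    · exact one_mem _
    · exact x_mem_carmH x (by omega)
    · exact inv_mem (x_mem_carmH x (by omega))
  | succ k ih =>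
    intro t ht
    simp only [carmT, List.mem_cons, List.mem_map] at ht
    rcases ht with rfl | ⟨t', ht', rfl⟩
    · exact one_mem _
    · exact mul_mem (x_mem_carmH x (by omega)) (carmH_mono x (by omega) (ih t' ht'))

section relations

variable {x : ℕ → G} {m : ℕ} (hc : IsCarm x m)
include hc

theorem IsCarm.inv_eq {i : ℕ} (h1 : 1 ≤ i) (hi : i < m) : (x i)⁻¹ = x i := by
  have := hc.r1 i h1 hi
  rw [pow_two] at this
  exact inv_eq_of_mul_eq_one_left this

theorem IsCarm.mul_self {i : ℕ} (h1 : 1 ≤ i) (hi : i < m) : x i * x i = 1 := by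
  have := hc.r1 i h1 hi
  rwa [pow_two] at this

/-- `x k` inverts `x i` for `i + 1 < k`. -/
theorem IsCarm.conj_eq_inv {i k : ℕ} (hik : i + 1 < k) (hk : k < m) :
    x k * x i * (x k)⁻¹ = (x i)⁻¹ := by
  have h1 := hc.r3 i k hik hk
  rw [hc.inv_eq (by omega) hk]
  rw [pow_two] at h1
  -- x i * x k * (x i * x k) = 1
  have h2 : x k * x i * x k = (x i)⁻¹ := by
    have : x i * (x k * x i * x k) = 1 := by
      simpa [mul_assoc] using h1
    exact (inv_eq_of_mul_eq_one_right this).symm
  exact h2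

/-- `x k` normalizes `H (k-1)`. -/
theorem IsCarm.conj_mem {k : ℕ} (hk1 : 1 ≤ k) (hk : k < m) {l : G} (hl : l ∈ carmH x (k - 1)) :
    x k * l * (x k)⁻¹ ∈ carmH x (k - 1) := by
  unfold carmH at hl ⊢
  induction hl using closure_induction with
  | mem g hg =>
    obtain ⟨i, hi, rfl⟩ := hg
    rw [hc.conj_eq_inv (by omega) hk]
    exact inv_mem (subset_closure ⟨i, hi, rfl⟩)
  | one => simp
  | mul a b _ _ ha hb =>
    have : x k * (a * b) * (x k)⁻¹ = (x k * a * (x k)⁻¹) * (x k * b * (x k)⁻¹) := by group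
    rw [this]; exact mul_mem ha hb
  | inv a _ ha =>
    have : x k * a⁻¹ * (x k)⁻¹ = (x k * a * (x k)⁻¹)⁻¹ := by group
    rw [this]; exact inv_mem ha

theorem IsCarm.conj_mem' {k : ℕ} (hk1 : 1 ≤ k) (hk : k < m) {l : G} (hl : l ∈ carmH x (k - 1)) :
    x k * l * x k ∈ carmH x (k - 1) := by
  have := hc.conj_mem hk1 hk hl
  rwa [hc.inv_eq hk1 hk] at this

/-- braid relation: `a b a = b⁻¹ a b⁻¹` for `a = x k`, `b = x (k-1)`. -/
theorem IsCarm.braid {k : ℕ} (hk1 : 1 ≤ k) (hk : k < m) :
    x k * x (k - 1) * x k = (x (k - 1))⁻¹ * x k * (x (k - 1))⁻¹ := by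
  have h3 := hc.r2 (k - 1) (by omega)
  have e : k - 1 + 1 = k := by omega
  rw [e] at h3
  have ha := hc.mul_self hk1 hk
  set a := x k
  set b := x (k - 1)
  -- (b a)^3 = 1, a a = 1
  have h4 : b * a * (b * a) * (b * a) = 1 := by
    rw [pow_succ, pow_two] at h3; exact h3
  have h5 : a * b * a = b⁻¹ * a⁻¹ * b⁻¹ := by
    have : b * a * b * (a * b * a) = 1 := by
      simpa [mul_assoc] using h4
    have h6 := eq_inv_of_mul_eq_one_right this
    rw [h6]; group
  have hainv : a⁻¹ = a := inv_eq_of_mul_eq_one_left ha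
  rw [h5, hainv]

/-- braid relation for the inverse: `a b⁻¹ a = b a b`. -/
theorem IsCarm.braid_inv {k : ℕ} (hk1 : 1 ≤ k) (hk : k < m) :
    x k * (x (k - 1))⁻¹ * x k = x (k - 1) * x k * x (k - 1) := by
  have h := hc.braid hk1 hk
  have ha := hc.mul_self hk1 hk
  have hainv : (x k)⁻¹ = x k := hc.inv_eq hk1 hk
  have h2 := congrArg (fun g => g⁻¹) h
  simp only [mul_inv_rev, inv_inv, hainv] at h2
  simp only [mul_assoc] at h2 ⊢
  exact h2

end relations

theorem carmT_form (x : ℕ → G) (k : ℕ) : ∀ t ∈ carmT x k,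
    t = 1 ∨ ∃ l ∈ carmH x k, t = x k * l ∨ t = (x k)⁻¹ * l := by
  cases k with
  | zero =>
    intro t ht
    simp only [carmT, List.mem_cons, List.not_mem_nil, or_false] at ht
    rcases ht with rfl | rfl | rfl
    · exact Or.inl rfl
    · exact Or.inr ⟨1, one_mem _, Or.inl (mul_one _).symm⟩
    · exact Or.inr ⟨1, one_mem _, Or.inr (mul_one _).symm⟩
  | succ k =>
    intro t ht
    simp only [carmT, List.mem_cons, List.mem_map] at ht
    rcases ht with rfl | ⟨t', ht', rfl⟩
    · exact Or.inl rfl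
    · exact Or.inr ⟨t', carmT_subset x k t' ht', Or.inl rfl⟩

section decomposition

variable {x : ℕ → G} {m : ℕ} (hc : IsCarm x m)
include hc

/-- base case: `⟨x 0⟩ = {1, x 0, (x 0)⁻¹}`. -/
theorem IsCarm.decomp_zero (hm : 0 < m) : ∀ g ∈ carmH x 1, g = 1 ∨ g = x 0 ∨ g = (x 0)⁻¹ := by
  have h3 := hc.r0 hm
  have e1 : x 0 * x 0 = (x 0)⁻¹ := by
    have : x 0 * x 0 * x 0 = 1 := by rw [← pow_two, ← pow_succ]; exact h3
    exact eq_inv_of_mul_eq_one_left this
  have e2 : (x 0)⁻¹ * (x 0)⁻¹ = x 0 := by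
    rw [← mul_inv_rev, e1, inv_inv]
  intro g hg
  unfold carmH at hg
  induction hg using closure_induction_right with
  | one => exact Or.inl rfl
  | mul_right w _ y hy ih =>
    obtain ⟨i, hi, rfl⟩ := hy
    have : i = 0 := by omega
    subst this
    rcases ih with rfl | rfl | rfl
    · right; left; simp
    · right; right; exact e1
    · left; simp
  | mul_inv_cancel w _ y hy ih =>
    obtain ⟨i, hi, rfl⟩ := hy
    have : i = 0 := by omega
    subst this
    rcases ih with rfl | rfl | rfl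
    · right; right; simp
    · left; simp
    · right; left; exact e2

/-- one step of right multiplication by a generator. -/
theorem IsCarm.step {k : ℕ} (hk : k + 1 < m)
    (ih : ∀ g ∈ carmH x (k + 1), ∃ h ∈ carmH x k, ∃ t ∈ carmT x k, g = h * t)
    (h : G) (hh : h ∈ carmH x (k + 1)) (t : G) (ht : t ∈ carmT x (k + 1)) (j : ℕ) (hj : j < k + 2) :
    ∃ h' ∈ carmH x (k + 1), ∃ t' ∈ carmT x (k + 1), h * t * x j = h' * t' := by
  have hK1 : 1 ≤ k + 1 := by omega
  have ha : x (k + 1) * x (k + 1) = 1 := hc.mul_self hK1 hk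
  have hainv : (x (k + 1))⁻¹ = x (k + 1) := hc.inv_eq hK1 hk
  have haa : ∀ X : G, x (k + 1) * (x (k + 1) * X) = X := by
    intro X; rw [← mul_assoc, ha, one_mul]
  have hconj : ∀ l ∈ carmH x k, x (k + 1) * l * (x (k + 1))⁻¹ ∈ carmH x (k + 1) := by
    intro l hl
    have := hc.conj_mem (k := k + 1) hK1 hk (l := l) (by simpa using hl)
    simp only [Nat.add_sub_cancel] at this
    exact carmH_mono x (by omega) this
  have hconj' : ∀ l ∈ carmH x k, x (k + 1) * l * x (k + 1) ∈ carmH x k := by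
    intro l hl
    have := hc.conj_mem' (k := k + 1) hK1 hk (l := l) (by simpa using hl)
    simpa using this
  have hmemT : ∀ t'' ∈ carmT x k, x (k + 1) * t'' ∈ carmT x (k + 1) := by
    intro t'' ht''
    simp only [carmT, List.mem_cons, List.mem_map]
    exact Or.inr ⟨t'', ht'', rfl⟩
  simp only [carmT, List.mem_cons, List.mem_map] at ht
  rcases Nat.lt_or_ge j (k + 1) with hjk | hjk
  · -- x j ∈ H (k+1)
    have hxj : x j ∈ carmH x (k + 1) := x_mem_carmH x hjk
    rcases ht with rfl | ⟨t0, ht0, rfl⟩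
    · exact ⟨h * x j, mul_mem hh hxj, 1, one_mem_carmT x _, by simp⟩
    · have ht0H : t0 ∈ carmH x (k + 1) := carmT_subset x k t0 ht0
      obtain ⟨l, hl, t'', ht'', he⟩ := ih (t0 * x j) (mul_mem ht0H hxj)
      refine ⟨h * (x (k + 1) * l * (x (k + 1))⁻¹), mul_mem hh (hconj l hl), x (k + 1) * t'',
        hmemT t'' ht'', ?_⟩
      calc h * (x (k + 1) * t0) * x j = h * (x (k + 1) * (t0 * x j)) := by group
        _ = h * (x (k + 1) * (l * t'')) := by rw [he]
        _ = h * (x (k + 1) * l * (x (k + 1))⁻¹) * (x (k + 1) * t'') := by group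
  · -- j = k + 1
    have hjeq : j = k + 1 := by omega
    subst hjeq
    rcases ht with rfl | ⟨t0, ht0, rfl⟩
    · exact ⟨h, hh, x (k + 1) * 1, hmemT 1 (one_mem_carmT x k), by simp⟩
    · rcases carmT_form x k t0 ht0 with rfl | ⟨l, hl, hform⟩
      · refine ⟨h, hh, 1, one_mem_carmT x _, ?_⟩
        rw [mul_one, mul_one, mul_assoc, ha, mul_one]
      · have hl' := hconj' l hl
        have hxk : x k ∈ carmH x (k + 1) := x_mem_carmH x (by omega)
        rcases hform with rfl | rfl
        · -- t0 = x k * l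
          have hb := hc.braid (k := k + 1) hK1 hk
          simp only [Nat.add_sub_cancel] at hb
          obtain ⟨l₂, hl₂, t₂, ht₂, he⟩ := ih ((x k)⁻¹ * (x (k + 1) * l * x (k + 1)))
            (mul_mem (inv_mem hxk) (carmH_mono x (by omega) hl'))
          refine ⟨h * (x k)⁻¹ * (x (k + 1) * l₂ * (x (k + 1))⁻¹),
            mul_mem (mul_mem hh (inv_mem hxk)) (hconj l₂ hl₂), x (k + 1) * t₂, hmemT t₂ ht₂, ?_⟩
          calc h * (x (k + 1) * (x k * l)) * x (k + 1)
              = h * ((x (k + 1) * x k * x (k + 1)) * (x (k + 1) * l * x (k + 1))) := by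
                simp only [mul_assoc, haa]
            _ = h * (((x k)⁻¹ * x (k + 1) * (x k)⁻¹) * (x (k + 1) * l * x (k + 1))) := by rw [hb]
            _ = h * (x k)⁻¹ * x (k + 1) * ((x k)⁻¹ * (x (k + 1) * l * x (k + 1))) := by
                simp only [mul_assoc]
            _ = h * (x k)⁻¹ * x (k + 1) * (l₂ * t₂) := by rw [he]
            _ = h * (x k)⁻¹ * (x (k + 1) * l₂ * (x (k + 1))⁻¹) * (x (k + 1) * t₂) := by group
        · -- t0 = (x k)⁻¹ * l
          have hb := hc.braid_inv (k := k + 1) hK1 hk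
          simp only [Nat.add_sub_cancel] at hb
          obtain ⟨l₂, hl₂, t₂, ht₂, he⟩ := ih (x k * (x (k + 1) * l * x (k + 1)))
            (mul_mem hxk (carmH_mono x (by omega) hl'))
          refine ⟨h * x k * (x (k + 1) * l₂ * (x (k + 1))⁻¹),
            mul_mem (mul_mem hh hxk) (hconj l₂ hl₂), x (k + 1) * t₂, hmemT t₂ ht₂, ?_⟩
          calc h * (x (k + 1) * ((x k)⁻¹ * l)) * x (k + 1)
              = h * ((x (k + 1) * (x k)⁻¹ * x (k + 1)) * (x (k + 1) * l * x (k + 1))) := by
                simp only [mul_assoc, haa]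
            _ = h * ((x k * x (k + 1) * x k) * (x (k + 1) * l * x (k + 1))) := by rw [hb]
            _ = h * x k * x (k + 1) * (x k * (x (k + 1) * l * x (k + 1))) := by
                simp only [mul_assoc]
            _ = h * x k * x (k + 1) * (l₂ * t₂) := by rw [he]
            _ = h * x k * (x (k + 1) * l₂ * (x (k + 1))⁻¹) * (x (k + 1) * t₂) := by group

/-- `H (k+1) = H k · T k`. -/
theorem IsCarm.decomp : ∀ k, k < m → ∀ g ∈ carmH x (k + 1),
    ∃ h ∈ carmH x k, ∃ t ∈ carmT x k, g = h * t := by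
  intro k
  induction k with
  | zero =>
    intro hm g hg
    refine ⟨1, one_mem _, g, ?_, (one_mul g).symm⟩
    rcases hc.decomp_zero hm g hg with rfl | rfl | rfl <;> simp [carmT]
  | succ k ih =>
    intro hk g hg
    have ih' := ih (by omega)
    unfold carmH at hg
    induction hg using closure_induction_right with
    | one => exact ⟨1, one_mem _, 1, one_mem_carmT x _, by simp⟩
    | mul_right w _ y hy ihw =>
      obtain ⟨j, hj, rfl⟩ := hy
      obtain ⟨h, hh, t, ht, rfl⟩ := ihw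
      exact hc.step hk ih' h hh t ht j hj
    | mul_inv_cancel w _ y hy ihw =>
      obtain ⟨j, hj, rfl⟩ := hy
      obtain ⟨h, hh, t, ht, rfl⟩ := ihw
      rcases Nat.eq_zero_or_pos j with rfl | hjpos
      · -- (x 0)⁻¹ = x 0 * x 0
        have h3 := hc.r0 (by omega)
        have e1 : (x 0)⁻¹ = x 0 * x 0 := by
          have : x 0 * x 0 * x 0 = 1 := by rw [← pow_two, ← pow_succ]; exact h3
          exact (eq_inv_of_mul_eq_one_left this).symm
        obtain ⟨h₁, hh₁, t₁, ht₁, e₁⟩ := hc.step hk ih' h hh t ht 0 (by omega)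
        obtain ⟨h₂, hh₂, t₂, ht₂, e₂⟩ := hc.step hk ih' h₁ hh₁ t₁ ht₁ 0 (by omega)
        refine ⟨h₂, hh₂, t₂, ht₂, ?_⟩
        rw [e1, ← mul_assoc, e₁, e₂]
      · rw [hc.inv_eq hjpos (by omega)]
        exact hc.step hk ih' h hh t ht j hj

/-- The order bound: `H k` is finite of order at most `(k+2)!/2`. -/
theorem IsCarm.card_bound : ∀ k, k ≤ m → Finite (carmH x k) ∧ Nat.card (carmH x k) * 2 ≤ (k + 2).factorial := by
  intro k
  induction k with
  | zero =>
    intro _
    rw [carmH_zero]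
    refine ⟨inferInstance, ?_⟩
    simp
  | succ k ih =>
    intro hk
    obtain ⟨hfin, hcard⟩ := ih (by omega)
    have hlen := carmT_length x k
    let ψ : carmH x k × Fin (k + 3) → carmH x (k + 1) := fun p =>
      ⟨(p.1 : G) * (carmT x k)[p.2.val]'(by rw [hlen]; exact p.2.isLt),
        mul_mem (carmH_mono x (by omega) p.1.2)
          (carmT_subset x k _ (List.getElem_mem _))⟩
    have hsurj : Function.Surjective ψ := by
      rintro ⟨g, hg⟩
      obtain ⟨h, hh, t, ht, rfl⟩ := hc.decomp k (by omega) g hg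
      obtain ⟨i, hi, rfl⟩ := List.getElem_of_mem ht
      exact ⟨(⟨h, hh⟩, ⟨i, by rw [← hlen]; exact hi⟩), rfl⟩
    have hfin' : Finite (carmH x (k + 1)) := Finite.of_surjective ψ hsurj
    refine ⟨hfin', ?_⟩
    have h1 : Nat.card (carmH x (k + 1)) ≤ Nat.card (carmH x k × Fin (k + 3)) :=
      Nat.card_le_card_of_surjective ψ hsurj
    rw [Nat.card_prod, Nat.card_fin] at h1
    have e : (k + 1 + 2).factorial = (k + 3) * (k + 2).factorial := Nat.factorial_succ (k + 2)
    rw [e]
    calc Nat.card (carmH x (k + 1)) * 2 ≤ Nat.card (carmH x k) * (k + 3) * 2 :=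
          Nat.mul_le_mul_right 2 h1
      _ = (k + 3) * (Nat.card (carmH x k) * 2) := by ring
      _ ≤ (k + 3) * (k + 2).factorial := Nat.mul_le_mul_left _ hcard

end decomposition

end Cfsg.Agent.Lib.Helper55
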