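import Mathlib
import Cfsg.Agent.Lib.Helper55.CarmichaelAbstract

/-!
# Carmichael's generators of the alternating group as permutations

For points `p 0, p 1, …` (distinct for indices `< N`) the permutations
`carmF p 0 = (p0 p1)(p0 p2)` and `carmF p i = (p0 p1)(p(i+1) p(i+2))` satisfy Carmichael's relations,
are even, and the first `k` of them generate a group of order at least `(k+2)!/2`.
-/

set_option autoImplicit false

namespace Cfsg.Agent.Lib.Helper55

open Equiv Equiv.Perm

variable {α : Type*} [DecidableEq α] [Fintype α]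

/-- Carmichael's generators. -/
def carmF (p : ℕ → α) : ℕ → Perm α
  | 0 => swap (p 0) (p 1) * swap (p 0) (p 2)
  | (i + 1) => swap (p 0) (p 1) * swap (p (i + 2)) (p (i + 3))

theorem swap_sq (a b : α) : swap a b * swap a b = 1 := swap_mul_self a b

/-- `(s τ)^2 = 1` for commuting involutions. -/
theorem sq_eq_one_of_commute {s t : Perm α} (hs : s * s = 1) (ht : t * t = 1) (hc : Commute s t) :
    (s * t) ^ 2 = 1 := by
  rw [hc.mul_pow, pow_two, pow_two, hs, ht, one_mul]

section

variable {p : ℕ → α} {N : ℕ} (hp : ∀ i j, i < N → j < N → p i = p j → i = j)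
include hp

theorem carm_ne {i j : ℕ} (hi : i < N) (hj : j < N) (hij : i ≠ j) : p i ≠ p j :=
  fun h => hij (hp i j hi hj h)

theorem carm_commute_swap {a b c d : ℕ} (ha : a < N) (hb : b < N) (hc : c < N) (hd : d < N)
    (hac : a ≠ c) (had : a ≠ d) (hbc : b ≠ c) (hbd : b ≠ d) :
    Commute (swap (p a) (p b)) (swap (p c) (p d)) := by
  by_cases hab : a = b
  · subst hab; rw [swap_self]; exact Commute.one_left _
  by_cases hcd : c = d
  · subst hcd; rw [swap_self]; exact Commute.one_right _
  apply Disjoint.commute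
  apply disjoint_swap_swap
  have h1 := carm_ne hp ha hb hab
  have h2 := carm_ne hp ha hc hac
  have h3 := carm_ne hp ha hd had
  have h4 := carm_ne hp hb hc hbc
  have h5 := carm_ne hp hb hd hbd
  have h6 := carm_ne hp hc hd hcd
  simp [h1, h2, h3, h4, h5, h6]

theorem carmF_pow_three_zero (hN : 3 ≤ N) : carmF p 0 ^ 3 = 1 := by
  have h := isThreeCycle_swap_mul_swap_same (carm_ne hp (i := 0) (j := 1) (by omega) (by omega) (by omega))
    (carm_ne hp (i := 0) (j := 2) (by omega) (by omega) (by omega))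
    (carm_ne hp (i := 1) (j := 2) (by omega) (by omega) (by omega))
  have := h.orderOf
  show (swap (p 0) (p 1) * swap (p 0) (p 2)) ^ 3 = 1
  rw [← this]; exact pow_orderOf_eq_one _

theorem carmF_sq (i : ℕ) (hi : i + 3 < N) : carmF p (i + 1) ^ 2 = 1 := by
  show (swap (p 0) (p 1) * swap (p (i + 2)) (p (i + 3))) ^ 2 = 1
  exact sq_eq_one_of_commute (swap_sq _ _) (swap_sq _ _)
    (carm_commute_swap hp (by omega) (by omega) (by omega) (by omega) (by omega) (by omega)
      (by omega) (by omega))

/-- `f (i+1) * f (j+1) = τ_i τ_j`. -/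
theorem carmF_mul_succ (i j : ℕ) (hi : i + 3 < N) (hj : j + 3 < N) :
    carmF p (i + 1) * carmF p (j + 1) =
      swap (p (i + 2)) (p (i + 3)) * swap (p (j + 2)) (p (j + 3)) := by
  show swap (p 0) (p 1) * swap (p (i + 2)) (p (i + 3)) * (swap (p 0) (p 1) * swap (p (j + 2)) (p (j + 3))) = _
  have hc : Commute (swap (p 0) (p 1)) (swap (p (i + 2)) (p (i + 3))) :=
    carm_commute_swap hp (by omega) (by omega) (by omega) (by omega) (by omega) (by omega)
      (by omega) (by omega)
  calc swap (p 0) (p 1) * swap (p (i + 2)) (p (i + 3)) * (swap (p 0) (p 1) * swap (p (j + 2)) (p (j + 3)))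
      = swap (p (i + 2)) (p (i + 3)) * (swap (p 0) (p 1) * swap (p 0) (p 1)) * swap (p (j + 2)) (p (j + 3)) := by
        rw [hc.eq]; simp only [mul_assoc]
    _ = _ := by rw [swap_sq, mul_one]

/-- `f 0 * f (j+1) = (p1 p2) τ_j`. -/
theorem carmF_zero_mul_succ (j : ℕ) (hj : j + 3 < N) :
    carmF p 0 * carmF p (j + 1) = swap (p 1) (p 2) * swap (p (j + 2)) (p (j + 3)) := by
  show swap (p 0) (p 1) * swap (p 0) (p 2) * (swap (p 0) (p 1) * swap (p (j + 2)) (p (j + 3))) = _
  have h := swap_mul_swap_mul_swap (x := p 2) (y := p 0) (z := p 1)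
    (carm_ne hp (i := 2) (j := 0) (by omega) (by omega) (by omega))
    (carm_ne hp (i := 2) (j := 1) (by omega) (by omega) (by omega))
  -- swap p0 p1 * swap p2 p0 * swap p0 p1 = swap p1 p2
  rw [swap_comm (p 2) (p 0)] at h
  calc swap (p 0) (p 1) * swap (p 0) (p 2) * (swap (p 0) (p 1) * swap (p (j + 2)) (p (j + 3)))
      = (swap (p 0) (p 1) * swap (p 0) (p 2) * swap (p 0) (p 1)) * swap (p (j + 2)) (p (j + 3)) := by
        simp only [mul_assoc]
    _ = _ := by rw [h]

theorem three_cycle_pow {a b c : ℕ} (ha : a < N) (hb : b < N) (hc : c < N) (hab : a ≠ b)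
    (hac : a ≠ c) (hbc : b ≠ c) : (swap (p a) (p b) * swap (p b) (p c)) ^ 3 = 1 := by
  have h := isThreeCycle_swap_mul_swap_same (carm_ne hp hb ha (Ne.symm hab))
    (carm_ne hp hb hc hbc) (carm_ne hp ha hc hac)
  rw [swap_comm (p b) (p a)] at h
  rw [← h.orderOf]; exact pow_orderOf_eq_one _

/-- Carmichael's relations hold for the permutations. -/
theorem isCarm_carmF (hN : 3 ≤ N) : IsCarm (carmF p) (N - 2) where
  r0 := fun _ => carmF_pow_three_zero hp hN
  r1 := by
    intro i h1 hi
    obtain ⟨i, rfl⟩ : ∃ i', i = i' + 1 := ⟨i - 1, by omega⟩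
    exact carmF_sq hp i (by omega)
  r2 := by
    intro i hi
    rcases Nat.eq_zero_or_pos i with rfl | hpos
    · rw [carmF_zero_mul_succ hp 0 (by omega)]
      exact three_cycle_pow hp (by omega) (by omega) (by omega) (by omega) (by omega) (by omega)
    · obtain ⟨i, rfl⟩ : ∃ i', i = i' + 1 := ⟨i - 1, by omega⟩
      rw [carmF_mul_succ hp i (i + 1) (by omega) (by omega)]
      exact three_cycle_pow hp (by omega) (by omega) (by omega) (by omega) (by omega) (by omega)
  r3 := by
    intro i j hij hj
    obtain ⟨j, rfl⟩ : ∃ j', j = j' + 1 := ⟨j - 1, by omega⟩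
    rcases Nat.eq_zero_or_pos i with rfl | hpos
    · rw [carmF_zero_mul_succ hp j (by omega)]
      exact sq_eq_one_of_commute (swap_sq _ _) (swap_sq _ _)
        (carm_commute_swap hp (by omega) (by omega) (by omega) (by omega) (by omega) (by omega)
          (by omega) (by omega))
    · obtain ⟨i, rfl⟩ : ∃ i', i = i' + 1 := ⟨i - 1, by omega⟩
      rw [carmF_mul_succ hp i j (by omega) (by omega)]
      exact sq_eq_one_of_commute (swap_sq _ _) (swap_sq _ _)
        (carm_commute_swap hp (by omega) (by omega) (by omega) (by omega) (by omega) (by omega)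
          (by omega) (by omega))

/-- evaluation: `f i` fixes `p l` for `l > i + 2`. -/
theorem carmF_apply_of_gt (i l : ℕ) (hl : i + 2 < l) (hlN : l < N) : carmF p i (p l) = p l := by
  cases i with
  | zero =>
    show (swap (p 0) (p 1) * swap (p 0) (p 2)) (p l) = p l
    rw [Perm.mul_apply,
      swap_apply_of_ne_of_ne (carm_ne hp hlN (by omega) (by omega)) (carm_ne hp hlN (by omega) (by omega)),
      swap_apply_of_ne_of_ne (carm_ne hp hlN (by omega) (by omega)) (carm_ne hp hlN (by omega) (by omega))]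
  | succ i =>
    show (swap (p 0) (p 1) * swap (p (i + 2)) (p (i + 3))) (p l) = p l
    rw [Perm.mul_apply,
      swap_apply_of_ne_of_ne (carm_ne hp hlN (by omega) (by omega)) (carm_ne hp hlN (by omega) (by omega)),
      swap_apply_of_ne_of_ne (carm_ne hp hlN (by omega) (by omega)) (carm_ne hp hlN (by omega) (by omega))]

/-- `f (k+1)` maps `p (k+3)` to `p (k+2)`. -/
theorem carmF_succ_apply_top (k : ℕ) (hk : k + 3 < N) : carmF p (k + 1) (p (k + 3)) = p (k + 2) := by
  show (swap (p 0) (p 1) * swap (p (k + 2)) (p (k + 3))) (p (k + 3)) = p (k + 2)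
  rw [Perm.mul_apply, swap_apply_right,
    swap_apply_of_ne_of_ne (carm_ne hp (by omega) (by omega) (by omega))
      (carm_ne hp (by omega) (by omega) (by omega))]

theorem carmF_zero_apply_two (hN : 3 ≤ N) : carmF p 0 (p 2) = p 1 := by
  show (swap (p 0) (p 1) * swap (p 0) (p 2)) (p 2) = p 1
  rw [Perm.mul_apply, swap_apply_right, swap_apply_left]

theorem carmF_zero_apply_one (hN : 3 ≤ N) : carmF p 0 (p 1) = p 0 := by
  show (swap (p 0) (p 1) * swap (p 0) (p 2)) (p 1) = p 0
  rw [Perm.mul_apply, swap_apply_of_ne_of_ne (carm_ne hp (by omega) (by omega) (by omega))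
      (carm_ne hp (by omega) (by omega) (by omega)), swap_apply_right]

/-- `M k` fixes `p l` for `l ≥ k + 2`. -/
theorem carmH_apply_of_ge (k l : ℕ) (hl : k + 2 ≤ l) (hlN : l < N) :
    ∀ g ∈ carmH (carmF p) k, g (p l) = p l := by
  intro g hg
  have hle : carmH (carmF p) k ≤ MulAction.stabilizer (Perm α) (p l) := by
    unfold carmH
    rw [Subgroup.closure_le]
    rintro _ ⟨i, hi, rfl⟩
    rw [SetLike.mem_coe, MulAction.mem_stabilizer_iff, Perm.smul_def]
    exact carmF_apply_of_gt hp i l (by omega) hlN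
  have := hle hg
  rwa [MulAction.mem_stabilizer_iff, Perm.smul_def] at this

/-- transitivity: `M (k+1)` moves `p (k+2)` to every `p j`, `j ≤ k + 2`. -/
theorem carmH_trans : ∀ k, k + 2 < N → ∀ j, j ≤ k + 2 →
    ∃ g ∈ carmH (carmF p) (k + 1), g (p (k + 2)) = p j := by
  intro k
  induction k with
  | zero =>
    intro hN j hj
    have hf : carmF p 0 ∈ carmH (carmF p) 1 := x_mem_carmH _ (by omega)
    rcases (by omega : j = 0 ∨ j = 1 ∨ j = 2) with rfl | rfl | rfl
    · refine ⟨carmF p 0 * carmF p 0, mul_mem hf hf, ?_⟩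
      rw [Perm.mul_apply, carmF_zero_apply_two hp (by omega), carmF_zero_apply_one hp (by omega)]
    · exact ⟨carmF p 0, hf, carmF_zero_apply_two hp (by omega)⟩
    · exact ⟨1, one_mem _, rfl⟩
  | succ k ih =>
    intro hN j hj
    rcases Nat.lt_or_ge j (k + 3) with hlt | hge
    · obtain ⟨g', hg', he⟩ := ih (by omega) j (by omega)
      refine ⟨g' * carmF p (k + 1), mul_mem (carmH_mono _ (by omega) hg') (x_mem_carmH _ (by omega)), ?_⟩
      rw [Perm.mul_apply, carmF_succ_apply_top hp k (by omega), he]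
    · have : j = k + 3 := by omega
      subst this
      exact ⟨1, one_mem _, rfl⟩

/-- the order grows by a factor `k + 3` at least. -/
theorem carmH_card_ge (k : ℕ) (hk : k + 2 < N) :
    (k + 3) * Nat.card (carmH (carmF p) k) ≤ Nat.card (carmH (carmF p) (k + 1)) := by
  classical
  choose g hg hgp using fun (j : Fin (k + 3)) => carmH_trans hp k hk j.val (by omega)
  let Φ : Fin (k + 3) × carmH (carmF p) k → carmH (carmF p) (k + 1) := fun q =>
    ⟨g q.1 * (q.2 : Perm α), mul_mem (hg q.1) (carmH_mono _ (by omega) q.2.2)⟩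
  have hinj : Function.Injective Φ := by
    rintro ⟨j, h⟩ ⟨j', h'⟩ he
    have he' : g j * (h : Perm α) = g j' * (h' : Perm α) := congrArg Subtype.val he
    have h1 := congrArg (fun σ : Perm α => σ (p (k + 2))) he'
    simp only [Perm.mul_apply] at h1
    rw [carmH_apply_of_ge hp k (k + 2) (by omega) hk _ h.2,
      carmH_apply_of_ge hp k (k + 2) (by omega) hk _ h'.2, hgp, hgp] at h1
    have hjj : j.val = j'.val := hp _ _ (by omega) (by omega) h1
    have hjj' : j = j' := Fin.ext hjj
    subst hjj'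
    have : (h : Perm α) = h' := mul_left_cancel he'
    rw [Prod.mk.injEq]
    exact ⟨rfl, Subtype.ext this⟩
  have := Nat.card_le_card_of_injective Φ hinj
  rwa [Nat.card_prod, Nat.card_fin] at this

theorem carmH_card_lower : ∀ k, k + 2 ≤ N →
    (k + 2).factorial ≤ 2 * Nat.card (carmH (carmF p) k) := by
  intro k
  induction k with
  | zero =>
    intro _
    rw [carmH_zero]
    simp
  | succ k ih =>
    intro hk
    have h1 := ih (by omega)
    have h2 := carmH_card_ge hp k (by omega)
    have e : (k + 1 + 2).factorial = (k + 3) * (k + 2).factorial := Nat.factorial_succ (k + 2)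
    rw [e]
    calc (k + 3) * (k + 2).factorial ≤ (k + 3) * (2 * Nat.card (carmH (carmF p) k)) :=
          Nat.mul_le_mul_left _ h1
      _ = 2 * ((k + 3) * Nat.card (carmH (carmF p) k)) := by ring
      _ ≤ 2 * Nat.card (carmH (carmF p) (k + 1)) := Nat.mul_le_mul_left _ h2

end

/-- the generators are even permutations. -/
theorem carmF_sign {p : ℕ → α} {N : ℕ}
    (hp : ∀ i j, i < N → j < N → p i = p j → i = j) (i : ℕ) (hi : i + 2 < N) :
    Perm.sign (carmF p i) = 1 := by
  cases i with
  | zero =>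
    show Perm.sign (swap (p 0) (p 1) * swap (p 0) (p 2)) = 1
    rw [map_mul, sign_swap (carm_ne hp (by omega) (by omega) (by omega)),
      sign_swap (carm_ne hp (by omega) (by omega) (by omega))]
    rfl
  | succ i =>
    show Perm.sign (swap (p 0) (p 1) * swap (p (i + 2)) (p (i + 3))) = 1
    rw [map_mul, sign_swap (carm_ne hp (by omega) (by omega) (by omega)),
      sign_swap (carm_ne hp (by omega) (by omega) (by omega))]
    rfl

end Cfsg.Agent.Lib.Helper55
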