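import Mathlib
import Cfsg.Agent.S1460
import Cfsg.Agent.Lib.Helper24.RankTwoPrelude
import Cfsg.Agent.Lib.Helper54.Coprime

/-!
# BG Lemma 9.5 (S1402), Step 4

`le_commutator_of_supplement`: relative form of S1460(1) for subgroups of an ambient group.

`le_centralizer_sylow_of_le_commutator`: if `L` is a solvable subgroup of odd order, `W` a normal
subgroup of `L`, `A ≤ ⁅L, L⁆` of order coprime to `|W|` and to `t`, and `T` is an `A`-invariant
Sylow `t`-subgroup of `W` of rank at most two, then `A` centralizes `T`.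
-/

set_option autoImplicit false
open scoped commutatorElement

namespace Cfsg.Agent.Lib.Helper55.BG95

variable {G : Type*} [Group G]

/-- Relative form of S1460(1): if `L = W N` with `W` normal in `L`, `A ≤ N` of order coprime to `|W|`
and `A ≤ L'`, then `A ≤ N'`. -/
theorem le_commutator_of_supplement (L W N A : Subgroup G) (hWL : W ≤ L)
    (hLW : L ≤ Subgroup.normalizer (W : Set G)) (hNL : N ≤ L) (hsup : L ≤ W ⊔ N) (hAN : A ≤ N)
    (hcop : (Nat.card A).Coprime (Nat.card W)) (hAL : A ≤ ⁅L, L⁆) : A ≤ ⁅N, N⁆ := by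
  have hKn : (W.subgroupOf L).Normal := Subgroup.normal_subgroupOf_of_le_normalizer hLW
  have hKU : W.subgroupOf L ⊔ N.subgroupOf L = ⊤ := by
    rw [← Subgroup.subgroupOf_sup hWL hNL]
    exact Subgroup.subgroupOf_eq_top.mpr hsup
  have hHU : A.subgroupOf L ≤ N.subgroupOf L := Subgroup.subgroupOf_mono L hAN
  have hcard1 : Nat.card (A.subgroupOf L) = Nat.card A :=
    Nat.card_congr (Subgroup.subgroupOfEquivOfLe (hAN.trans hNL)).toEquiv
  have hcard2 : Nat.card (W.subgroupOf L) = Nat.card W :=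
    Nat.card_congr (Subgroup.subgroupOfEquivOfLe hWL).toEquiv
  have hcop' : (Nat.card (A.subgroupOf L)).Coprime (Nat.card (W.subgroupOf L)) := by
    rw [hcard1, hcard2]; exact hcop
  have key := Cfsg.Agent.S1460.part1 (W.subgroupOf L) (N.subgroupOf L) (A.subgroupOf L) hKU hHU hcop'
  intro x hx
  have hxL' : x ∈ ⁅L, L⁆ := hAL hx
  rw [← Subgroup.map_subtype_commutator] at hxL'
  obtain ⟨y, hy, hyx⟩ := hxL'
  have hyA : y ∈ A.subgroupOf L := by
    rw [Subgroup.mem_subgroupOf]
    have : (y : G) = x := hyx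
    rw [this]; exact hx
  have hyU : y ∈ ⁅N.subgroupOf L, N.subgroupOf L⁆ := key ⟨hyA, hy⟩
  have h1 : L.subtype y ∈ (⁅N.subgroupOf L, N.subgroupOf L⁆).map L.subtype :=
    Subgroup.mem_map_of_mem _ hyU
  rw [Subgroup.map_commutator, Subgroup.map_subgroupOf_eq_of_le hNL] at h1
  rw [← hyx]
  exact h1

/-- **BG 9.5, Step 4.** `L` solvable of odd order, `W` normal in `L`, `A ≤ ⁅L, L⁆` of order coprime
to `|W|` and to `t`, `T₀` an `A`-invariant Sylow `t`-subgroup of `W` of rank at most two. Then `A`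
centralizes `T₀`. -/
theorem le_centralizer_sylow_of_le_commutator [Finite G] (t : ℕ) [Fact t.Prime]
    (L A W : Subgroup G) (hLs : Group.IsSolvable L) (hLodd : Odd (Nat.card L))
    (hAL : A ≤ ⁅L, L⁆) (hWL : W ≤ L) (hLW : L ≤ Subgroup.normalizer (W : Set G))
    (hcopW : (Nat.card A).Coprime (Nat.card W)) (hcopt : (Nat.card A).Coprime t)
    (T₀ : Sylow t W)
    (hAT : A ≤ Subgroup.normalizer (((T₀ : Subgroup W).map W.subtype : Subgroup G) : Set G))
    (hrank : Cfsg.PRankLE t 2 ↥((T₀ : Subgroup W).map W.subtype)) :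
    A ≤ Subgroup.centralizer (((T₀ : Subgroup W).map W.subtype : Subgroup G) : Set G) := by
  set T : Subgroup G := (T₀ : Subgroup W).map W.subtype with hT
  have hTW : T ≤ W := Subgroup.map_subtype_le _
  have hTp : IsPGroup t T := T₀.isPGroup'.map _
  have hAL' : A ≤ L := hAL.trans (Subgroup.commutator_le_self L)
  -- `N = N_L(T)`
  set N : Subgroup G := L ⊓ Subgroup.normalizer (T : Set G) with hN
  have hNL : N ≤ L := inf_le_left
  have hNT : N ≤ Subgroup.normalizer (T : Set G) := inf_le_right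
  have hAN : A ≤ N := le_inf hAL' hAT
  -- Frattini
  have hsup : L ≤ W ⊔ N := by
    intro h hh
    obtain ⟨k, hk, hkh⟩ := Cfsg.Agent.Lib.Helper54.frattini_rel W T₀ h (hLW hh)
    have h1 : k⁻¹ * h ∈ N :=
      ⟨L.mul_mem (L.inv_mem (hWL hk)) hh, hkh⟩
    have h3 : h = k * (k⁻¹ * h) := by group
    rw [h3]
    exact Subgroup.mul_mem_sup hk h1
  have hAN' : A ≤ ⁅N, N⁆ := le_commutator_of_supplement L W N A hWL hLW hNL hsup hAN hcopW hAL
  have hNs : Group.IsSolvable N := Cfsg.Agent.Lib.Helper54.isSolvable_of_le hNL hLs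
  have hNodd : Odd (Nat.card N) := by
    have hdvd : Nat.card N ∣ Nat.card L := Subgroup.card_dvd_of_le hNL
    exact Odd.of_dvd_nat hLodd hdvd
  intro x hx
  rw [Subgroup.mem_centralizer_iff]
  intro r hr
  by_cases ht2 : t = 2
  · -- `T` is a `2`-subgroup of a group of odd order, hence trivial
    have hTodd : Odd (Nat.card T) :=
      Odd.of_dvd_nat hLodd (Subgroup.card_dvd_of_le (hTW.trans hWL))
    obtain ⟨n, hn⟩ := hTp.exists_card_eq
    have hn0 : n = 0 := by
      by_contra h0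
      rw [hn, ht2] at hTodd
      exact (Nat.not_odd_iff_even.mpr ((Nat.even_pow.mpr ⟨even_two, h0⟩))) hTodd
    rw [hn0, pow_zero] at hn
    have hTbot : T = ⊥ := Subgroup.card_eq_one.mp hn
    have hr1 : r = 1 := by
      have : r ∈ (⊥ : Subgroup G) := hTbot ▸ hr
      exact Subgroup.mem_bot.mp this
    rw [hr1, mul_one, one_mul]
  · have hxo : (orderOf x).Coprime t :=
      Nat.Coprime.coprime_dvd_left (Subgroup.orderOf_dvd_natCard A hx) hcopt
    exact (Cfsg.Agent.Lib.Helper24.centralizes_of_rankLETwo t ht2 N hNodd T hTp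
      (Cfsg.Agent.Lib.Helper24.rankLETwo_of_pRankLE t T hrank) hNT x (hAN' hx) hxo r hr).symm

/-- **BG 9.5, Step 4**, `p`-group form with `T` given as a subgroup of `G`. -/
theorem centralizes_invariant_sylow_of_le_commutator [Finite G] (p t : ℕ) [hp : Fact p.Prime]
    [ht : Fact t.Prime] (htp : t ≠ p) (L A W T : Subgroup G) (hLs : Group.IsSolvable L)
    (hLodd : Odd (Nat.card L)) (hA : IsPGroup p A) (hAL : A ≤ ⁅L, L⁆) (hWL : W ≤ L)
    (hLW : L ≤ Subgroup.normalizer (W : Set G)) (hWp : ¬ p ∣ Nat.card W)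
    (hTsyl : ∃ T₀ : Sylow t W, (T₀ : Subgroup W).map W.subtype = T)
    (hAT : A ≤ Subgroup.normalizer (T : Set G)) (hrank : Cfsg.PRankLE t 2 ↥T) :
    A ≤ Subgroup.centralizer (T : Set G) := by
  obtain ⟨T₀, rfl⟩ := hTsyl
  obtain ⟨n, hn⟩ := hA.exists_card_eq
  have hcopW : (Nat.card A).Coprime (Nat.card W) := by
    rw [hn]
    exact Nat.Coprime.pow_left n ((Nat.Prime.coprime_iff_not_dvd hp.out).mpr hWp)
  have hcopt : (Nat.card A).Coprime t := by
    rw [hn]
    exact Nat.Coprime.pow_left n ((Nat.coprime_primes hp.out ht.out).mpr (Ne.symm htp))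
  exact le_centralizer_sylow_of_le_commutator t L A W hLs hLodd hAL hWL hLW hcopW hcopt T₀ hAT hrank

/-- **BG 9.5, Step 4**, packaged: if every `A`-invariant Sylow `t`-subgroup of `W` has rank at most
two, then `A` centralizes every `A`-invariant `t`-subgroup of `W`. -/
theorem centralizes_invariant_of_le_commutator [Finite G] (p t : ℕ) [hp : Fact p.Prime]
    [ht : Fact t.Prime] (htp : t ≠ p) (L A W Y : Subgroup G) (hLs : Group.IsSolvable L)
    (hLodd : Odd (Nat.card L)) (hA : IsPGroup p A) (hAL : A ≤ ⁅L, L⁆) (hWL : W ≤ L)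
    (hLW : L ≤ Subgroup.normalizer (W : Set G)) (hWp : ¬ p ∣ Nat.card W)
    (hrank : ∀ T₀ : Sylow t W,
      A ≤ Subgroup.normalizer (((T₀ : Subgroup W).map W.subtype : Subgroup G) : Set G) →
      Cfsg.PRankLE t 2 ↥((T₀ : Subgroup W).map W.subtype))
    (hYW : Y ≤ W) (hY : IsPGroup t Y) (hAY : A ≤ Subgroup.normalizer (Y : Set G)) :
    A ≤ Subgroup.centralizer (Y : Set G) := by
  have hAL' : A ≤ L := hAL.trans (Subgroup.commutator_le_self L)
  obtain ⟨n, hn⟩ := hA.exists_card_eq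
  have hcopW : (Nat.card A).Coprime (Nat.card W) := by
    rw [hn]
    exact Nat.Coprime.pow_left n ((Nat.Prime.coprime_iff_not_dvd hp.out).mpr hWp)
  obtain ⟨T₀, hYT, hAT⟩ := Cfsg.Agent.Lib.Helper54.exists_invariant_sylow_ge A W (hAL'.trans hLW)
    hcopW (Or.inr (Cfsg.Agent.Lib.Helper54.isSolvable_of_le hWL hLs)) t Y hYW hY hAY
  have h1 := centralizes_invariant_sylow_of_le_commutator p t htp L A W _ hLs hLodd hA hAL hWL hLW
    hWp ⟨T₀, rfl⟩ hAT (hrank T₀ hAT)
  exact h1.trans (Subgroup.centralizer_le hYT)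

end Cfsg.Agent.Lib.Helper55.BG95
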