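import Mathlib
import Cfsg.Agent.Lib.Helper55.BG95Step4

/-!
# BG Lemma 9.5 (S1402), Step 4 in the shape consumed by `Helper54.scn_three_unique_of_transfer`
-/

set_option autoImplicit false
open scoped commutatorElement

namespace Cfsg.Agent.Lib.Helper55.BG95

variable {G : Type*} [Group G]

/-- **BG 9.5, Step 4**, in the shape of `hSt4` of `Helper54.scn_three_unique_of_transfer`:
Sylow-ness of `T` in `W` is expressed by `¬ t ∣ T.relIndex W`. -/
theorem centralizes_sylow_of_relIndex [Finite G] (p : ℕ) [hp : Fact p.Prime] (A : Subgroup G)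
    (hA : IsPGroup p A) (t : ℕ) [ht : Fact t.Prime] (htp : t ≠ p) (L W T : Subgroup G)
    (hLs : Group.IsSolvable L) (hLodd : Odd (Nat.card L)) (hAL : A ≤ ⁅L, L⁆) (hWL : W ≤ L)
    (hLW : L ≤ Subgroup.normalizer (W : Set G)) (hWp : (Nat.card W).Coprime p) (hTW : T ≤ W)
    (hT : IsPGroup t T) (hTsyl : ¬ t ∣ T.relIndex W)
    (hAT : A ≤ Subgroup.normalizer (T : Set G)) (hrank : Cfsg.PRankLE t 2 ↥T) :
    A ≤ Subgroup.centralizer (T : Set G) := by
  have hT' : IsPGroup t (T.subgroupOf W) :=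
    hT.of_equiv (Subgroup.subgroupOfEquivOfLe hTW).symm
  have hWp' : ¬ p ∣ Nat.card W := fun h =>
    hp.out.one_lt.ne' (Nat.eq_one_of_dvd_coprimes hWp.symm (dvd_refl p) h)
  have hTsyl' : ¬ t ∣ (T.subgroupOf W).index := hTsyl
  exact centralizes_invariant_sylow_of_le_commutator p t htp L A W T hLs hLodd hA hAL hWL hLW hWp'
    ⟨hT'.toSylow hTsyl', by
      rw [IsPGroup.toSylow_coe]; exact Subgroup.map_subgroupOf_eq_of_le hTW⟩ hAT hrank

end Cfsg.Agent.Lib.Helper55.BG95
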