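import Mathlib
import Cfsg.Agent.Lib.Helper1.FpfAction
import Cfsg.Agent.Lib.Helper24.ConjOn
import Cfsg.Agent.S3775

/-!
# Generic group theory for B&G Lemma 12.13 / Theorem 15.8 (statements S1421, S1359, S1360)

* `mem_of_forall_prime_pow_mem`: an element all of whose powers of prime power order lie in a
  subgroup `H` lies in `H`;
* `exponent_dvd_of_prime_pow`: the exponent of a finite group divides `n` as soon as the orders of
  its elements of prime power order do;
* `eq_one_of_two_commuting_auts`: a group `(ℤ/r)²` of automorphisms of an `r'`-abelian group cannot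
  act freely (`E_{r²}`-generation lemma, elementwise form), and its ambient version
  `exists_fixed_of_two_commuting`.
-/

set_option autoImplicit false

namespace Cfsg.Agent.Lib.Helper55.BGThirteen

variable {G : Type*} [Group G]

/-- An element all of whose powers of prime power order lie in `H` lies in `H`. -/
theorem mem_of_forall_prime_pow_mem (H : Subgroup G) :
    ∀ (n : ℕ) (g : G), 0 < n → g ^ n = 1 →
      (∀ q : ℕ, q.Prime → ∀ k j : ℕ, (g ^ k) ^ (q ^ j) = 1 → g ^ k ∈ H) → g ∈ H := by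
  intro n
  induction n using Nat.strong_induction_on with
  | _ n ih =>
    intro g hn hg h
    by_cases h1 : n = 1
    · subst h1
      rw [pow_one] at hg
      rw [hg]
      exact H.one_mem
    have hq : (n.minFac).Prime := Nat.minFac_prime h1
    set q := n.minFac with hqdef
    obtain ⟨j, m, hqm, hnm⟩ := Nat.exists_eq_pow_mul_and_not_dvd hn.ne' q hq.ne_one
    have hj : j ≠ 0 := by
      intro hj0
      subst hj0
      rw [pow_zero, one_mul] at hnm
      apply hqm
      rw [← hnm]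
      exact Nat.minFac_dvd n
    have hm0 : 0 < m := by
      rcases Nat.eq_zero_or_pos m with h0 | h0
      · subst h0; simp at hnm; omega
      · exact h0
    have hmn : m < n := by
      rw [hnm]
      have : 2 ≤ q ^ j := by
        calc 2 ≤ q := hq.two_le
          _ = q ^ 1 := (pow_one q).symm
          _ ≤ q ^ j := Nat.pow_le_pow_right hq.pos (Nat.one_le_iff_ne_zero.mpr hj)
      nlinarith
    have hcop : Nat.Coprime (q ^ j) m :=
      Nat.Coprime.pow_left j ((Nat.Prime.coprime_iff_not_dvd hq).mpr hqm)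
    -- the two parts
    have h1m : g ^ m ∈ H := by
      apply h q hq m j
      rw [← pow_mul, mul_comm, ← hnm]
      exact hg
    have h2m : g ^ (q ^ j) ∈ H := by
      apply ih m hmn (g ^ (q ^ j)) hm0
      · rw [← pow_mul, ← hnm]; exact hg
      · intro q' hq' k j' hk
        have e : (g ^ (q ^ j)) ^ k = g ^ (q ^ j * k) := (pow_mul g _ _).symm
        rw [e] at hk ⊢
        exact h q' hq' _ j' hk
    -- Bezout
    have hbez := Int.gcd_eq_gcd_ab ((q ^ j : ℕ) : ℤ) (m : ℤ)
    have hgcd : Int.gcd ((q ^ j : ℕ) : ℤ) (m : ℤ) = 1 := by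
      rw [Int.gcd_natCast_natCast]; exact hcop
    rw [hgcd] at hbez
    have : g = (g ^ (q ^ j)) ^ (Int.gcdA ((q ^ j : ℕ) : ℤ) (m : ℤ)) *
        (g ^ m) ^ (Int.gcdB ((q ^ j : ℕ) : ℤ) (m : ℤ)) := by
      rw [← zpow_natCast g (q ^ j), ← zpow_natCast g m, ← zpow_mul, ← zpow_mul, ← zpow_add,
        ← hbez]
      simp
    rw [this]
    exact H.mul_mem (H.zpow_mem h2m _) (H.zpow_mem h1m _)

/-- The exponent of a finite group divides `n` as soon as the orders of its elements of prime power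
order do. -/
theorem exponent_dvd_of_prime_pow [Finite G] (U : Subgroup G) (n : ℕ)
    (h : ∀ u ∈ U, ∀ q : ℕ, q.Prime → ∀ k : ℕ, orderOf u = q ^ k → q ^ k ∣ n) :
    Monoid.exponent U ∣ n := by
  apply Monoid.exponent_dvd_of_forall_pow_eq_one
  intro u
  rw [← orderOf_dvd_iff_pow_eq_one]
  rw [Nat.dvd_iff_prime_pow_dvd_dvd]
  intro q k hq hqk
  have ho : 0 < orderOf u := orderOf_pos u
  have hqk0 : 0 < q ^ k := pow_pos hq.pos k
  set d := orderOf u / q ^ k with hd
  have hdd : d ∣ orderOf u := Nat.div_dvd_of_dvd hqk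
  have hd0 : d ≠ 0 := by
    intro h0
    have := Nat.div_mul_cancel hqk
    rw [← hd, h0, zero_mul] at this
    omega
  have hord : orderOf (u ^ d) = q ^ k := by
    rw [orderOf_pow_of_dvd hd0 hdd, hd, Nat.div_div_self hqk ho.ne']
  have hord' : orderOf ((u ^ d : U) : G) = q ^ k := by
    rw [Subgroup.orderOf_coe]; exact hord
  exact h _ (u ^ d : U).2 q hq k hord'

/-- **`E_{r²}`-generation lemma, elementwise form.** Two commuting automorphisms `φ`, `ψ` with
`φ ^ r = ψ ^ r = 1` of a commutative group without elements of order `r`, such that every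
`φ ^ i * ψ ^ j` with `(i, j) ≢ (0, 0)` is fixed-point-free: the group is trivial. -/
theorem eq_one_of_two_commuting_auts {A : Type*} [CommGroup A] (r : ℕ) (hr : r.Prime)
    (φ ψ : MulAut A) (hc : Commute φ ψ) (hφ : φ ^ r = 1) (hψ : ψ ^ r = 1)
    (hrA : ∀ a : A, a ^ r = 1 → a = 1)
    (hfix : ∀ i j : ℕ, ¬ (r ∣ i ∧ r ∣ j) → ∀ a : A, (φ ^ i * ψ ^ j) a = a → a = 1) :
    ∀ a : A, a = 1 := by
  intro a
  apply hrA
  -- the norms along the lines `(1, j)`
  have h1 : ∀ j ∈ Finset.range r, ∏ s ∈ Finset.range r, ((φ * ψ ^ j) ^ s) a = 1 := by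
    intro j _
    apply Cfsg.Agent.Lib.Helper1.prod_pow_eq_one_of_fpf (φ * ψ ^ j) r
    · rw [(hc.pow_right j).mul_pow, hφ, ← pow_mul, mul_comm j r, pow_mul, hψ, one_pow, one_mul]
    · intro m hm
      apply hfix 1 j _ m
      · rw [pow_one]; exact hm
      · rintro ⟨h, -⟩
        exact hr.one_lt.not_ge (Nat.le_of_dvd one_pos h)
  have h2 : ∏ j ∈ Finset.range r, ∏ s ∈ Finset.range r, ((φ * ψ ^ j) ^ s) a = 1 :=
    Finset.prod_eq_one h1
  rw [Finset.prod_comm] at h2
  have h3 : ∀ s ∈ Finset.range r, ∏ j ∈ Finset.range r, ((φ * ψ ^ j) ^ s) a =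
      if s = 0 then a ^ r else 1 := by
    intro s hs
    have hsr : s < r := Finset.mem_range.mp hs
    have e : ∀ j, ((φ * ψ ^ j) ^ s) a = (φ ^ s) (((ψ ^ s) ^ j) a) := by
      intro j
      rw [(hc.pow_right j).mul_pow, MulAut.mul_apply, ← pow_mul, ← pow_mul, mul_comm j s]
    simp only [e]
    rw [← map_prod]
    split_ifs with hs0
    · subst hs0
      simp
    · have : ∏ j ∈ Finset.range r, ((ψ ^ s) ^ j) a = 1 := by
        apply Cfsg.Agent.Lib.Helper1.prod_pow_eq_one_of_fpf (ψ ^ s) r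
        · rw [← pow_mul, mul_comm, pow_mul, hψ, one_pow]
        · intro m hm
          apply hfix 0 s _ m
          · rw [pow_zero, one_mul]; exact hm
          · rintro ⟨-, h⟩
            exact hsr.not_ge (Nat.le_of_dvd (Nat.pos_of_ne_zero hs0) h)
      rw [this, map_one]
  rw [Finset.prod_congr rfl h3, Finset.prod_ite_eq' (Finset.range r) 0 (fun _ => a ^ r)] at h2
  simpa [hr.pos] using h2


/-- Ambient form of the `E_{r²}`-generation lemma: two commuting elements `f`, `b` normalizing the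
nontrivial abelian `r'`-subgroup `A`, with `f ^ r`, `b ^ r` centralizing `A`: some `f ^ i * b ^ j`
with `(i, j) ≢ (0, 0)` centralizes a nonidentity element of `A`. -/
theorem exists_fixed_of_two_commuting (A : Subgroup G) (hAc : IsMulCommutative A) (hA1 : A ≠ ⊥)
    (r : ℕ) (hr : r.Prime) (hrA : ∀ a ∈ A, a ^ r = 1 → a = 1)
    (f b : G) (hf : f ∈ Subgroup.normalizer (A : Set G))
    (hb : b ∈ Subgroup.normalizer (A : Set G)) (hfb : f * b = b * f)
    (hfr : f ^ r ∈ Subgroup.centralizer (A : Set G))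
    (hbr : b ^ r ∈ Subgroup.centralizer (A : Set G)) :
    ∃ i j : ℕ, ¬ (r ∣ i ∧ r ∣ j) ∧ ∃ a ∈ A, a ≠ 1 ∧ (f ^ i * b ^ j) * a = a * (f ^ i * b ^ j) := by
  by_contra hcon
  push Not at hcon
  let _ : CommGroup A :=
    { (inferInstance : Group A) with mul_comm := fun a b => hAc.is_comm.comm a b }
  set Γ : Subgroup G := Subgroup.normalizer (A : Set G) with hΓ
  set ρ := Cfsg.Agent.Lib.Helper24.conjOn Γ A le_rfl with hρ
  set φ : MulAut A := ρ ⟨f, hf⟩ with hφdef
  set ψ : MulAut A := ρ ⟨b, hb⟩ with hψdef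
  have hcomm : Commute φ ψ := by
    show φ * ψ = ψ * φ
    rw [hφdef, hψdef, ← map_mul, ← map_mul]
    congr 1
    exact Subtype.ext hfb
  have hpow : ∀ (x : G) (hx : x ∈ Γ) (n : ℕ), (ρ ⟨x, hx⟩) ^ n = ρ ⟨x ^ n, Γ.pow_mem hx n⟩ := by
    intro x hx n
    rw [← map_pow]
    rfl
  have hone : ∀ (x : G) (hx : x ∈ Γ), x ∈ Subgroup.centralizer (A : Set G) → ρ ⟨x, hx⟩ = 1 := by
    intro x hx hxc
    ext a
    rw [Cfsg.Agent.Lib.Helper24.conjOn_apply]
    have := Subgroup.mem_centralizer_iff.mp hxc (a : G) a.2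
    show x * (a : G) * x⁻¹ = ((1 : MulAut A) a : G)
    rw [MulAut.one_apply, ← this, mul_inv_cancel_right]
  have hφr : φ ^ r = 1 := by rw [hφdef, hpow]; exact hone _ _ hfr
  have hψr : ψ ^ r = 1 := by rw [hψdef, hpow]; exact hone _ _ hbr
  have key := eq_one_of_two_commuting_auts (A := A) r hr φ ψ hcomm hφr hψr
    (fun a ha => Subtype.ext (hrA a a.2 (by simpa using congrArg Subtype.val ha)))
    (by
      intro i j hij a ha
      by_contra ha1
      apply hcon i j (fun h1 h2 => hij ⟨h1, h2⟩) (a : G) a.2 (fun h => ha1 (Subtype.ext h))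
      have h1 : ((φ ^ i * ψ ^ j) a : G) = (f ^ i * b ^ j) * a * (f ^ i * b ^ j)⁻¹ := by
        rw [hφdef, hψdef, hpow, hpow, ← map_mul, Cfsg.Agent.Lib.Helper24.conjOn_apply]
        rfl
      rw [ha] at h1
      calc (f ^ i * b ^ j) * (a : G)
          = ((f ^ i * b ^ j) * (a : G) * (f ^ i * b ^ j)⁻¹) * (f ^ i * b ^ j) := by group
        _ = (a : G) * (f ^ i * b ^ j) := by rw [← h1])
  apply hA1
  rw [eq_bot_iff]
  intro a ha
  have := key ⟨a, ha⟩
  rw [Subgroup.mem_bot]
  exact congrArg Subtype.val this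

/-- In a finite abelian group, a subgroup meeting the subgroup of `p`-th powers trivially, in a group
of `p`-power exponent... more precisely whose quotient by the `p`-th powers has exponent `p`
(automatic), is a direct factor. -/
theorem exists_compl_of_inf_pow_range {P : Type*} [CommGroup P] [Finite P] (p : ℕ) [Fact p.Prime]
    (A₀ : Subgroup P) (h : A₀ ⊓ (powMonoidHom p : P →* P).range = ⊥) :
    ∃ B : Subgroup P, A₀ ⊓ B = ⊥ ∧ A₀ ⊔ B = ⊤ := by
  set N : Subgroup P := (powMonoidHom p : P →* P).range with hN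
  have hexp : ∀ a : P ⧸ N, a ^ p ^ 1 = 1 := by
    intro a
    induction a using QuotientGroup.induction_on with
    | H x =>
      rw [pow_one, ← QuotientGroup.mk_pow, QuotientGroup.eq_one_iff]
      exact ⟨x, rfl⟩
  obtain ⟨R, hR1, hR2⟩ := Cfsg.Agent.S3775.exists_complement_of_pure (M := P ⧸ N) (p := p) 1
    le_rfl hexp (A₀.map (QuotientGroup.mk' N)) (by
      intro q hq hq1
      refine ⟨1, Subgroup.one_mem _, ?_⟩
      rw [Nat.sub_self, pow_zero, pow_one] at hq1
      rw [hq1, one_pow])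
  refine ⟨R.comap (QuotientGroup.mk' N), ?_, ?_⟩
  · rw [eq_bot_iff]
    intro x hx
    obtain ⟨hxA, hxR⟩ := Subgroup.mem_inf.mp hx
    have hxR' : (QuotientGroup.mk' N) x ∈ R := hxR
    have h1 : (QuotientGroup.mk' N) x ∈ A₀.map (QuotientGroup.mk' N) ⊓ R :=
      Subgroup.mem_inf.mpr ⟨Subgroup.mem_map_of_mem _ hxA, hxR'⟩
    rw [hR1, Subgroup.mem_bot] at h1
    have h2 : x ∈ N := (QuotientGroup.eq_one_iff x).mp h1
    rw [← h]
    exact Subgroup.mem_inf.mpr ⟨hxA, h2⟩
  · rw [eq_top_iff]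
    intro x _
    have h1 : (QuotientGroup.mk' N) x ∈ A₀.map (QuotientGroup.mk' N) ⊔ R := by
      rw [hR2]; exact Subgroup.mem_top _
    obtain ⟨y, hy, z, hz, hyz⟩ := Subgroup.mem_sup.mp h1
    obtain ⟨a, ha, rfl⟩ := hy
    have h2 : a⁻¹ * x ∈ R.comap (QuotientGroup.mk' N) := by
      show (QuotientGroup.mk' N) (a⁻¹ * x) ∈ R
      rw [map_mul, map_inv, ← hyz, inv_mul_cancel_left]
      exact hz
    have : x = a * (a⁻¹ * x) := by group
    rw [this]
    exact Subgroup.mul_mem_sup ha h2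

end Cfsg.Agent.Lib.Helper55.BGThirteen
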