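import Mathlib
import Cfsg.Agent.Lib.Helper55.BGThirteenA

/-!
# The assembly lemma for B&G Lemma 12.13 (abelian case)

A finite group `U`, a set of primes `τ`, a set `Bad ⊆ U` (closed under nonidentity powers) avoiding the
nonidentity `τ'`-elements; for each `p ∈ τ` an abelian normal `p`-subgroup `S_p` containing all
`p`-elements of `U` and a normal cyclic `Y_p ≤ S_p` of order `exp(S_p)` with `Y_p ∩ Bad ⊆ 1`. Then
`Bad` lies in an abelian normal subgroup and some `U₀ ≤ U` of the same exponent avoids `Bad`.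
-/

set_option autoImplicit false

namespace Cfsg.Agent.Lib.Helper55.BGThirteen

open scoped Pointwise

section assembly

variable {U : Type*} [Group U]

/-- the closure of a conjugation-invariant set is normal -/
theorem closure_normal_of_conj_mem (T : Set U) (hT : ∀ g : U, ∀ x ∈ T, g * x * g⁻¹ ∈ T) :
    (Subgroup.closure T).Normal := by
  constructor
  intro n hn g
  induction hn using Subgroup.closure_induction with
  | mem x hx => exact Subgroup.subset_closure (hT g x hx)
  | one => simp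
  | mul x y _ _ hx hy =>
    have : g * (x * y) * g⁻¹ = (g * x * g⁻¹) * (g * y * g⁻¹) := by group
    rw [this]
    exact Subgroup.mul_mem _ hx hy
  | inv x _ hx =>
    have : g * x⁻¹ * g⁻¹ = (g * x * g⁻¹)⁻¹ := by group
    rw [this]
    exact Subgroup.inv_mem _ hx

/-- the closure of a set of pairwise commuting elements is commutative -/
theorem closure_comm_of_comm (T : Set U) (hT : ∀ x ∈ T, ∀ y ∈ T, x * y = y * x) :
    ∀ a ∈ Subgroup.closure T, ∀ b ∈ Subgroup.closure T, a * b = b * a := by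
  have h1 : Subgroup.closure T ≤ Subgroup.centralizer T := by
    rw [Subgroup.closure_le]
    intro x hx
    show x ∈ Subgroup.centralizer T
    rw [Subgroup.mem_centralizer_iff]
    intro y hy
    exact hT y hy x hx
  have h2 : Subgroup.closure T ≤ Subgroup.centralizer (Subgroup.closure T : Set U) := by
    rw [Subgroup.closure_le]
    intro x hx
    show x ∈ Subgroup.centralizer (Subgroup.closure T : Set U)
    rw [Subgroup.mem_centralizer_iff]
    intro y hy
    exact (Subgroup.mem_centralizer_iff.mp (h1 hy) x hx).symm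
  intro a ha b hb
  exact (Subgroup.mem_centralizer_iff.mp (h2 hb) a ha)

variable [Finite U]

/-- type version of `exponent_dvd_of_prime_pow` -/
theorem exponent_dvd_of_prime_pow' (n : ℕ)
    (h : ∀ u : U, ∀ q : ℕ, q.Prime → ∀ k : ℕ, orderOf u = q ^ k → q ^ k ∣ n) :
    Monoid.exponent U ∣ n := by
  apply Monoid.exponent_dvd_of_forall_pow_eq_one
  intro u
  rw [← orderOf_dvd_iff_pow_eq_one]
  rw [Nat.dvd_iff_prime_pow_dvd_dvd]
  intro q k hq hqk
  have ho : 0 < orderOf u := orderOf_pos u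
  set d := orderOf u / q ^ k with hd
  have hdd : d ∣ orderOf u := Nat.div_dvd_of_dvd hqk
  have hd0 : d ≠ 0 := by
    intro h0
    have := Nat.div_mul_cancel hqk
    rw [← hd, h0, zero_mul] at this
    omega
  have hord : orderOf (u ^ d) = q ^ k := by
    rw [orderOf_pow_of_dvd hd0 hdd, hd, Nat.div_div_self hqk ho.ne']
  exact h _ q hq k hord

/-- an element of prime order obtained as a power -/
theorem exists_pow_orderOf_eq_prime (g : U) (hg : g ≠ 1) :
    ∃ q : ℕ, q.Prime ∧ q ∣ orderOf g ∧ orderOf (g ^ (orderOf g / q)) = q := by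
  have ho : orderOf g ≠ 1 := fun h => hg (orderOf_eq_one_iff.mp h)
  have ho0 : 0 < orderOf g := orderOf_pos g
  refine ⟨(orderOf g).minFac, Nat.minFac_prime ho, Nat.minFac_dvd _, ?_⟩
  set q := (orderOf g).minFac with hq
  have hqd : q ∣ orderOf g := Nat.minFac_dvd _
  have hqp : q.Prime := Nat.minFac_prime ho
  have hdd : orderOf g / q ∣ orderOf g := Nat.div_dvd_of_dvd hqd
  have hd0 : orderOf g / q ≠ 0 := by
    intro h0
    have := Nat.div_mul_cancel hqd
    rw [h0, zero_mul] at this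
    omega
  rw [orderOf_pow_of_dvd hd0 hdd, Nat.div_div_self hqd ho0.ne']

theorem assembly (τ : Set ℕ) (Bad : Set U)
    (hBadPow : ∀ g ∈ Bad, ∀ k : ℕ, g ^ k ≠ 1 → g ^ k ∈ Bad)
    (h1 : ∀ g : U, g ≠ 1 → (∀ q : ℕ, q.Prime → q ∣ orderOf g → q ∉ τ) → g ∉ Bad)
    (h2 : ∀ p ∈ τ, p.Prime → ∃ S Y : Subgroup U, S.Normal ∧ (∀ a ∈ S, ∀ b ∈ S, a * b = b * a) ∧
      IsPGroup p S ∧ (∀ g : U, (∃ k : ℕ, g ^ (p ^ k) = 1) → g ∈ S) ∧ Y ≤ S ∧ IsCyclic Y ∧
      Y.Normal ∧ (∀ s ∈ S, s ^ Nat.card Y = 1) ∧ ∀ y ∈ Y, y ≠ 1 → y ∉ Bad) :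
    (∃ A₀ : Subgroup U, A₀.Normal ∧ IsMulCommutative A₀ ∧ ∀ g ∈ Bad, g ∈ A₀) ∧
    ∃ U₀ : Subgroup U, Monoid.exponent U₀ = Monoid.exponent U ∧ ∀ g ∈ U₀, g ≠ 1 → g ∉ Bad := by
  classical
  choose S Y hS using h2
  have hSn : ∀ p hp hpp, (S p hp hpp).Normal := fun p hp hpp => (hS p hp hpp).1
  have hSc : ∀ p hp hpp, ∀ a ∈ S p hp hpp, ∀ b ∈ S p hp hpp, a * b = b * a :=
    fun p hp hpp => (hS p hp hpp).2.1
  have hSp : ∀ p hp hpp, IsPGroup p (S p hp hpp) := fun p hp hpp => (hS p hp hpp).2.2.1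
  have hSall : ∀ p hp hpp, ∀ g : U, (∃ k : ℕ, g ^ (p ^ k) = 1) → g ∈ S p hp hpp :=
    fun p hp hpp => (hS p hp hpp).2.2.2.1
  have hYS : ∀ p hp hpp, Y p hp hpp ≤ S p hp hpp := fun p hp hpp => (hS p hp hpp).2.2.2.2.1
  have hYc : ∀ p hp hpp, IsCyclic (Y p hp hpp) := fun p hp hpp => (hS p hp hpp).2.2.2.2.2.1
  have hYn : ∀ p hp hpp, (Y p hp hpp).Normal := fun p hp hpp => (hS p hp hpp).2.2.2.2.2.2.1
  have hSexp : ∀ p hp hpp, ∀ s ∈ S p hp hpp, s ^ Nat.card (Y p hp hpp) = 1 :=
    fun p hp hpp => (hS p hp hpp).2.2.2.2.2.2.2.1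
  have hYreg : ∀ p hp hpp, ∀ y ∈ Y p hp hpp, y ≠ 1 → y ∉ Bad :=
    fun p hp hpp => (hS p hp hpp).2.2.2.2.2.2.2.2
  -- the `τ`-elements
  set T : Set U := {g | ∀ q : ℕ, q.Prime → q ∣ orderOf g → q ∈ τ} with hT
  set E₂ : Subgroup U := Subgroup.closure T with hE₂
  -- prime power elements for primes of `τ` commute
  have hcomm_pp : ∀ (q q' : ℕ) (hq : q ∈ τ) (hqp : q.Prime) (hq' : q' ∈ τ) (hqp' : q'.Prime)
      (x y : U), (∃ k : ℕ, x ^ (q ^ k) = 1) → (∃ k : ℕ, y ^ (q' ^ k) = 1) → x * y = y * x := by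
    intro q q' hq hqp hq' hqp' x y hx hy
    have hxS := hSall q hq hqp x hx
    have hyS := hSall q' hq' hqp' y hy
    by_cases hqq : q = q'
    · subst hqq
      exact hSc q hq hqp x hxS y hyS
    · have : Fact q.Prime := ⟨hqp⟩
      have : Fact q'.Prime := ⟨hqp'⟩
      have hdis := IsPGroup.disjoint_of_ne q q' hqq _ _ (hSp q hq hqp) (hSp q' hq' hqp')
      have hc1 : x * y * x⁻¹ * y⁻¹ ∈ S q hq hqp := by
        have h := (hSn q hq hqp).conj_mem x⁻¹ (inv_mem hxS) y
        have e : x * y * x⁻¹ * y⁻¹ = x * (y * x⁻¹ * y⁻¹) := by group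
        rw [e]
        exact mul_mem hxS h
      have hc2 : x * y * x⁻¹ * y⁻¹ ∈ S q' hq' hqp' := by
        have h := (hSn q' hq' hqp').conj_mem y hyS x
        exact mul_mem h (inv_mem hyS)
      have hc : x * y * x⁻¹ * y⁻¹ = 1 := by
        have := Subgroup.disjoint_def.mp hdis hc1 hc2
        exact this
      calc x * y = (x * y * x⁻¹ * y⁻¹) * (y * x) := by group
        _ = y * x := by rw [hc, one_mul]
  -- powers of prime power order of `τ`-elements
  have hT_pp : ∀ g ∈ T, ∀ q : ℕ, q.Prime → ∀ k j : ℕ, (g ^ k) ^ (q ^ j) = 1 →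
      g ^ k = 1 ∨ q ∈ τ := by
    intro g hg q hq k j hkj
    by_cases h1' : g ^ k = 1
    · left; exact h1'
    · right
      have hd : orderOf (g ^ k) ∣ q ^ j := orderOf_dvd_of_pow_eq_one hkj
      have hne : orderOf (g ^ k) ≠ 1 := fun h => h1' (orderOf_eq_one_iff.mp h)
      obtain ⟨i, hi, hoi⟩ := (Nat.dvd_prime_pow hq).mp hd
      have hi0 : i ≠ 0 := by
        intro h0; subst h0; rw [pow_zero] at hoi; exact hne hoi
      have hq1 : q ∣ orderOf (g ^ k) := by
        rw [hoi]; exact dvd_pow_self q hi0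
      exact hg q hq (hq1.trans (orderOf_pow_dvd k))
  have hTcomm : ∀ g ∈ T, ∀ h ∈ T, g * h = h * g := by
    intro g hg h hh
    have key : g ∈ Subgroup.centralizer ({h} : Set U) := by
      apply mem_of_forall_prime_pow_mem _ (orderOf g) g (orderOf_pos g) (pow_orderOf_eq_one g)
      intro q hq k j hkj
      rcases hT_pp g hg q hq k j hkj with h1' | hqτ
      · rw [h1']; exact Subgroup.one_mem _
      · have key2 : h ∈ Subgroup.centralizer ({g ^ k} : Set U) := by
          apply mem_of_forall_prime_pow_mem _ (orderOf h) h (orderOf_pos h)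
            (pow_orderOf_eq_one h)
          intro q' hq' k' j' hkj'
          rcases hT_pp h hh q' hq' k' j' hkj' with h1'' | hqτ'
          · rw [h1'']; exact Subgroup.one_mem _
          · rw [Subgroup.mem_centralizer_singleton_iff]
            exact (hcomm_pp q q' hqτ hq hqτ' hq' (g ^ k) (h ^ k') ⟨j, hkj⟩ ⟨j', hkj'⟩).symm
        rw [Subgroup.mem_centralizer_singleton_iff] at key2 ⊢
        exact key2.symm
    rw [Subgroup.mem_centralizer_singleton_iff] at key
    exact key
  have hE₂comm : ∀ a ∈ E₂, ∀ b ∈ E₂, a * b = b * a := closure_comm_of_comm T hTcomm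
  have hE₂n : E₂.Normal := by
    apply closure_normal_of_conj_mem
    intro g x hx q hq hqd
    apply hx q hq
    have : orderOf (g * x * g⁻¹) = orderOf x := (MulAut.conj g).orderOf_eq x
    rwa [this] at hqd
  have hE₂T : ∀ g ∈ E₂, g ∈ T := by
    intro g hg
    induction hg using Subgroup.closure_induction with
    | mem x hx => exact hx
    | one =>
      intro q hq hqd
      rw [orderOf_one] at hqd
      exact absurd (Nat.le_of_dvd one_pos hqd) hq.one_lt.not_ge
    | mul x y hx hy ihx ihy =>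
      intro q hq hqd
      have hc : Commute x y := hE₂comm x hx y hy
      have h3 := hqd.trans (hc.orderOf_mul_dvd_lcm.trans (Nat.lcm_dvd_mul _ _))
      rcases (Nat.Prime.dvd_mul hq).mp h3 with h4 | h4
      · exact ihx q hq h4
      · exact ihy q hq h4
    | inv x _ ihx =>
      intro q hq hqd
      rw [orderOf_inv] at hqd
      exact ihx q hq hqd
  -- `Bad` consists of `τ`-elements
  have hBadT : ∀ g ∈ Bad, g ∈ T := by
    intro g hg q hq hqd
    by_contra hqτ
    have ho0 : 0 < orderOf g := orderOf_pos g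
    have hdd : orderOf g / q ∣ orderOf g := Nat.div_dvd_of_dvd hqd
    have hd0 : orderOf g / q ≠ 0 := by
      intro h0
      have := Nat.div_mul_cancel hqd
      rw [h0, zero_mul] at this
      omega
    have hord : orderOf (g ^ (orderOf g / q)) = q := by
      rw [orderOf_pow_of_dvd hd0 hdd, Nat.div_div_self hqd ho0.ne']
    have hne : g ^ (orderOf g / q) ≠ 1 := by
      intro h
      rw [h, orderOf_one] at hord
      exact hq.one_lt.ne hord
    apply h1 _ hne _ (hBadPow g hg _ hne)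
    intro q' hq' hq'd
    rw [hord] at hq'd
    rw [(Nat.prime_dvd_prime_iff_eq hq' hq).mp hq'd]
    exact hqτ
  refine ⟨⟨E₂, hE₂n, ⟨⟨fun a b => Subtype.ext (hE₂comm a a.2 b b.2)⟩⟩,
    fun g hg => Subgroup.subset_closure (hBadT g hg)⟩, ?_⟩
  -- `S_q ≤ E₂`
  have hSE₂ : ∀ q hq hqp, S q hq hqp ≤ E₂ := by
    intro q hq hqp s hs
    apply Subgroup.subset_closure
    intro q' hq' hq'd
    obtain ⟨k, hk⟩ := (hSp q hq hqp) ⟨s, hs⟩
    have hk' : s ^ q ^ k = 1 := by simpa using congrArg Subtype.val hk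
    have hd : orderOf s ∣ q ^ k := orderOf_dvd_of_pow_eq_one hk'
    have := (Nat.Prime.dvd_of_dvd_pow hq' (hq'd.trans hd))
    rw [(Nat.prime_dvd_prime_iff_eq hq' hqp).mp this]
    exact hq
  -- primes dividing `|E₂|` are in `τ`
  have hE₂τ : ∀ q : ℕ, q.Prime → q ∣ Nat.card E₂ → q ∈ τ := by
    intro q hq hqd
    have : Fact q.Prime := ⟨hq⟩
    obtain ⟨x, hx⟩ := exists_prime_orderOf_dvd_card' q hqd
    have hx' : orderOf (x : U) = q := by rw [Subgroup.orderOf_coe]; exact hx
    exact hE₂T x x.2 q hq (by rw [hx'])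
  -- Hall property
  have hcop : (Nat.card E₂).Coprime E₂.index := by
    by_contra hnc
    obtain ⟨q, hq, hq1, hq2⟩ := Nat.Prime.not_coprime_iff_dvd.mp hnc
    have hqτ := hE₂τ q hq hq1
    have : Fact q.Prime := ⟨hq⟩
    obtain ⟨P⟩ : Nonempty (Sylow q U) := inferInstance
    have hPS : (P : Subgroup U) ≤ S q hqτ hq := by
      intro x hx
      apply hSall q hqτ hq
      obtain ⟨k, hk⟩ := P.isPGroup' ⟨x, hx⟩
      exact ⟨k, by simpa using congrArg Subtype.val hk⟩
    have hPE : (P : Subgroup U) ≤ E₂ := hPS.trans (hSE₂ q hqτ hq)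
    exact P.not_dvd_index (hq2.trans (Subgroup.index_dvd_of_le hPE))
  obtain ⟨C, hC⟩ := Subgroup.exists_right_complement'_of_coprime hcop
  have hEC : E₂ ⊓ C = ⊥ := hC.disjoint.eq_bot
  have hcard : Nat.card E₂ * Nat.card C = Nat.card U := hC.card_mul_card
  -- the subgroup generated by the `Y_p`
  set YS : Set U := {z | ∃ (p : ℕ) (hp : p ∈ τ) (hpp : p.Prime), z ∈ Y p hp hpp} with hYS'
  set Yb : Subgroup U := Subgroup.closure YS with hYb
  have hYbn : Yb.Normal := by
    apply closure_normal_of_conj_mem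
    rintro g x ⟨p, hp, hpp, hx⟩
    exact ⟨p, hp, hpp, (hYn p hp hpp).conj_mem x hx g⟩
  have hYbE : Yb ≤ E₂ := by
    rw [hYb, Subgroup.closure_le]
    rintro x ⟨p, hp, hpp, hx⟩
    exact hSE₂ p hp hpp (hYS p hp hpp hx)
  have hYle : ∀ p hp hpp, Y p hp hpp ≤ Yb := fun p hp hpp x hx =>
    Subgroup.subset_closure ⟨p, hp, hpp, hx⟩
  -- the `q`-elements of `Yb` lie in `Y_q`
  have hYbq : ∀ q (hq : q ∈ τ) (hqp : q.Prime), ∀ z ∈ Yb, orderOf z = q → z ∈ Y q hq hqp := by
    intro q hq hqp z hz hzo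
    have hU0 : Nat.card U ≠ 0 := Nat.card_pos.ne'
    set m := Nat.card U / q ^ (Nat.card U).factorization q with hm
    have hUm : q ^ (Nat.card U).factorization q * m = Nat.card U :=
      Nat.ordProj_mul_ordCompl_eq_self (Nat.card U) q
    have hqm : Nat.Coprime q m := Nat.coprime_ordCompl hqp hU0
    have hpow : ∀ w ∈ Yb, w ^ m ∈ Y q hq hqp := by
      intro w hw
      induction hw using Subgroup.closure_induction with
      | mem x hx =>
        obtain ⟨p, hp, hpp, hxY⟩ := hx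
        by_cases hpq : p = q
        · subst hpq
          exact pow_mem hxY m
        · have hYp : IsPGroup p (Y p hp hpp) := (hSp p hp hpp).to_le (hYS p hp hpp)
          have : Fact p.Prime := ⟨hpp⟩
          obtain ⟨a, ha⟩ := hYp.exists_card_eq
          have h3 : p ^ a ∣ Nat.card U := by
            rw [← ha]; exact Subgroup.card_subgroup_dvd_card _
          have h4 : p ^ a ∣ m := by
            rw [← hUm] at h3
            apply Nat.Coprime.dvd_of_dvd_mul_left _ h3
            apply Nat.Coprime.pow _ _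
            exact (Nat.coprime_primes hpp hqp).mpr hpq
          have h5 : x ^ Nat.card (Y p hp hpp) = 1 := by
            have h := pow_card_eq_one' (G := Y p hp hpp) (x := ⟨x, hxY⟩)
            have h' := congrArg Subtype.val h
            rw [Subgroup.coe_pow] at h'
            exact h'
          obtain ⟨c, hc⟩ := h4
          rw [hc, pow_mul, ← ha, h5, one_pow]
          exact Subgroup.one_mem _
      | one => rw [one_pow]; exact Subgroup.one_mem _
      | mul x y hx hy ihx ihy =>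
        have hc : Commute x y := hE₂comm x (hYbE hx) y (hYbE hy)
        rw [hc.mul_pow]
        exact mul_mem ihx ihy
      | inv x _ ihx =>
        rw [inv_pow]
        exact inv_mem ihx
    have h6 := hpow z hz
    have hcop' : m.Coprime (orderOf z) := by rw [hzo]; exact hqm.symm
    obtain ⟨m', hm'⟩ := exists_pow_eq_self_of_coprime hcop'
    rw [← hm']
    exact pow_mem h6 m'
  -- the subgroup `U₀`
  refine ⟨Yb ⊔ C, Nat.dvd_antisymm ?_ ?_, ?_⟩
  · exact Monoid.exponent_dvd_of_monoidHom (Yb ⊔ C).subtype (Subgroup.subtype_injective _)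
  · -- `exp U ∣ exp U₀`
    apply exponent_dvd_of_prime_pow'
    intro u q hq k huo
    have : Fact q.Prime := ⟨hq⟩
    by_cases hqτ : q ∈ τ
    · have huS : u ∈ S q hqτ hq := hSall q hqτ hq u ⟨k, by rw [← huo]; exact pow_orderOf_eq_one u⟩
      have h3 : q ^ k ∣ Nat.card (Y q hqτ hq) := by
        rw [← huo]
        exact orderOf_dvd_of_pow_eq_one (hSexp q hqτ hq u huS)
      have := hYc q hqτ hq
      obtain ⟨y, hy⟩ := IsCyclic.exists_generator (α := Y q hqτ hq)
      have hyo : orderOf y = Nat.card (Y q hqτ hq) := orderOf_eq_card_of_forall_mem_zpowers hy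
      have hyU : (y : U) ∈ Yb ⊔ C := (le_sup_left : Yb ≤ Yb ⊔ C) (hYle q hqτ hq y.2)
      have h4 : orderOf (⟨(y : U), hyU⟩ : ↥(Yb ⊔ C)) = Nat.card (Y q hqτ hq) := by
        rw [← hyo, ← Subgroup.orderOf_coe y, ← Subgroup.orderOf_coe (⟨(y : U), hyU⟩ : ↥(Yb ⊔ C))]
      have h5 := Monoid.order_dvd_exponent (⟨(y : U), hyU⟩ : ↥(Yb ⊔ C))
      rw [h4] at h5
      exact h3.trans h5
    · -- conjugate `u` into `C`
      have hqE : ¬ q ∣ Nat.card E₂ := fun h => hqτ (hE₂τ q hq h)
      obtain ⟨P⟩ : Nonempty (Sylow q C) := inferInstance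
      have hPcard : Nat.card ((P : Subgroup C).map C.subtype) =
          q ^ (Nat.card U).factorization q := by
        rw [Nat.card_congr (Subgroup.equivMapOfInjective (P : Subgroup C) C.subtype
          C.subtype_injective).symm.toEquiv, P.card_eq_multiplicity, ← hcard,
          Nat.factorization_mul Nat.card_pos.ne' Nat.card_pos.ne', Finsupp.add_apply,
          Nat.factorization_eq_zero_of_not_dvd hqE, zero_add]
      set Q : Sylow q U := Sylow.ofCard _ hPcard with hQ
      have hup : IsPGroup q (Subgroup.zpowers u) := by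
        apply IsPGroup.of_card (n := k)
        rw [Nat.card_zpowers, huo]
      obtain ⟨R, hR⟩ := hup.exists_le_sylow
      obtain ⟨g, hg⟩ := MulAction.exists_smul_eq U R Q
      have hgu : g * u * g⁻¹ ∈ (Q : Subgroup U) := by
        rw [← hg, Sylow.coe_subgroup_smul]
        have := Subgroup.smul_mem_pointwise_smul u (MulAut.conj g) (R : Subgroup U)
          (hR (Subgroup.mem_zpowers u))
        simpa [MulAut.smul_def, MulAut.conj_apply] using this
      have hguC : g * u * g⁻¹ ∈ C := by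
        have h3 : (Q : Subgroup U) = (P : Subgroup C).map C.subtype := rfl
        rw [h3] at hgu
        obtain ⟨c, -, hc⟩ := hgu
        rw [← hc]
        exact c.2
      have hguU : g * u * g⁻¹ ∈ Yb ⊔ C := (le_sup_right : C ≤ Yb ⊔ C) hguC
      have h4 : orderOf (⟨g * u * g⁻¹, hguU⟩ : ↥(Yb ⊔ C)) = q ^ k := by
        rw [← Subgroup.orderOf_coe]
        show orderOf (g * u * g⁻¹) = q ^ k
        rw [← huo]
        exact (MulAut.conj g).orderOf_eq u
      have h5 := Monoid.order_dvd_exponent (⟨g * u * g⁻¹, hguU⟩ : ↥(Yb ⊔ C))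
      rwa [h4] at h5
  · -- regularity
    intro g hg hg1 hgB
    obtain ⟨q, hq, hqd, hord⟩ := exists_pow_orderOf_eq_prime g hg1
    set g' := g ^ (orderOf g / q) with hg'
    have hg'1 : g' ≠ 1 := by
      intro h
      rw [h, orderOf_one] at hord
      exact hq.one_lt.ne hord
    have hg'B : g' ∈ Bad := hBadPow g hgB _ hg'1
    have hg'U : g' ∈ Yb ⊔ C := pow_mem hg _
    by_cases hqτ : q ∈ τ
    · have hg'S : g' ∈ S q hqτ hq := by
        apply hSall q hqτ hq
        refine ⟨1, ?_⟩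
        rw [pow_one, ← hord]
        exact pow_orderOf_eq_one g'
      have hg'E : g' ∈ E₂ := hSE₂ q hqτ hq hg'S
      have hmem : g' ∈ (Yb : Set U) * (C : Set U) := by
        rw [← Subgroup.normal_mul]
        exact hg'U
      obtain ⟨y, hy, c, hc, hyc⟩ := Set.mem_mul.mp hmem
      have hcE : c ∈ E₂ := by
        have : c = y⁻¹ * g' := by rw [← hyc]; group
        rw [this]
        exact mul_mem (inv_mem (hYbE hy)) hg'E
      have hc1 : c = 1 := by
        have : c ∈ E₂ ⊓ C := Subgroup.mem_inf.mpr ⟨hcE, hc⟩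
        rw [hEC] at this
        exact Subgroup.mem_bot.mp this
      have hyg : y = g' := by rw [← hyc, hc1, mul_one]
      have hg'Y : g' ∈ Y q hqτ hq := hYbq q hqτ hq g' (hyg ▸ hy) hord
      exact hYreg q hqτ hq g' hg'Y hg'1 hg'B
    · apply h1 g' hg'1 _ hg'B
      intro q' hq' hq'd
      rw [hord] at hq'd
      rw [(Nat.prime_dvd_prime_iff_eq hq' hq).mp hq'd]
      exact hqτ

end assembly


section ambient

variable {G : Type*} [Group G] [Finite G]

omit [Finite G] in
/-- `C(g) ≤ C(g ^ k)` -/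
theorem centralizer_singleton_le_pow (g : G) (k : ℕ) :
    Subgroup.centralizer ({g} : Set G) ≤ Subgroup.centralizer ({g ^ k} : Set G) := by
  intro x hx
  rw [Subgroup.mem_centralizer_singleton_iff] at hx ⊢
  exact (Commute.pow_right (show Commute x g from hx) k)

/-- **Ambient form of the assembly lemma.** -/
theorem abelian_case (U K : Subgroup G) (τ : Set ℕ)
    (h1 : ∀ g ∈ U, g ≠ 1 → (∀ q : ℕ, q.Prime → q ∣ orderOf g → q ∉ τ) →
      K ⊓ Subgroup.centralizer ({g} : Set G) = ⊥)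
    (h2 : ∀ p ∈ τ, p.Prime → ∃ S Y : Subgroup G, S ≤ U ∧ U ≤ Subgroup.normalizer (S : Set G) ∧
      (∀ a ∈ S, ∀ b ∈ S, a * b = b * a) ∧ IsPGroup p S ∧
      (∀ g ∈ U, (∃ k : ℕ, g ^ (p ^ k) = 1) → g ∈ S) ∧ Y ≤ S ∧ IsCyclic Y ∧
      U ≤ Subgroup.normalizer (Y : Set G) ∧ (∀ s ∈ S, s ^ Nat.card Y = 1) ∧
      ∀ y ∈ Y, y ≠ 1 → K ⊓ Subgroup.centralizer ({y} : Set G) = ⊥) :
    (∃ A₀ : Subgroup G, A₀ ≤ U ∧ U ≤ Subgroup.normalizer (A₀ : Set G) ∧ IsMulCommutative A₀ ∧
        ∀ x ∈ K, x ≠ 1 → U ⊓ Subgroup.centralizer ({x} : Set G) ≤ A₀) ∧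
      ∃ U₀ : Subgroup G, U₀ ≤ U ∧ Monoid.exponent U₀ = Monoid.exponent U ∧
        ∀ e ∈ U₀, e ≠ 1 → K ⊓ Subgroup.centralizer ({e} : Set G) = ⊥ := by
  set Bad : Set U := {u | K ⊓ Subgroup.centralizer ({(u : G)} : Set G) ≠ ⊥} with hBad
  have key := assembly (U := U) τ Bad
    (by
      intro g hg k _ hcon
      apply hg
      rw [eq_bot_iff, ← hcon]
      refine inf_le_inf_left _ ?_
      have := centralizer_singleton_le_pow (g : G) k
      simpa using this)
    (by
      intro g hg1 hq hgB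
      apply hgB
      apply h1 (g : G) g.2 (fun h => hg1 (Subtype.ext h))
      intro q hqp hqd
      apply hq q hqp
      rwa [Subgroup.orderOf_coe] at hqd)
    (by
      intro p hp hpp
      obtain ⟨S, Y, hSU, hUS, hSc, hSp, hSall, hYS, hYc, hUY, hSexp, hYreg⟩ := h2 p hp hpp
      refine ⟨S.subgroupOf U, Y.subgroupOf U,
        (Subgroup.normal_subgroupOf_iff_le_normalizer hSU).mpr hUS, ?_, hSp.comap_subtype, ?_, ?_,
        ?_, (Subgroup.normal_subgroupOf_iff_le_normalizer (hYS.trans hSU)).mpr hUY, ?_, ?_⟩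
      · intro a ha b hb
        exact Subtype.ext (hSc a (Subgroup.mem_subgroupOf.mp ha) b (Subgroup.mem_subgroupOf.mp hb))
      · rintro g ⟨k, hk⟩
        rw [Subgroup.mem_subgroupOf]
        apply hSall (g : G) g.2 ⟨k, ?_⟩
        have := congrArg Subtype.val hk
        simpa using this
      · intro y hy
        exact Subgroup.mem_subgroupOf.mpr (hYS (Subgroup.mem_subgroupOf.mp hy))
      · exact (Subgroup.subgroupOfEquivOfLe (hYS.trans hSU)).isCyclic.mpr hYc
      · intro s hs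
        rw [Nat.card_congr (Subgroup.subgroupOfEquivOfLe (hYS.trans hSU)).toEquiv]
        apply Subtype.ext
        have := hSexp (s : G) (Subgroup.mem_subgroupOf.mp hs)
        simpa using this
      · intro y hy hy1 hyB
        apply hyB
        exact hYreg (y : G) (Subgroup.mem_subgroupOf.mp hy) (fun h => hy1 (Subtype.ext h)))
  obtain ⟨⟨A₀, hA₀n, hA₀c, hA₀B⟩, ⟨U₀, hU₀e, hU₀r⟩⟩ := key
  refine ⟨⟨A₀.map U.subtype, Subgroup.map_subtype_le _, ?_, ?_, ?_⟩,
    ⟨U₀.map U.subtype, Subgroup.map_subtype_le _, ?_, ?_⟩⟩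
  · intro u hu
    rw [Subgroup.mem_normalizer_iff]
    intro x
    constructor
    · rintro ⟨a, ha, rfl⟩
      exact ⟨⟨u, hu⟩ * a * ⟨u, hu⟩⁻¹, hA₀n.conj_mem a ha ⟨u, hu⟩, rfl⟩
    · rintro ⟨a, ha, hax⟩
      refine ⟨⟨u, hu⟩⁻¹ * a * ⟨u, hu⟩, ?_, ?_⟩
      · have := hA₀n.conj_mem a ha ⟨u, hu⟩⁻¹
        simpa using this
      · show u⁻¹ * (a : G) * u = x
        have hax' : (a : G) = u * x * u⁻¹ := hax
        rw [hax']
        group
  · refine ⟨⟨?_⟩⟩
    rintro ⟨_, a, ha, rfl⟩ ⟨_, b, hb, rfl⟩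
    apply Subtype.ext
    have := hA₀c.is_comm.comm (⟨a, ha⟩ : A₀) ⟨b, hb⟩
    have h' := congrArg (fun z : A₀ => ((z : U) : G)) this
    simpa using h'
  · intro x hxK hx1 g hg
    obtain ⟨hgU, hgC⟩ := Subgroup.mem_inf.mp hg
    refine ⟨⟨g, hgU⟩, hA₀B ⟨g, hgU⟩ ?_, rfl⟩
    show K ⊓ Subgroup.centralizer ({g} : Set G) ≠ ⊥
    intro hbot
    apply hx1
    have : x ∈ K ⊓ Subgroup.centralizer ({g} : Set G) := by
      refine Subgroup.mem_inf.mpr ⟨hxK, ?_⟩
      rw [Subgroup.mem_centralizer_singleton_iff]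
      rw [Subgroup.mem_centralizer_singleton_iff] at hgC
      exact hgC.symm
    rw [hbot] at this
    exact Subgroup.mem_bot.mp this
  · rw [← hU₀e]
    exact (Monoid.exponent_eq_of_mulEquiv
      (Subgroup.equivMapOfInjective U₀ U.subtype U.subtype_injective)).symm
  · rintro e ⟨u, hu, rfl⟩ he1
    by_contra hcon
    exact hU₀r u hu (fun h => he1 (by rw [h]; rfl)) hcon

end ambient

end Cfsg.Agent.Lib.Helper55.BGThirteen
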