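import Cfsg.Agent.S1417
import Cfsg.Agent.S1418
import Cfsg.Agent.S1451
import Cfsg.Agent.Lib.Helper55.BGThirteenB
import Cfsg.Agent.Lib.Helper21.BGTwelveL
import Cfsg.Agent.Lib.Helper24.PrimeAction
import Cfsg.Agent.Lib.Helper24.Maschke
import Cfsg.Agent.Lib.Helper24.GL2Action
import Cfsg.Agent.Lib.Helper24.Omega
import Cfsg.Agent.Lib.Helper68.BGElevenN
import Cfsg.Agent.Lib.Helper65.NilpBasic
import Cfsg.Agent.Lib.Helper24.SigmaCompl

/-!
# Bender–Glauberman §12, towards statement S1421: the abelian case, structure of `N_G(A)`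

For `p ∈ τ₂(M)` with abelian Sylow `p`-subgroups: a Sylow `p`-subgroup `S` of `G` containing
`A` (elementary abelian of order `p²` in a complement `E` of `M_σ`) lies in `E`, is normal in
`N = N_G(A)`, and `N' ≤ C_G(A)`.
-/

set_option autoImplicit false
open Cfsg

namespace Cfsg.Agent.Lib.Helper55.BGThirteen

open Cfsg.Agent.Lib
open scoped commutatorElement

variable {G : Type*} [Group G]

/-- contrapositive form of `not_pRankLE_of_elemAb` -/
theorem card_le_of_pRankLE {p k : ℕ} {H B : Subgroup G} (hBH : B ≤ H)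
    (hBc : ∀ x ∈ B, ∀ y ∈ B, x * y = y * x) (hBexp : ∀ x ∈ B, x ^ p = 1)
    (h : PRankLE p k H) : Nat.card B ≤ p ^ k := by
  by_contra hlt
  push Not at hlt
  exact Helper54.not_pRankLE_of_elemAb hBH hBc hBexp hlt h

/-- primes dividing the order of a complement of `M_σ` -/
theorem compl_prime_facts [Finite G] (hG : IsMinSimpleOddOrder G) (M : Subgroup G)
    (hM : IsCoatom M) (E : Subgroup G) (hE : IsComplIn E (sigmaCore M) M) {q : ℕ}
    (hq : q.Prime) (hqE : q ∣ Nat.card E) :
    q ∉ sigma M ∧ q ∣ Nat.card M ∧ PRankLE q 2 M ∧ q ≠ 2 := by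
  have hU := Helper21.uniquenessThm_of hG
  have hHall := (Helper54.sigmaCore_hall_of hG hU M hM).1
  have : IsSimpleGroup G := hG.2.1
  have : Fact q.Prime := ⟨hq⟩
  have hσ : q ∉ sigma M := fun h =>
    Helper97.BGTwelve.not_dvd_card_of_isComplIn hE hHall hq h hqE
  have hqM : q ∣ Nat.card M := hqE.trans (Subgroup.card_dvd_of_le hE.1)
  refine ⟨hσ, hqM, Helper34.pRankLE_two_of_not_mem_sigma hU hM hσ, ?_⟩
  rintro rfl
  have h2 : 2 ∣ Nat.card G := hqM.trans (Subgroup.card_subgroup_dvd_card M)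
  exact (Nat.not_even_iff_odd.mpr hG.1) (even_iff_two_dvd.mpr h2)

/-- a prime divisor of `|E|` outside `τ₂(M)` lies in `τ₁(M) ∪ τ₃(M)` -/
theorem mem_tau13_of [Finite G] (hG : IsMinSimpleOddOrder G) (M : Subgroup G)
    (hM : IsCoatom M) (E : Subgroup G) (hE : IsComplIn E (sigmaCore M) M) {q : ℕ}
    (hq : q.Prime) (hqE : q ∣ Nat.card E) (hτ : q ∉ tau2 M) : q ∈ tau1 M ∪ tau3 M := by
  obtain ⟨hσ, hqM, hr2, -⟩ := compl_prime_facts hG M hM E hE hq hqE
  have hr1 : PRankLE q 1 M := by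
    by_contra h
    exact hτ ⟨hq, hσ, hr2, h⟩
  by_cases hd : q ∣ Nat.card ↥⁅M, M⁆
  · exact Or.inr ⟨hq, hσ, hd, hr1⟩
  · exact Or.inl ⟨hq, hσ, hqM, hd, hr1⟩

theorem pRankLE_one_of_tau13 {M : Subgroup G} {q : ℕ} (h : q ∈ tau1 M ∪ tau3 M) :
    PRankLE q 1 M := by
  rcases h with h | h
  · exact h.2.2.2.2
  · exact h.2.2.2

/-- elementary abelian `q`-subgroups of a complement have order at most `q²` -/
theorem card_le_sq_of_le_compl [Finite G] (hG : IsMinSimpleOddOrder G) (M : Subgroup G)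
    (hM : IsCoatom M) (E : Subgroup G) (hE : IsComplIn E (sigmaCore M) M) {q : ℕ}
    (hq : q.Prime) {B : Subgroup G} (hBE : B ≤ E)
    (hBc : ∀ x ∈ B, ∀ y ∈ B, x * y = y * x) (hBexp : ∀ x ∈ B, x ^ q = 1) :
    Nat.card B ≤ q ^ 2 := by
  by_cases hB1 : B = ⊥
  · rw [hB1, Subgroup.card_bot]
    exact Nat.one_le_pow _ _ hq.pos
  · obtain ⟨b, hb1⟩ := (Subgroup.ne_bot_iff_exists_ne_one).mp hB1
    have : Fact q.Prime := ⟨hq⟩
    have hb1' : (b : G) ≠ 1 := fun h => hb1 (Subtype.ext h)
    have hord : orderOf (b : G) = q := orderOf_eq_prime (hBexp b b.2) hb1'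
    have hqE : q ∣ Nat.card E := by
      rw [← hord]
      have := orderOf_dvd_natCard (⟨b, hBE b.2⟩ : E)
      rwa [Subgroup.orderOf_mk] at this
    exact card_le_of_pRankLE (hBE.trans hE.1) hBc hBexp
      (compl_prime_facts hG M hM E hE hq hqE).2.2.1

/-- a `p`-element normalizing a Sylow `p`-subgroup lies in it -/
theorem mem_sylow_of_mem_normalizer {p : ℕ} [Fact p.Prime] (S : Sylow p G) {y : G}
    (hyN : y ∈ Subgroup.normalizer ((S : Subgroup G) : Set G)) {k : ℕ} (hy : y ^ p ^ k = 1) :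
    y ∈ (S : Subgroup G) := by
  have hzp : IsPGroup p (Subgroup.zpowers y) := by
    rw [IsPGroup.iff_orderOf]
    rintro ⟨z, hz⟩
    obtain ⟨n, rfl⟩ := Subgroup.mem_zpowers_iff.mp hz
    have h1 : orderOf (⟨y ^ n, hz⟩ : Subgroup.zpowers y) ∣ p ^ k := by
      apply orderOf_dvd_of_pow_eq_one
      apply Subtype.ext
      show (y ^ n) ^ p ^ k = 1
      rw [← zpow_natCast, ← zpow_mul, mul_comm, zpow_mul, zpow_natCast, hy, one_zpow]
    obtain ⟨j, -, hj⟩ := (Nat.dvd_prime_pow Fact.out).mp h1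
    exact ⟨j, hj⟩
  have hle : Subgroup.zpowers y ≤ Subgroup.normalizer ((S : Subgroup G) : Set G) := by
    rw [Subgroup.zpowers_le]
    exact hyN
  have hT : IsPGroup p ((Subgroup.zpowers y ⊔ (S : Subgroup G) : Subgroup G)) :=
    IsPGroup.to_sup_of_normal_right' hzp S.isPGroup' hle
  have := S.is_maximal' hT le_sup_right
  have h2 : Subgroup.zpowers y ≤ (S : Subgroup G) := by
    rw [← this]
    exact le_sup_left
  exact h2 (Subgroup.mem_zpowers y)


/-- conjugation of a commutator subgroup -/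
theorem le_normalizer_commutator_self (N : Subgroup G) :
    N ≤ Subgroup.normalizer ((⁅N, N⁆ : Subgroup G) : Set G) := by
  have key : ∀ n ∈ N, ∀ x ∈ ⁅N, N⁆, n * x * n⁻¹ ∈ ⁅N, N⁆ := by
    intro n hn x hx
    have h1 : ⁅n, x⁆ ∈ ⁅N, N⁆ :=
      Subgroup.commutator_mem_commutator hn (Subgroup.commutator_le_self N hx)
    have h2 : n * x * n⁻¹ = ⁅n, x⁆ * x := by
      rw [commutatorElement_def]
      group
    rw [h2]
    exact mul_mem h1 hx
  intro n hn
  rw [Subgroup.mem_normalizer_iff]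
  intro x
  constructor
  · exact key n hn x
  · intro h
    have h1 := key n⁻¹ (inv_mem hn) _ h
    have h2 : n⁻¹ * (n * x * n⁻¹) * n⁻¹⁻¹ = x := by group
    rwa [h2] at h1

/-- **The abelian case, structure of `N_G(A)`.** -/
theorem ab_structure [Finite G] (hG : IsMinSimpleOddOrder G) (M : Subgroup G) (hM : IsCoatom M)
    (E : Subgroup G) (hE : IsComplIn E (sigmaCore M) M) (p : ℕ) [Fact p.Prime] (hp : p ∈ tau2 M)
    (A : Subgroup G) (hA : A ≤ E ∧ IsElementaryAbelian p A ∧ Nat.card A = p ^ 2)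
    (S : Sylow p G) (hSc : IsMulCommutative (S : Subgroup G)) (hAS : A ≤ (S : Subgroup G)) :
    (S : Subgroup G) ≤ E ∧ (∀ x ∈ (S : Subgroup G), x ^ p = 1 ↔ x ∈ A) ∧
      Subgroup.normalizer (A : Set G) ≤ Subgroup.normalizer ((S : Subgroup G) : Set G) ∧
      ⁅Subgroup.normalizer (A : Set G), Subgroup.normalizer (A : Set G)⁆ ≤
        Subgroup.centralizer (A : Set G) := by
  have hpp : p.Prime := Fact.out
  have hU := Helper21.uniquenessThm_of hG
  obtain ⟨⟨hEN, hEX⟩, ⟨hCle, hMN, hNM⟩, -⟩ := Cfsg.Agent.S1418.result hG M hM E hE p hp A hA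
  have hEM : E ≤ M := hE.1
  have hAM : A ≤ M := hA.1.trans hEM
  obtain ⟨-, h17b, -, -, -, -⟩ :=
    Cfsg.Agent.S1417.result hG M hM p hp A ⟨hAM, hA.2.1, hA.2.2⟩
  have hScomm : ∀ x ∈ (S : Subgroup G), ∀ y ∈ (S : Subgroup G), x * y = y * x :=
    fun x hx y hy => congrArg Subtype.val (hSc.is_comm.comm ⟨x, hx⟩ ⟨y, hy⟩)
  have hSC : (S : Subgroup G) ≤ Subgroup.centralizer (A : Set G) := by
    intro x hx
    rw [Subgroup.mem_centralizer_iff]
    intro a ha
    exact hScomm a (hAS ha) x hx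
  have hCE : Subgroup.centralizer (A : Set G) ≤ E := by
    intro x hx
    rw [← hMN]
    exact hCle hx
  have hSE : (S : Subgroup G) ≤ E := hSC.trans hCE
  have hSM : (S : Subgroup G) ≤ M := hSE.trans hEM
  -- `Ω₁(S) = A`
  have hΩ : ∀ x ∈ (S : Subgroup G), x ^ p = 1 ↔ x ∈ A := by
    obtain ⟨-, hΩ'⟩ := h17b (S.subtype hSM)
    have hPmap : ((S.subtype hSM : Sylow p M) : Subgroup M).map M.subtype = (S : Subgroup G) := by
      rw [Sylow.coe_subtype, Subgroup.map_subgroupOf_eq_of_le hSM]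
    rw [hPmap] at hΩ'
    exact (hΩ' hAS).1
  set N : Subgroup G := Subgroup.normalizer (A : Set G) with hN
  have hNSA : Subgroup.normalizer ((S : Subgroup G) : Set G) ≤ N :=
    Helper34.normalizer_le_normalizer_of_forall_mem hAS hA.2.1.2
      (fun y hy hyp => (hΩ y hy).mp hyp)
  have hAp : IsPGroup p A := by
    intro a
    refine ⟨1, ?_⟩
    rw [pow_one]
    apply Subtype.ext
    simpa using hA.2.1.2 a a.2
  have hA1 : A ≠ ⊥ := by
    intro h
    have h1 := hA.2.2
    rw [h, Subgroup.card_bot] at h1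
    have : 1 < p ^ 2 := Nat.one_lt_pow (by norm_num) hpp.one_lt
    omega
  have hNtop : N ≠ ⊤ := Helper24.normalizer_ne_top_of_isPGroup hG hAp hA1
  have hNsolv : Group.IsSolvable N := hG.2.2.2 N hNtop
  have hNodd : Odd (Nat.card N) := Odd.of_dvd_nat hG.1 (Subgroup.card_subgroup_dvd_card N)
  have hCN : Subgroup.centralizer (A : Set G) ≤ N := Subgroup.centralizer_le_normalizer _
  have hSN : (S : Subgroup G) ≤ N := hSC.trans hCN
  have hAN : A ≤ N := Subgroup.le_normalizer
  -- the rank of the Fitting subgroup of `N`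
  have hrankp : PRankLE p 2 N := by
    apply Helper54.pRankLE_of_sylow_rel N (S.subtype hSN)
    have hPmap : ((S.subtype hSN : Sylow p N) : Subgroup N).map N.subtype = (S : Subgroup G) := by
      rw [Sylow.coe_subtype, Subgroup.map_subgroupOf_eq_of_le hSN]
    rw [hPmap]
    exact Helper54.pRankLE_of_le hSM hp.2.2.1
  have hFnil : Group.IsNilpotent (fittingOf N) := Helper54.isNilpotent_fittingOf N
  have hFN : fittingOf N ≤ N := Subgroup.map_subtype_le _
  have hAF : A ≤ fittingOf N := Helper34.le_fittingOf hAN le_rfl hAp.isNilpotent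
  have hrank : RankLE 2 (fittingSubgroup ↥N) := by
    intro q hq
    have : Fact q.Prime := ⟨hq⟩
    apply (Helper54.pRankLE_map_subtype_iff N (fittingSubgroup ↥N)).mp
    show PRankLE q 2 ↥(fittingOf N)
    by_cases hqp : q = p
    · rw [hqp]
      exact Helper54.pRankLE_of_le hFN hrankp
    · intro B hBc hBexp
      have hcard : Nat.card (B.map (fittingOf N).subtype) = Nat.card B :=
        Subgroup.card_map_of_injective (fittingOf N).subtype_injective
      rw [← hcard]
      have hB'F : B.map (fittingOf N).subtype ≤ fittingOf N := Subgroup.map_subtype_le _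
      have hB'exp : ∀ x ∈ B.map (fittingOf N).subtype, x ^ q = 1 := by
        rintro _ ⟨b, hb, rfl⟩
        have := congrArg Subtype.val (hBexp b hb)
        simpa using this
      have hB'c : ∀ x ∈ B.map (fittingOf N).subtype, ∀ y ∈ B.map (fittingOf N).subtype,
          x * y = y * x := by
        rintro _ ⟨b, hb, rfl⟩ _ ⟨c, hc, rfl⟩
        have := congrArg Subtype.val (hBc.is_comm.comm ⟨b, hb⟩ ⟨c, hc⟩)
        have h2 := congrArg (fittingOf N).subtype this
        simpa using h2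
      have hB'C : B.map (fittingOf N).subtype ≤ Subgroup.centralizer (A : Set G) := by
        intro x hx
        rw [Subgroup.mem_centralizer_iff]
        intro a ha
        have h1 : orderOf a ∣ p := orderOf_dvd_of_pow_eq_one (hA.2.1.2 a ha)
        have h2 : orderOf x ∣ q := orderOf_dvd_of_pow_eq_one (hB'exp x hx)
        have hcop : Nat.Coprime p q := (Nat.coprime_primes hpp hq).mpr (Ne.symm hqp)
        have hcop' : (orderOf a).Coprime (orderOf x) :=
          Nat.Coprime.coprime_dvd_left h1 (Nat.Coprime.coprime_dvd_right h2 hcop)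
        have h3 : Commute (⟨a, hAF ha⟩ : ↥(fittingOf N)) ⟨x, hB'F hx⟩ := by
          have := hFnil
          apply Helper65.commute_of_coprime_orderOf
          rw [Subgroup.orderOf_mk, Subgroup.orderOf_mk]
          exact hcop'
        exact congrArg Subtype.val h3.eq
      exact card_le_sq_of_le_compl hG M hM E hE hq (hB'C.trans hCE) hB'c hB'exp
  have h1451 := (Cfsg.Agent.S1451.result (G := ↥N) hNodd (Or.inr hrank)).1
  -- `N'` is nilpotent, as a subgroup of `G`
  have hDnil : Group.IsNilpotent ↥(⁅N, N⁆ : Subgroup G) := by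
    have hmap : (commutator ↥N).map N.subtype = ⁅N, N⁆ := Subgroup.map_subtype_commutator N
    rw [← hmap]
    have e := (commutator ↥N).equivMapOfInjective N.subtype N.subtype_injective
    have := h1451
    exact Helper24.isNilpotent_of_injective e.symm.toMonoidHom e.symm.injective
  have hSD : (S : Subgroup G) ≤ ⁅N, N⁆ :=
    (Helper21.s1411_of hG p S).trans (Subgroup.commutator_mono hNSA hNSA)
  -- `S ⊴ N`
  have hNS : N ≤ Subgroup.normalizer ((S : Subgroup G) : Set G) := by
    have := Helper68.le_normalizer_sylow_of_nilpotent (le_normalizer_commutator_self N) hDnil p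
      (S.subtype hSD)
    have hPmap : ((S.subtype hSD : Sylow p (⁅N, N⁆ : Subgroup G)) :
        Subgroup (⁅N, N⁆ : Subgroup G)).map (⁅N, N⁆ : Subgroup G).subtype = (S : Subgroup G) := by
      rw [Sylow.coe_subtype, Subgroup.map_subgroupOf_eq_of_le hSD]
    rwa [hPmap] at this
  refine ⟨hSE, hΩ, hNS, ?_⟩
  -- `N' ≤ C_G(A)`
  intro x hx
  have hx0 : 0 < orderOf x := orderOf_pos x
  apply mem_of_forall_prime_pow_mem (Subgroup.centralizer (A : Set G)) (orderOf x) x hx0
    (pow_orderOf_eq_one x)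
  intro q hq k j hkj
  have hyD : x ^ k ∈ ⁅N, N⁆ := pow_mem hx k
  have hyN : x ^ k ∈ N := Subgroup.commutator_le_self N hyD
  by_cases hqp : q = p
  · rw [hqp] at hkj
    exact hSC (mem_sylow_of_mem_normalizer S (hNS hyN) hkj)
  · have hcop : (orderOf (x ^ k)).Coprime p := by
      have h1 : orderOf (x ^ k) ∣ q ^ j := orderOf_dvd_of_pow_eq_one hkj
      have hcop : Nat.Coprime q p := (Nat.coprime_primes hq hpp).mpr hqp
      exact Nat.Coprime.coprime_dvd_left h1 (Nat.Coprime.pow_left j hcop)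
    have hmem : (⟨x ^ k, hyN⟩ : ↥N) ∈ commutator ↥N := by
      have hmap : (commutator ↥N).map N.subtype = ⁅N, N⁆ := Subgroup.map_subtype_commutator N
      rw [← hmap] at hyD
      obtain ⟨z, hz, hzx⟩ := hyD
      have : z = ⟨x ^ k, hyN⟩ := Subtype.ext hzx
      rwa [← this]
    have hcop' : (orderOf (⟨x ^ k, hyN⟩ : ↥N)).Coprime p := by
      rw [Subgroup.orderOf_mk]
      exact hcop
    have hcomm : ∀ a b : ↥A, a * b = b * a := fun a b => hA.2.1.1.is_comm.comm a b
    have hexp : ∀ a : ↥A, a ^ p = 1 := by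
      intro a
      apply Subtype.ext
      simpa using hA.2.1.2 a a.2
    have h1 := Helper24.mulAut_eq_one_of_mem_commutator_of_coprime p (V := ↥A) hcomm hexp hA.2.2
      (A := ↥N) hNodd (Helper24.conjOn N A le_rfl) ⟨x ^ k, hyN⟩ hmem hcop'
    rw [Subgroup.mem_centralizer_iff]
    intro a ha
    have h2 := congrArg (fun f : MulAut ↥A => ((f ⟨a, ha⟩ : ↥A) : G)) h1
    simp only [Helper24.conjOn_apply, MulAut.one_apply] at h2
    calc a * x ^ k = (x ^ k * a * (x ^ k)⁻¹) * x ^ k := by rw [h2]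
      _ = x ^ k * a := by group

end Cfsg.Agent.Lib.Helper55.BGThirteen
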