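import Cfsg.Agent.Lib.Helper55.BGThirteenC

/-!
# Bender–Glauberman §12, towards statement S1421: the four configurations for a maximal
subgroup `L` containing `N_G(Ω₁⟨e⟩)`
-/

set_option autoImplicit false
open Cfsg

namespace Cfsg.Agent.Lib.Helper55.BGThirteen

open Cfsg.Agent.Lib
open scoped commutatorElement

variable {G : Type*} [Group G]

/-- `r ∈ σ(L)`, `p ∈ τ₂(L)`: an `r`-element of `L` centralizing `A` is trivial. -/
theorem sub1 [Finite G] (hG : IsMinSimpleOddOrder G) (L : Subgroup G) (hL : IsCoatom L)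
    (p : ℕ) [Fact p.Prime] (hpτ : p ∈ tau2 L) (A : Subgroup G) (hAL : A ≤ L)
    (hAe : IsElementaryAbelian p A) (hAc : Nat.card A = p ^ 2)
    (r : ℕ) [Fact r.Prime] (hrσ : r ∈ sigma L) (e₀ : G) (he₀L : e₀ ∈ L) (he₀r : e₀ ^ r = 1)
    (he₀C : e₀ ∈ Subgroup.centralizer (A : Set G)) : e₀ = 1 := by
  have hU := Helper21.uniquenessThm_of hG
  obtain ⟨-, -, -, h17d, -, -⟩ := Cfsg.Agent.S1417.result hG L hL p hpτ A ⟨hAL, hAe, hAc⟩
  have hR : Subgroup.zpowers e₀ ≤ sigmaCore L := by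
    apply Helper54.le_sigmaCore_of_isPi hG hU L hL (by rw [Subgroup.zpowers_le]; exact he₀L)
    intro q hq hqd
    rw [Nat.card_zpowers] at hqd
    have h1 : q ∣ r := hqd.trans (orderOf_dvd_of_pow_eq_one he₀r)
    have h2 : q = r := (Nat.prime_dvd_prime_iff_eq hq Fact.out).mp h1
    rw [h2]
    exact hrσ
  have h3 : e₀ ∈ sigmaCore L ⊓ Subgroup.centralizer (A : Set G) :=
    Subgroup.mem_inf.mpr ⟨hR (Subgroup.mem_zpowers e₀), he₀C⟩
  rw [h17d] at h3
  exact Subgroup.mem_bot.mp h3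

/-- `r ∈ σ(L)`, `L` of `p`-rank at most `2`: an `r`-element of `L` normalizing a `p`-subgroup `S`
of `L` centralizes it. -/
theorem sub2 [Finite G] (hG : IsMinSimpleOddOrder G) (L : Subgroup G) (hL : IsCoatom L)
    (p : ℕ) [Fact p.Prime] (hp2 : PRankLE p 2 L) (S : Subgroup G) (hSp : IsPGroup p S)
    (hSL : S ≤ L) (r : ℕ) [Fact r.Prime] (hrp : r ≠ p) (hrσ : r ∈ sigma L) (e : G) (heL : e ∈ L)
    (k : ℕ) (hek : e ^ r ^ k = 1) (heS : e ∈ Subgroup.normalizer (S : Set G)) :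
    ∀ s ∈ S, e * s = s * e := by
  have hU := Helper21.uniquenessThm_of hG
  have hpp : p.Prime := Fact.out
  have hrr : r.Prime := Fact.out
  set R : Subgroup G := Subgroup.zpowers e with hR
  have hRL : R ≤ L := by
    rw [hR, Subgroup.zpowers_le]
    exact heL
  have hRr : IsPGroup r R := by
    rw [IsPGroup.iff_orderOf]
    rintro ⟨z, hz⟩
    obtain ⟨n, rfl⟩ := Subgroup.mem_zpowers_iff.mp hz
    have h1 : orderOf (⟨e ^ n, hz⟩ : R) ∣ r ^ k := by
      apply orderOf_dvd_of_pow_eq_one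
      apply Subtype.ext
      show (e ^ n) ^ r ^ k = 1
      rw [← zpow_natCast, ← zpow_mul, mul_comm, zpow_mul, zpow_natCast, hek, one_zpow]
    obtain ⟨j, -, hj⟩ := (Nat.dvd_prime_pow hrr).mp h1
    exact ⟨j, hj⟩
  have hRc : R ≤ ⁅L, L⁆ := Helper24.le_commutator_of_mem_sigma hG hU L hL r hrσ hRr hRL
  have hRS : R ≤ Subgroup.normalizer (S : Set G) := by
    rw [hR, Subgroup.zpowers_le]
    exact heS
  have hcop : (Nat.card S).Coprime r := by
    obtain ⟨m, hm⟩ := hSp.exists_card_eq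
    rw [hm]
    exact Nat.Coprime.pow_left m ((Nat.coprime_primes hpp hrr).mpr (Ne.symm hrp))
  have h1 := Helper24.commutator_le_alphaCore hG L hL r R hRr hRc S hSL hRS hcop
  have h2 : S ⊓ alphaCore L = ⊥ := by
    apply Disjoint.eq_bot
    apply Subgroup.disjoint_of_coprime_natCard
    obtain ⟨m, hm⟩ := hSp.exists_card_eq
    rw [hm]
    apply Nat.Coprime.pow_left
    rw [Nat.Prime.coprime_iff_not_dvd hpp]
    intro hd
    exact (Helper54.alphaCore_isPi L p hpp hd).2 hp2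
  intro s hs
  have h3 : ⁅s, e⁆ ∈ ⁅S, R⁆ :=
    Subgroup.commutator_mem_commutator hs (Subgroup.mem_zpowers e)
  have h4 : ⁅s, e⁆ ∈ S := by
    rw [commutatorElement_def]
    have h5 : e * s⁻¹ * e⁻¹ ∈ S :=
      (Subgroup.mem_normalizer_iff.mp heS s⁻¹).mp (inv_mem hs)
    have h6 : s * e * s⁻¹ * e⁻¹ = s * (e * s⁻¹ * e⁻¹) := by group
    rw [h6]
    exact mul_mem hs h5
  have h7 : ⁅s, e⁆ ∈ S ⊓ alphaCore L := Subgroup.mem_inf.mpr ⟨h4, h1 h3⟩
  rw [h2, Subgroup.mem_bot, commutatorElement_def] at h7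
  calc e * s = (s * e * s⁻¹ * e⁻¹)⁻¹ * (s * e) := by group
    _ = s * e := by rw [h7, inv_one, one_mul]

/-- `r, p ∈ τ₂(L)`: some elementary abelian subgroup of order `r²` centralizes `A`. -/
theorem sub3 [Finite G] (hG : IsMinSimpleOddOrder G) (L : Subgroup G) (hL : IsCoatom L)
    (p : ℕ) [Fact p.Prime] (hpτ : p ∈ tau2 L) (A : Subgroup G) (hAL : A ≤ L)
    (hAe : IsElementaryAbelian p A) (hAc : Nat.card A = p ^ 2)
    (r : ℕ) [Fact r.Prime] (hrp : r ≠ p) (hrτ : r ∈ tau2 L) :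
    ∃ B : Subgroup G, B ≤ Subgroup.centralizer (A : Set G) ∧ IsElementaryAbelian r B ∧
      Nat.card B = r ^ 2 := by
  have hU := Helper21.uniquenessThm_of hG
  have hpp : p.Prime := Fact.out
  have hrr : r.Prime := Fact.out
  have hHall := (Helper54.sigmaCore_hall_of hG hU L hL).1
  have hLs : Group.IsSolvable L := hG.2.2.2 L hL.1
  obtain ⟨E', hE', hAE'⟩ := Helper97.BGTwelve.exists_complIn_ge hLs hHall hAL (by
    intro q hq hqd
    rw [hAc] at hqd
    have h1 : q = p := (Nat.prime_dvd_prime_iff_eq hq hpp).mp (hq.dvd_of_dvd_pow hqd)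
    rw [h1]
    exact hpτ.2.1)
  have hr1 : ¬ PRankLE r 1 ↥E' :=
    Helper97.BGTwelve.not_pRankLE_complement hE' (Helper54.sigmaCore_isPi L) hrτ.2.1 hrτ.2.2.2
  obtain ⟨B, hBE', hBe, hBc⟩ := Helper97.BGTwelve.exists_elemAb_sq_of_not_pRankLE_one E' hr1
  have hEB := (Cfsg.Agent.S1418.result hG L hL E' hE' r hrτ B ⟨hBE', hBe, hBc⟩).1.1
  have hEA := (Cfsg.Agent.S1418.result hG L hL E' hE' p hpτ A ⟨hAE', hAe, hAc⟩).1.1
  refine ⟨B, ?_, hBe, hBc⟩
  have hAB : A ⊓ B = ⊥ := by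
    apply Disjoint.eq_bot
    apply Subgroup.disjoint_of_coprime_natCard
    rw [hAc, hBc]
    exact Nat.Coprime.pow 2 2 ((Nat.coprime_primes hpp hrr).mpr (Ne.symm hrp))
  intro b hb
  rw [Subgroup.mem_centralizer_iff]
  intro a ha
  have h1 : b * a⁻¹ * b⁻¹ ∈ A :=
    (Subgroup.mem_normalizer_iff.mp (hEA (hBE' hb)) a⁻¹).mp (inv_mem ha)
  have h2 : a * b * a⁻¹ ∈ B := (Subgroup.mem_normalizer_iff.mp (hEB (hAE' ha)) b).mp hb
  have h3 : a * b * a⁻¹ * b⁻¹ ∈ A ⊓ B := by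
    refine Subgroup.mem_inf.mpr ⟨?_, mul_mem h2 (inv_mem hb)⟩
    have h4 : a * b * a⁻¹ * b⁻¹ = a * (b * a⁻¹ * b⁻¹) := by group
    rw [h4]
    exact mul_mem ha h1
  rw [hAB, Subgroup.mem_bot] at h3
  calc a * b = (a * b * a⁻¹ * b⁻¹) * (b * a) := by group
    _ = b * a := by rw [h3, one_mul]


/-- `p ∈ σ(L)`, `r ∈ τ₂(L)`: a Sylow `p`-subgroup of `G` inside `L` is normal in `L`, and the
Sylow `r`-subgroups of `L` are abelian. -/
theorem sub4a [Finite G] (hG : IsMinSimpleOddOrder G) (L : Subgroup G) (hL : IsCoatom L)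
    (p : ℕ) [Fact p.Prime] (hpσ : p ∈ sigma L) (S : Sylow p G) (hSL : (S : Subgroup G) ≤ L)
    (r : ℕ) [Fact r.Prime] (hrτ : r ∈ tau2 L) :
    L ≤ Subgroup.normalizer ((S : Subgroup G) : Set G) ∧
      ∀ P : Sylow r L, IsMulCommutative (P : Subgroup L) := by
  have hU := Helper21.uniquenessThm_of hG
  have hpp : p.Prime := Fact.out
  obtain ⟨B₀, hB₀L, hB₀e, hB₀c⟩ :=
    Helper97.BGTwelve.exists_elemAb_sq_of_not_pRankLE_one L hrτ.2.2.2
  obtain ⟨hnil, h17b, -, -, -, -⟩ :=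
    Cfsg.Agent.S1417.result hG L hL r hrτ B₀ ⟨hB₀L, hB₀e, hB₀c⟩
  have hSK : (S : Subgroup G) ≤ sigmaCore L := by
    apply Helper54.le_sigmaCore_of_isPi hG hU L hL hSL
    intro q hq hqd
    obtain ⟨m, hm⟩ := S.isPGroup'.exists_card_eq
    rw [hm] at hqd
    have h1 : q = p := (Nat.prime_dvd_prime_iff_eq hq hpp).mp (hq.dvd_of_dvd_pow hqd)
    rw [h1]
    exact hpσ
  have h2 := Helper68.le_normalizer_sylow_of_nilpotent (Helper54.le_normalizer_sigmaCore L) hnil p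
    (S.subtype hSK)
  have hPmap : ((S.subtype hSK : Sylow p (sigmaCore L)) : Subgroup (sigmaCore L)).map
      (sigmaCore L).subtype = (S : Subgroup G) := by
    rw [Sylow.coe_subtype, Subgroup.map_subgroupOf_eq_of_le hSK]
  rw [hPmap] at h2
  exact ⟨h2, fun P => (h17b P).1⟩

/-- two commuting `r`-elements modulo `C_G(A)` in `N_G(A)`, with `N_G(A)' ≤ C_G(A)`: either an
`N_G(A)`-invariant point of `A`, or a nontrivial combination centralizing `A`. -/
theorem sub4b [Finite G] (p : ℕ) [Fact p.Prime] (A : Subgroup G) (hAe : IsElementaryAbelian p A)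
    (hAc : Nat.card A = p ^ 2)
    (hNC : ⁅Subgroup.normalizer (A : Set G), Subgroup.normalizer (A : Set G)⁆ ≤
      Subgroup.centralizer (A : Set G))
    (r : ℕ) [Fact r.Prime] (hrp : r ≠ p) (f b : G) (hf : f ∈ Subgroup.normalizer (A : Set G))
    (hb : b ∈ Subgroup.normalizer (A : Set G)) (hfb : f * b = b * f)
    (hfr : f ^ r ∈ Subgroup.centralizer (A : Set G))
    (hbr : b ^ r ∈ Subgroup.centralizer (A : Set G)) :
    (∃ X : Subgroup G, X ≤ A ∧ Nat.card X = p ∧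
      Subgroup.normalizer (A : Set G) ≤ Subgroup.normalizer (X : Set G)) ∨
    ∃ i j : ℕ, ¬ (r ∣ i ∧ r ∣ j) ∧ f ^ i * b ^ j ∈ Subgroup.centralizer (A : Set G) := by
  have hpp : p.Prime := Fact.out
  have hrr : r.Prime := Fact.out
  have hA1 : A ≠ ⊥ := by
    intro h
    rw [h, Subgroup.card_bot] at hAc
    have : 1 < p ^ 2 := Nat.one_lt_pow (by norm_num) hpp.one_lt
    omega
  have hrA : ∀ a ∈ A, a ^ r = 1 → a = 1 := by
    intro a ha har
    have h1 : orderOf a ∣ r := orderOf_dvd_of_pow_eq_one har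
    have h2 : orderOf a ∣ p := orderOf_dvd_of_pow_eq_one (hAe.2 a ha)
    have h3 : orderOf a ∣ Nat.gcd r p := Nat.dvd_gcd h1 h2
    rw [(Nat.coprime_primes hrr hpp).mpr hrp] at h3
    exact orderOf_eq_one_iff.mp (Nat.dvd_one.mp h3)
  obtain ⟨i, j, hij, a, ha, ha1, hg⟩ :=
    exists_fixed_of_two_commuting A hAe.1 hA1 r hrr hrA f b hf hb hfb hfr hbr
  by_cases hgC : f ^ i * b ^ j ∈ Subgroup.centralizer (A : Set G)
  · exact Or.inr ⟨i, j, hij, hgC⟩
  left
  set g : G := f ^ i * b ^ j with hgdef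
  have hgN : g ∈ Subgroup.normalizer (A : Set G) := mul_mem (pow_mem hf i) (pow_mem hb j)
  refine ⟨A ⊓ Subgroup.centralizer ({g} : Set G), inf_le_left, ?_, ?_⟩
  · have h1 : Nat.card ↥(A ⊓ Subgroup.centralizer ({g} : Set G)) ∣ p ^ 2 :=
      hAc ▸ Subgroup.card_dvd_of_le inf_le_left
    obtain ⟨k, hk2, hk⟩ := (Nat.dvd_prime_pow hpp).mp h1
    have hk0 : k ≠ 0 := by
      rintro rfl
      rw [pow_zero] at hk
      have h2 := Subgroup.card_eq_one.mp hk
      have h3 : a ∈ A ⊓ Subgroup.centralizer ({g} : Set G) := by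
        refine Subgroup.mem_inf.mpr ⟨ha, ?_⟩
        rw [Subgroup.mem_centralizer_singleton_iff]
        exact hg.symm
      rw [h2, Subgroup.mem_bot] at h3
      exact ha1 h3
    have hk2' : k ≠ 2 := by
      rintro rfl
      apply hgC
      have h2 : A ⊓ Subgroup.centralizer ({g} : Set G) = A :=
        Subgroup.eq_of_le_of_card_ge inf_le_left (by rw [hk, hAc])
      rw [Subgroup.mem_centralizer_iff]
      intro x hx
      rw [← h2] at hx
      have h3 := (Subgroup.mem_inf.mp hx).2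
      rw [Subgroup.mem_centralizer_singleton_iff] at h3
      exact h3
    have hk1 : k = 1 := by omega
    rw [hk, hk1, pow_one]
  · apply Helper54.le_normalizer_of_conj_mem
    intro n hn x hx
    obtain ⟨hxA, hxg⟩ := Subgroup.mem_inf.mp hx
    rw [Subgroup.mem_centralizer_singleton_iff] at hxg
    refine Subgroup.mem_inf.mpr ⟨(Subgroup.mem_normalizer_iff.mp hn x).mp hxA, ?_⟩
    rw [Subgroup.mem_centralizer_singleton_iff]
    have hc : ⁅g⁻¹, n⁻¹⁆ ∈ Subgroup.centralizer (A : Set G) :=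
      hNC (Subgroup.commutator_mem_commutator (inv_mem hgN) (inv_mem hn))
    have hcx : ⁅g⁻¹, n⁻¹⁆ * x = x * ⁅g⁻¹, n⁻¹⁆ :=
      (Subgroup.mem_centralizer_iff.mp hc x hxA).symm
    have e1 : n⁻¹ * g * n = g * ⁅g⁻¹, n⁻¹⁆ := by
      rw [commutatorElement_def]
      group
    have e2 : (n⁻¹ * g * n) * x = x * (n⁻¹ * g * n) := by
      rw [e1]
      calc g * ⁅g⁻¹, n⁻¹⁆ * x = g * (⁅g⁻¹, n⁻¹⁆ * x) := by group
        _ = g * (x * ⁅g⁻¹, n⁻¹⁆) := by rw [hcx]
        _ = (g * x) * ⁅g⁻¹, n⁻¹⁆ := by group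
        _ = (x * g) * ⁅g⁻¹, n⁻¹⁆ := by rw [← hxg]
        _ = x * (g * ⁅g⁻¹, n⁻¹⁆) := by group
    calc n * x * n⁻¹ * g = n * (x * (n⁻¹ * g * n)) * n⁻¹ := by group
      _ = n * ((n⁻¹ * g * n) * x) * n⁻¹ := by rw [e2]
      _ = g * (n * x * n⁻¹) := by group

end Cfsg.Agent.Lib.Helper55.BGThirteen
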