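import Cfsg.Agent.Lib.Helper55.BGThirteenD

/-!
# Bender–Glauberman §12, towards statement S1421: an `r`-element `e` of `E` (`r` of rank one in
`M`) acting nontrivially on `A` with `Ω₁⟨e⟩` centralizing `A`
-/

set_option autoImplicit false
open Cfsg

namespace Cfsg.Agent.Lib.Helper55.BGThirteen

open Cfsg.Agent.Lib
open scoped commutatorElement

variable {G : Type*} [Group G]

theorem mem_normalizer_zpowers_of_commute {g x : G} (h : g * x = x * g) :
    g ∈ Subgroup.normalizer ((Subgroup.zpowers x : Subgroup G) : Set G) := by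
  have h1 : Subgroup.zpowers g ≤ Subgroup.normalizer ((Subgroup.zpowers x : Subgroup G) : Set G) := by
    apply Helper54.le_normalizer_of_conj_mem
    intro a ha y hy
    obtain ⟨m, rfl⟩ := Subgroup.mem_zpowers_iff.mp ha
    obtain ⟨n, rfl⟩ := Subgroup.mem_zpowers_iff.mp hy
    have hc : Commute (g ^ m) (x ^ n) := Commute.zpow_zpow h m n
    have h2 : g ^ m * x ^ n * (g ^ m)⁻¹ = x ^ n := by
      rw [hc.eq, mul_inv_cancel_right]
    rw [h2]
    exact Subgroup.zpow_mem_zpowers x n
  exact h1 (Subgroup.mem_zpowers g)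

/-- in a group of `r`-rank one, an element of order dividing `r` commuting with an element `x` of
order `r` is a power of `x` -/
theorem mem_zpowers_of_rank_one [Finite G] {M : Subgroup G} {r : ℕ} [Fact r.Prime]
    (hr1 : PRankLE r 1 M) {x b : G} (hxM : x ∈ M) (hbM : b ∈ M) (hx : orderOf x = r)
    (hb : b ^ r = 1) (hxb : x * b = b * x) : b ∈ Subgroup.zpowers x := by
  set T : Subgroup G := Subgroup.closure ({x, b} : Set G) with hT
  have hpair : ∀ u ∈ ({x, b} : Set G), ∀ v ∈ ({x, b} : Set G), u * v = v * u := by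
    intro u hu v hv
    rcases hu with rfl | hu <;> rcases hv with rfl | hv
    · rfl
    · rw [Set.mem_singleton_iff] at hv
      rw [hv]
      exact hxb
    · rw [Set.mem_singleton_iff] at hu
      rw [hu]
      exact hxb.symm
    · rw [Set.mem_singleton_iff] at hu hv
      rw [hu, hv]
  have hTc : ∀ u ∈ T, ∀ v ∈ T, u * v = v * u := closure_comm_of_comm _ hpair
  have hxr : x ^ r = 1 := by rw [← hx]; exact pow_orderOf_eq_one x
  have hTexp : ∀ u ∈ T, u ^ r = 1 := by
    intro u hu
    induction hu using Subgroup.closure_induction with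
    | mem y hy =>
      rcases hy with rfl | hy
      · exact hxr
      · rw [Set.mem_singleton_iff] at hy
        rw [hy]
        exact hb
    | one => exact one_pow r
    | mul y z hy hz ihy ihz =>
      have hc : Commute y z := hTc y hy z hz
      rw [hc.mul_pow, ihy, ihz, one_mul]
    | inv y _ ihy => rw [inv_pow, ihy, inv_one]
  have hTM : T ≤ M := by
    rw [hT, Subgroup.closure_le]
    intro u hu
    rcases hu with rfl | hu
    · exact hxM
    · rw [Set.mem_singleton_iff] at hu
      rw [hu]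
      exact hbM
  have hcard : Nat.card T ≤ r ^ 1 := card_le_of_pRankLE hTM hTc hTexp hr1
  have hxT : Subgroup.zpowers x ≤ T := by
    rw [Subgroup.zpowers_le]
    exact Subgroup.subset_closure (Set.mem_insert x _)
  have heq : Subgroup.zpowers x = T := by
    apply Subgroup.eq_of_le_of_card_ge hxT
    rw [Nat.card_zpowers, hx]
    simpa using hcard
  rw [heq]
  exact Subgroup.subset_closure (Set.mem_insert_of_mem x rfl)

/-- the maximal subgroup `L` above `N_G(Ω₁⟨e⟩)` -/
theorem exists_L [Finite G] (hG : IsMinSimpleOddOrder G) (M : Subgroup G) (hM : IsCoatom M)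
    (E : Subgroup G) (hE : IsComplIn E (sigmaCore M) M) (p : ℕ) [Fact p.Prime] (hp : p ∈ tau2 M)
    (A : Subgroup G) (hA : A ≤ E ∧ IsElementaryAbelian p A ∧ Nat.card A = p ^ 2)
    (S : Sylow p G) (hSc : IsMulCommutative (S : Subgroup G)) (hAS : A ≤ (S : Subgroup G))
    (r : ℕ) [Fact r.Prime] (hrp : r ≠ p) (e : G) (heE : e ∈ E) (n : ℕ)
    (he0 : e ^ r ^ n ≠ 1) (he0r : (e ^ r ^ n) ^ r = 1)
    (he0C : e ^ r ^ n ∈ Subgroup.centralizer (A : Set G)) :
    ∃ L : Subgroup G, IsCoatom L ∧ (S : Subgroup G) ≤ L ∧ e ∈ L ∧ (r ∈ sigma L ∨ r ∈ tau2 L) ∧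
      (p ∈ sigma L ∨ p ∈ tau2 L) ∧ PRankLE p 2 L := by
  have hU := Helper21.uniquenessThm_of hG
  have hpp : p.Prime := Fact.out
  have hrr : r.Prime := Fact.out
  obtain ⟨hSE, hΩ, hNS, hNC⟩ := ab_structure hG M hM E hE p hp A hA S hSc hAS
  obtain ⟨⟨hEN, -⟩, -, -⟩ := Cfsg.Agent.S1418.result hG M hM E hE p hp A hA
  have hEM : E ≤ M := hE.1
  have hSM : (S : Subgroup G) ≤ M := hSE.trans hEM
  have hpE : p ∣ Nat.card E := by
    have h1 : Nat.card A ∣ Nat.card E := Subgroup.card_dvd_of_le hA.1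
    rw [hA.2.2] at h1
    exact (dvd_pow_self p (by norm_num)).trans h1
  have hp2 : p ≠ 2 := (compl_prime_facts hG M hM E hE hpp hpE).2.2.2
  set e₀ : G := e ^ r ^ n with he₀
  have he₀E : e₀ ∈ E := pow_mem heE _
  have he₀NS : e₀ ∈ Subgroup.normalizer ((S : Subgroup G) : Set G) := hNS (hEN he₀E)
  have hord : orderOf e₀ = r := orderOf_eq_prime he0r he0
  have hcop : (orderOf e₀).Coprime p := by
    rw [hord]
    exact (Nat.coprime_primes hrr hpp).mpr hrp
  have hcent : ∀ x ∈ (S : Subgroup G), e₀ * x = x * e₀ :=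
    Helper24.centralizes_of_centralizes_omega p hp2 e₀ hcop (S : Subgroup G) S.isPGroup' he₀NS
      (fun x hx hxp => (Subgroup.mem_centralizer_iff.mp he0C x ((hΩ x hx).mp hxp)).symm)
  set R₀ : Subgroup G := Subgroup.zpowers e₀ with hR₀
  have hRr : IsPGroup r R₀ := by
    apply IsPGroup.of_card (n := 1)
    rw [hR₀, Nat.card_zpowers, hord, pow_one]
  have hR1 : R₀ ≠ ⊥ := Subgroup.zpowers_ne_bot.mpr he0
  have hNtop := Helper24.normalizer_ne_top_of_isPGroup hG hRr hR1
  obtain ⟨L, hL, hNL⟩ := (eq_top_or_exists_le_coatom _).resolve_left hNtop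
  have hSL : (S : Subgroup G) ≤ L := by
    intro s hs
    exact hNL (mem_normalizer_zpowers_of_commute (hcent s hs).symm)
  have heL : e ∈ L := by
    apply hNL
    apply mem_normalizer_zpowers_of_commute
    exact ((Commute.refl e).pow_right _).eq
  have hrL := Helper54.mem_sigma_or_tau2_of_normalizer_le hG hU L hL r R₀ hRr hR1 hNL
  have hp2L : PRankLE p 2 L := by
    apply Helper54.pRankLE_of_sylow_rel L (S.subtype hSL)
    have hPmap : ((S.subtype hSL : Sylow p L) : Subgroup L).map L.subtype = (S : Subgroup G) := by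
      rw [Sylow.coe_subtype, Subgroup.map_subgroupOf_eq_of_le hSL]
    rw [hPmap]
    exact Helper54.pRankLE_of_le hSM hp.2.2.1
  have hp1L : ¬ PRankLE p 1 L := by
    apply Helper54.not_pRankLE_of_elemAb (hAS.trans hSL)
      (fun x hx y hy => congrArg Subtype.val (hA.2.1.1.is_comm.comm ⟨x, hx⟩ ⟨y, hy⟩)) hA.2.1.2
    rw [hA.2.2]
    exact Nat.pow_lt_pow_right hpp.one_lt (by norm_num)
  refine ⟨L, hL, hSL, heL, hrL, ?_, hp2L⟩
  by_cases hpσ : p ∈ sigma L
  · exact Or.inl hpσ
  · exact Or.inr ⟨hpp, hpσ, hp2L, hp1L⟩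


theorem isPGroup_zpowers_of_pow_eq_one {r : ℕ} [Fact r.Prime] {e : G} {k : ℕ}
    (hek : e ^ r ^ k = 1) : IsPGroup r (Subgroup.zpowers e) := by
  rw [IsPGroup.iff_orderOf]
  rintro ⟨z, hz⟩
  obtain ⟨n, rfl⟩ := Subgroup.mem_zpowers_iff.mp hz
  have h1 : orderOf (⟨e ^ n, hz⟩ : Subgroup.zpowers e) ∣ r ^ k := by
    apply orderOf_dvd_of_pow_eq_one
    apply Subtype.ext
    show (e ^ n) ^ r ^ k = 1
    rw [← zpow_natCast, ← zpow_mul, mul_comm, zpow_mul, zpow_natCast, hek, one_zpow]
  obtain ⟨j, -, hj⟩ := (Nat.dvd_prime_pow Fact.out).mp h1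
  exact ⟨j, hj⟩

/-- **Case (i).** -/
theorem case_i [Finite G] (hG : IsMinSimpleOddOrder G) (M : Subgroup G) (hM : IsCoatom M)
    (E : Subgroup G) (hE : IsComplIn E (sigmaCore M) M) (p : ℕ) [Fact p.Prime] (hp : p ∈ tau2 M)
    (A : Subgroup G) (hA : A ≤ E ∧ IsElementaryAbelian p A ∧ Nat.card A = p ^ 2)
    (S : Sylow p G) (hSc : IsMulCommutative (S : Subgroup G)) (hAS : A ≤ (S : Subgroup G))
    (r : ℕ) [Fact r.Prime] (hr1 : PRankLE r 1 M) (hrp : r ≠ p) (e : G) (heE : e ∈ E) (n : ℕ)
    (hen : e ^ r ^ (n + 1) = 1) (he0 : e ^ r ^ n ≠ 1)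
    (he0C : e ^ r ^ n ∈ Subgroup.centralizer (A : Set G))
    (heC : e ∉ Subgroup.centralizer (A : Set G)) :
    ∃ X : Subgroup G, X ≤ A ∧ Nat.card X = p ∧
      Subgroup.normalizer (A : Set G) ≤ Subgroup.normalizer (X : Set G) := by
  have hpp : p.Prime := Fact.out
  have hrr : r.Prime := Fact.out
  have he0r : (e ^ r ^ n) ^ r = 1 := by
    rw [← pow_mul, ← pow_succ]
    exact hen
  obtain ⟨hSE, hΩ, hNS, hNC⟩ := ab_structure hG M hM E hE p hp A hA S hSc hAS
  obtain ⟨⟨hEN, -⟩, ⟨hCle, hMN, -⟩, -⟩ := Cfsg.Agent.S1418.result hG M hM E hE p hp A hA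
  have hEM : E ≤ M := hE.1
  have hCE : Subgroup.centralizer (A : Set G) ≤ E := by
    intro x hx
    rw [← hMN]
    exact hCle hx
  have hNSA : Subgroup.normalizer ((S : Subgroup G) : Set G) ≤ Subgroup.normalizer (A : Set G) :=
    Helper34.normalizer_le_normalizer_of_forall_mem hAS hA.2.1.2
      (fun y hy hyp => (hΩ y hy).mp hyp)
  obtain ⟨L, hL, hSL, heL, hrL, hpL, hp2L⟩ :=
    exists_L hG M hM E hE p hp A hA S hSc hAS r hrp e heE n he0 he0r he0C
  have hrank : ∀ B : Subgroup G, B ≤ Subgroup.centralizer (A : Set G) →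
      IsElementaryAbelian r B → Nat.card B = r ^ 2 → False := by
    intro B hBC hBe hBc
    apply Helper54.not_pRankLE_of_elemAb ((hBC.trans hCE).trans hEM)
      (fun x hx y hy => congrArg Subtype.val (hBe.1.is_comm.comm ⟨x, hx⟩ ⟨y, hy⟩)) hBe.2 _ hr1
    rw [hBc]
    exact Nat.pow_lt_pow_right hrr.one_lt (by norm_num)
  rcases hrL with hrσ | hrτ
  · rcases hpL with hpσ | hpτ
    · exfalso
      apply heC
      have h1 := sub2 hG L hL p hp2L (S : Subgroup G) S.isPGroup' hSL r hrp hrσ e heL (n + 1) hen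
        (hNS (hEN heE))
      rw [Subgroup.mem_centralizer_iff]
      intro a ha
      exact (h1 a (hAS ha)).symm
    · exfalso
      exact he0 (sub1 hG L hL p hpτ A (hAS.trans hSL) hA.2.1 hA.2.2 r hrσ _ (pow_mem heL _)
        he0r he0C)
  · rcases hpL with hpσ | hpτ
    · -- the main configuration
      obtain ⟨hLS, hPc⟩ := sub4a hG L hL p hpσ S hSL r hrτ
      have hLN : L ≤ Subgroup.normalizer (A : Set G) := hLS.trans hNSA
      have hzr : IsPGroup r (Subgroup.zpowers e) := isPGroup_zpowers_of_pow_eq_one hen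
      have hzL : Subgroup.zpowers e ≤ L := by
        rw [Subgroup.zpowers_le]
        exact heL
      obtain ⟨P, hP⟩ := Helper34.exists_sylow_map_ge hzr hzL
      set PL : Subgroup G := (P : Subgroup L).map L.subtype with hPL
      have hPLL : PL ≤ L := Subgroup.map_subtype_le _
      have hPLcomm : ∀ x ∈ PL, ∀ y ∈ PL, x * y = y * x := by
        rintro _ ⟨x, hx, rfl⟩ _ ⟨y, hy, rfl⟩
        have h1 := congrArg Subtype.val ((hPc P).is_comm.comm ⟨x, hx⟩ ⟨y, hy⟩)
        have h2 := congrArg L.subtype h1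
        simpa using h2
      have hPLr : ¬ PRankLE r 1 ↥PL := fun h => hrτ.2.2.2 (Helper54.pRankLE_of_sylow_rel L P h)
      obtain ⟨B, hBPL, hBe, hBc⟩ := Helper97.BGTwelve.exists_elemAb_sq_of_not_pRankLE_one PL hPLr
      have hBC : ¬ B ≤ Subgroup.centralizer (A : Set G) := fun h => hrank B h hBe hBc
      obtain ⟨b, hbB, hbC⟩ := SetLike.not_le_iff_exists.mp hBC
      have hbr1 : b ^ r = 1 := hBe.2 b hbB
      have hbPL : b ∈ PL := hBPL hbB
      have hb1 : b ≠ 1 := by
        rintro rfl
        exact hbC (one_mem _)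
      -- the element `f`
      have hex : ∃ j, e ^ r ^ j ∈ Subgroup.centralizer (A : Set G) := ⟨n, he0C⟩
      classical
      have hspec := Nat.find_spec hex
      have hmin : ∀ m, m < Nat.find hex → e ^ r ^ m ∉ Subgroup.centralizer (A : Set G) :=
        fun m hm => Nat.find_min hex hm
      set j := Nat.find hex with hj
      have hj0 : j ≠ 0 := by
        intro h0
        rw [h0, pow_zero, pow_one] at hspec
        exact heC hspec
      set f : G := e ^ r ^ (j - 1) with hf
      have hfC : f ∉ Subgroup.centralizer (A : Set G) := hmin (j - 1) (by omega)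
      have hfr : f ^ r ∈ Subgroup.centralizer (A : Set G) := by
        rw [hf, ← pow_mul, ← pow_succ]
        have : j - 1 + 1 = j := by omega
        rw [this]
        exact hspec
      have hfE : f ∈ E := pow_mem heE _
      have hfPL : f ∈ PL := hP (Subgroup.pow_mem _ (Subgroup.mem_zpowers e) _)
      have he₀PL : e ^ r ^ n ∈ PL := hP (Subgroup.pow_mem _ (Subgroup.mem_zpowers e) _)
      have hfb : f * b = b * f := hPLcomm f hfPL b hbPL
      have hfN : f ∈ Subgroup.normalizer (A : Set G) := hEN hfE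
      have hbN : b ∈ Subgroup.normalizer (A : Set G) := hLN (hPLL hbPL)
      have hbr : b ^ r ∈ Subgroup.centralizer (A : Set G) := by
        rw [hbr1]
        exact one_mem _
      rcases sub4b p A hA.2.1 hA.2.2 hNC r hrp f b hfN hbN hfb hfr hbr with h | ⟨i, j', hij, hg⟩
      · exact h
      · exfalso
        by_cases hj' : r ∣ j'
        · have hi : ¬ r ∣ i := fun hi => hij ⟨hi, hj'⟩
          have hbj1 : b ^ j' = 1 := by
            obtain ⟨t, rfl⟩ := hj'
            rw [pow_mul, hbr1, one_pow]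
          rw [hbj1, mul_one] at hg
          have hordf : orderOf f ∣ r ^ (n + 1) := by
            apply orderOf_dvd_of_pow_eq_one
            rw [hf, ← pow_mul, mul_comm, pow_mul, hen, one_pow]
          have hcop : i.Coprime (orderOf f) := by
            apply Nat.Coprime.coprime_dvd_right hordf
            apply Nat.Coprime.pow_right
            exact ((Nat.Prime.coprime_iff_not_dvd hrr).mpr hi).symm
          obtain ⟨m, hm⟩ := exists_pow_eq_self_of_coprime hcop
          apply hfC
          rw [← hm]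
          exact pow_mem hg m
        · have hbj : b ^ j' ∈ E := by
            have h1 : b ^ j' = (f ^ i)⁻¹ * (f ^ i * b ^ j') := by group
            rw [h1]
            exact mul_mem (inv_mem (pow_mem hfE i)) (hCE hg)
          have hordb : orderOf b = r := orderOf_eq_prime hbr1 hb1
          have hcop : j'.Coprime (orderOf b) := by
            rw [hordb]
            exact ((Nat.Prime.coprime_iff_not_dvd hrr).mpr hj').symm
          obtain ⟨m, hm⟩ := exists_pow_eq_self_of_coprime hcop
          have hbE : b ∈ E := by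
            rw [← hm]
            exact pow_mem hbj m
          have hord0 : orderOf (e ^ r ^ n) = r := orderOf_eq_prime he0r he0
          have hcomm0 : e ^ r ^ n * b = b * e ^ r ^ n := hPLcomm _ he₀PL b hbPL
          have hbz := mem_zpowers_of_rank_one hr1 (hEM (pow_mem heE _)) (hEM hbE) hord0 hbr1 hcomm0
          apply hbC
          have hzC : Subgroup.zpowers (e ^ r ^ n) ≤ Subgroup.centralizer (A : Set G) := by
            rw [Subgroup.zpowers_le]
            exact he0C
          exact hzC hbz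
    · exfalso
      obtain ⟨B, hBC, hBe, hBc⟩ := sub3 hG L hL p hpτ A (hAS.trans hSL) hA.2.1 hA.2.2 r hrp hrτ
      exact hrank B hBC hBe hBc

end Cfsg.Agent.Lib.Helper55.BGThirteen
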