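import Cfsg.Agent.Lib.Helper55.BGThirteenE
import Cfsg.Agent.Lib.Helper55.BGElevenD
import Cfsg.Agent.Lib.Helper1.FrobFixedC

/-!
# Bender–Glauberman §12, towards statement S1421: a regular element of prime order `r` of `E`
acting nontrivially on `A` forces an `E`-invariant point of `A`
-/

set_option autoImplicit false
open Cfsg

namespace Cfsg.Agent.Lib.Helper55.BGThirteen

open Cfsg.Agent.Lib
open scoped commutatorElement

variable {G : Type*} [Group G]

theorem card_eq_prime_of_ne [Finite G] {p : ℕ} [Fact p.Prime] {A X : Subgroup G}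
    (hAc : Nat.card A = p ^ 2) (hXA : X ≤ A) (hX1 : X ≠ ⊥) (hXA' : X ≠ A) : Nat.card X = p := by
  have hpp : p.Prime := Fact.out
  have h1 : Nat.card X ∣ p ^ 2 := hAc ▸ Subgroup.card_dvd_of_le hXA
  obtain ⟨k, hk2, hk⟩ := (Nat.dvd_prime_pow hpp).mp h1
  have hk0 : k ≠ 0 := by
    rintro rfl
    rw [pow_zero] at hk
    exact hX1 (Subgroup.card_eq_one.mp hk)
  have hk2' : k ≠ 2 := by
    rintro rfl
    exact hXA' (Subgroup.eq_of_le_of_card_ge hXA (by rw [hk, hAc]))
  have hk1 : k = 1 := by omega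
  rw [hk, hk1, pow_one]

theorem coprime_card_sigmaCore_compl [Finite G] (hG : IsMinSimpleOddOrder G) (M : Subgroup G)
    (hM : IsCoatom M) (E : Subgroup G) (hE : IsComplIn E (sigmaCore M) M) :
    (Nat.card (sigmaCore M)).Coprime (Nat.card E) := by
  have hU := Helper21.uniquenessThm_of hG
  have hHall := (Helper54.sigmaCore_hall_of hG hU M hM).1
  apply Nat.coprime_of_dvd
  intro k hk hk1 hk2
  exact Helper97.BGTwelve.not_dvd_card_of_isComplIn hE hHall hk
    (Helper54.sigmaCore_isPi M k hk hk1) hk2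

/-- a regular element `e₀` of prime order acting fixed-point-freely on `X ≤ E`: then `M_σ`
centralizes `X`. -/
theorem frob_centralizes [Finite G] (hG : IsMinSimpleOddOrder G) (M : Subgroup G)
    (hM : IsCoatom M) (E : Subgroup G) (hE : IsComplIn E (sigmaCore M) M) (r : ℕ)
    [Fact r.Prime] (e₀ : G) (he₀E : e₀ ∈ E) (hord : orderOf e₀ = r)
    (hreg : sigmaCore M ⊓ Subgroup.centralizer ({e₀} : Set G) = ⊥) (X : Subgroup G)
    (hXE : X ≤ E) (hX1 : X ≠ ⊥) (hXn : e₀ ∈ Subgroup.normalizer (X : Set G))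
    (hXf : X ⊓ Subgroup.centralizer ({e₀} : Set G) = ⊥) :
    sigmaCore M ≤ Subgroup.centralizer (X : Set G) := by
  have hrr : r.Prime := Fact.out
  set K : Subgroup G := sigmaCore M with hK
  set R : Subgroup G := Subgroup.zpowers e₀ with hR
  have hEM : E ≤ M := hE.1
  have he₀1 : e₀ ≠ 1 := by
    intro h
    rw [h, orderOf_one] at hord
    exact hrr.one_lt.ne' hord.symm
  have hR1 : R ≠ ⊥ := Subgroup.zpowers_ne_bot.mpr he₀1
  have hRE : R ≤ E := by
    rw [hR, Subgroup.zpowers_le]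
    exact he₀E
  have hRn : R ≤ Subgroup.normalizer (X : Set G) := by
    rw [hR, Subgroup.zpowers_le]
    exact hXn
  have hcommR : ∀ x ∈ R, x * e₀ = e₀ * x := by
    intro x hx
    obtain ⟨n, rfl⟩ := Subgroup.mem_zpowers_iff.mp hx
    exact ((Commute.refl e₀).zpow_left n).eq
  have hXR : X ⊓ R = ⊥ := by
    rw [eq_bot_iff]
    intro x hx
    obtain ⟨hxX, hxR⟩ := Subgroup.mem_inf.mp hx
    rw [← hXf]
    refine Subgroup.mem_inf.mpr ⟨hxX, ?_⟩
    rw [Subgroup.mem_centralizer_singleton_iff]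
    exact hcommR x hxR
  have hUn : ∀ e ∈ R, ∀ u ∈ X, e * u * e⁻¹ ∈ X := fun e he u hu =>
    (Subgroup.mem_normalizer_iff.mp (hRn he) u).mp hu
  have hfpf : ∀ e ∈ R, e ≠ 1 → ∀ u ∈ X, e * u = u * e → u = 1 := by
    intro e he he1 u hu hue
    have hle : Subgroup.zpowers e ≤ R := by
      rw [Subgroup.zpowers_le]
      exact he
    have hcardR : Nat.card R = r := by rw [hR, Nat.card_zpowers, hord]
    have hcarde : Nat.card (Subgroup.zpowers e) = r := by
      have h1 : Nat.card (Subgroup.zpowers e) ∣ r := hcardR ▸ Subgroup.card_dvd_of_le hle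
      rcases (Nat.dvd_prime hrr).mp h1 with h | h
      · exfalso
        have h2 := Subgroup.card_eq_one.mp h
        exact he1 (Subgroup.zpowers_eq_bot.mp h2)
      · exact h
    have heq : Subgroup.zpowers e = R :=
      Subgroup.eq_of_le_of_card_ge hle (by rw [hcardR, hcarde])
    have he₀e : e₀ ∈ Subgroup.zpowers e := by
      rw [heq]
      exact Subgroup.mem_zpowers e₀
    obtain ⟨m, hm⟩ := Subgroup.mem_zpowers_iff.mp he₀e
    have hc : Commute u e₀ := by
      rw [← hm]
      exact Commute.zpow_right hue.symm m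
    have h3 : u ∈ X ⊓ Subgroup.centralizer ({e₀} : Set G) := by
      refine Subgroup.mem_inf.mpr ⟨hu, ?_⟩
      rw [Subgroup.mem_centralizer_singleton_iff]
      exact hc.eq
    rw [hXf] at h3
    exact Subgroup.mem_bot.mp h3
  have hXRE : X ⊔ R ≤ E := sup_le hXE hRE
  have hMK : M ≤ Subgroup.normalizer (K : Set G) := Helper54.le_normalizer_sigmaCore M
  have hHn : ∀ x ∈ X ⊔ R, ∀ h ∈ K, x * h * x⁻¹ ∈ K := fun x hx h hh =>
    (Subgroup.mem_normalizer_iff.mp (hMK (hEM (hXRE hx))) h).mp hh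
  have hdisj : K ⊓ (X ⊔ R) = ⊥ := by
    rw [eq_bot_iff]
    have h1 : K ⊓ (X ⊔ R) ≤ E ⊓ K := by
      intro x hx
      obtain ⟨h1, h2⟩ := Subgroup.mem_inf.mp hx
      exact Subgroup.mem_inf.mpr ⟨hXRE h2, h1⟩
    rw [← hE.2.2.1]
    exact h1
  have hKtop : K ≠ ⊤ := by
    intro h
    have h1 : M = ⊤ := top_le_iff.mp (h ▸ Helper54.sigmaCore_le M)
    exact hM.1 h1
  have hsolv : Group.IsSolvable K := hG.2.2.2 K hKtop
  have hcop : Nat.Coprime (Nat.card K) (Nat.card ↥(X ⊔ R)) :=
    Nat.Coprime.coprime_dvd_right (Subgroup.card_dvd_of_le hXRE)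
      (coprime_card_sigmaCore_compl hG M hM E hE)
  have key := Helper1.FrobFixed.frobenius_fixed_point_formula X R K hX1 hR1 hXR hUn hfpf hHn hdisj
    hsolv hcop
  have hKR : K ⊓ Subgroup.centralizer (R : Set G) = ⊥ := by
    rw [eq_bot_iff, ← hreg]
    intro x hx
    obtain ⟨h1, h2⟩ := Subgroup.mem_inf.mp hx
    refine Subgroup.mem_inf.mpr ⟨h1, ?_⟩
    rw [Subgroup.mem_centralizer_singleton_iff]
    exact (Subgroup.mem_centralizer_iff.mp h2 e₀ (Subgroup.mem_zpowers e₀)).symm
  rw [hKR, Subgroup.card_bot, one_pow, one_mul] at key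
  have hpos : 0 < Nat.card ↥(K ⊓ Subgroup.centralizer ((X ⊔ R : Subgroup G) : Set G)) ^ Nat.card R :=
    pow_pos Nat.card_pos _
  have hle : Nat.card K ≤ Nat.card ↥(K ⊓ Subgroup.centralizer (X : Set G)) := by
    rw [← key]
    exact Nat.le_mul_of_pos_left _ hpos
  have heq : K ⊓ Subgroup.centralizer (X : Set G) = K :=
    Subgroup.eq_of_le_of_card_ge inf_le_left hle
  rw [← heq]
  exact inf_le_right


/-- **Case (ii).** -/
theorem case_ii [Finite G] (hG : IsMinSimpleOddOrder G) (M : Subgroup G) (hM : IsCoatom M)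
    (E : Subgroup G) (hE : IsComplIn E (sigmaCore M) M) (p : ℕ) [Fact p.Prime] (hp : p ∈ tau2 M)
    (A : Subgroup G) (hA : A ≤ E ∧ IsElementaryAbelian p A ∧ Nat.card A = p ^ 2)
    (r : ℕ) [Fact r.Prime] (hrp : r ≠ p) (e₀ : G) (he₀E : e₀ ∈ E) (hord : orderOf e₀ = r)
    (hreg : sigmaCore M ⊓ Subgroup.centralizer ({e₀} : Set G) = ⊥)
    (he₀C : e₀ ∉ Subgroup.centralizer (A : Set G)) :
    ∃ X : Subgroup G, X ≤ A ∧ Nat.card X = p ∧ E ≤ Subgroup.normalizer (X : Set G) := by
  have hpp : p.Prime := Fact.out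
  have hrr : r.Prime := Fact.out
  have hU := Helper21.uniquenessThm_of hG
  set K : Subgroup G := sigmaCore M with hK
  have hK1 : K ≠ ⊥ := BGEleven.sigmaCore_ne_bot hG hU M hM
  have hEM : E ≤ M := hE.1
  have hAM : A ≤ M := hA.1.trans hEM
  obtain ⟨-, -, -, h17d, -, -⟩ :=
    Cfsg.Agent.S1417.result hG M hM p hp A ⟨hAM, hA.2.1, hA.2.2⟩
  obtain ⟨⟨hEN, -⟩, -, -⟩ := Cfsg.Agent.S1418.result hG M hM E hE p hp A hA
  have hA1 : A ≠ ⊥ := by
    intro h
    have h1 := hA.2.2
    rw [h, Subgroup.card_bot] at h1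
    have : 1 < p ^ 2 := Nat.one_lt_pow (by norm_num) hpp.one_lt
    omega
  have hAcomm : ∀ x ∈ A, ∀ y ∈ A, x * y = y * x :=
    fun x hx y hy => congrArg Subtype.val (hA.2.1.1.is_comm.comm ⟨x, hx⟩ ⟨y, hy⟩)
  have he₀N : e₀ ∈ Subgroup.normalizer (A : Set G) := hEN he₀E
  -- a nontrivial subgroup of `A` centralized by `K`
  have hstep : ∃ X : Subgroup G, X ≤ A ∧ X ≠ ⊥ ∧ K ≤ Subgroup.centralizer (X : Set G) := by
    by_cases hA₁ : A ⊓ Subgroup.centralizer ({e₀} : Set G) = ⊥
    · exact ⟨A, le_rfl, hA1,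
        frob_centralizes hG M hM E hE r e₀ he₀E hord hreg A hA.1 hA1 he₀N hA₁⟩
    · set A₁ : Subgroup G := A ⊓ Subgroup.centralizer ({e₀} : Set G) with hA₁def
      set R : Subgroup G := Subgroup.zpowers e₀ with hR
      have hRA : R ≤ Subgroup.normalizer (A : Set G) := by
        rw [hR, Subgroup.zpowers_le]
        exact he₀N
      have hcommR : ∀ x ∈ R, x * e₀ = e₀ * x := by
        intro x hx
        obtain ⟨n, rfl⟩ := Subgroup.mem_zpowers_iff.mp hx
        exact ((Commute.refl e₀).zpow_left n).eq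
      have hcopR : (Nat.card R).Coprime p := by
        rw [hR, Nat.card_zpowers, hord]
        exact (Nat.coprime_primes hrr hpp).mpr hrp
      have hcomm : ∀ x y : ↥A, x * y = y * x := fun x y => hA.2.1.1.is_comm.comm x y
      have hexp : ∀ x : ↥A, x ^ p = 1 := by
        intro x
        apply Subtype.ext
        simpa using hA.2.1.2 x x.2
      have hinv : ∀ a : ↥R, ∀ u ∈ A₁.subgroupOf A,
          Helper24.conjOn R A hRA a u ∈ A₁.subgroupOf A := by
        intro a u hu
        rw [Subgroup.mem_subgroupOf] at hu ⊢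
        rw [Helper24.conjOn_apply]
        obtain ⟨-, hu2⟩ := Subgroup.mem_inf.mp hu
        rw [Subgroup.mem_centralizer_singleton_iff] at hu2
        refine Subgroup.mem_inf.mpr ⟨(Subgroup.mem_normalizer_iff.mp (hRA a.2) u).mp u.2, ?_⟩
        rw [Subgroup.mem_centralizer_singleton_iff]
        have ha := hcommR a a.2
        calc (a : G) * u * (a : G)⁻¹ * e₀ = (a : G) * u * ((a : G)⁻¹ * e₀) := by group
          _ = (a : G) * u * (e₀ * (a : G)⁻¹) := by
              have : (a : G)⁻¹ * e₀ = e₀ * (a : G)⁻¹ := by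
                calc (a : G)⁻¹ * e₀ = (a : G)⁻¹ * (e₀ * (a : G)) * (a : G)⁻¹ := by group
                  _ = (a : G)⁻¹ * ((a : G) * e₀) * (a : G)⁻¹ := by rw [ha]
                  _ = e₀ * (a : G)⁻¹ := by group
              rw [this]
          _ = (a : G) * ((u : G) * e₀) * (a : G)⁻¹ := by group
          _ = (a : G) * (e₀ * (u : G)) * (a : G)⁻¹ := by rw [hu2]
          _ = ((a : G) * e₀) * u * (a : G)⁻¹ := by group
          _ = (e₀ * (a : G)) * u * (a : G)⁻¹ := by rw [ha]
          _ = e₀ * ((a : G) * u * (a : G)⁻¹) := by group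
      obtain ⟨U', hU'inv, hinf, hsup⟩ := Helper24.exists_invariant_compl (V := ↥A) p hcomm hexp
        (Helper24.conjOn R A hRA) hcopR (A₁.subgroupOf A) hinv
      refine ⟨U'.map A.subtype, Subgroup.map_subtype_le _, ?_, ?_⟩
      · intro h0
        have hU'bot : U' = ⊥ :=
          (Subgroup.map_eq_bot_iff_of_injective U' A.subtype_injective).mp h0
        rw [hU'bot, sup_bot_eq] at hsup
        apply he₀C
        rw [Subgroup.mem_centralizer_iff]
        intro a ha
        have h1 : (⟨a, ha⟩ : ↥A) ∈ A₁.subgroupOf A := by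
          rw [hsup]
          exact Subgroup.mem_top _
        rw [Subgroup.mem_subgroupOf] at h1
        have h2 := (Subgroup.mem_inf.mp h1).2
        rw [Subgroup.mem_centralizer_singleton_iff] at h2
        exact h2
      · apply frob_centralizes hG M hM E hE r e₀ he₀E hord hreg
        · exact (Subgroup.map_subtype_le _).trans hA.1
        · intro h0
          have hU'bot : U' = ⊥ :=
            (Subgroup.map_eq_bot_iff_of_injective U' A.subtype_injective).mp h0
          rw [hU'bot, sup_bot_eq] at hsup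
          apply he₀C
          rw [Subgroup.mem_centralizer_iff]
          intro a ha
          have h1 : (⟨a, ha⟩ : ↥A) ∈ A₁.subgroupOf A := by
            rw [hsup]
            exact Subgroup.mem_top _
          rw [Subgroup.mem_subgroupOf] at h1
          have h2 := (Subgroup.mem_inf.mp h1).2
          rw [Subgroup.mem_centralizer_singleton_iff] at h2
          exact h2
        · have h1 : R ≤ Subgroup.normalizer ((U'.map A.subtype : Subgroup G) : Set G) := by
            apply Helper54.le_normalizer_of_conj_mem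
            rintro a ha _ ⟨u, hu, rfl⟩
            exact ⟨Helper24.conjOn R A hRA ⟨a, ha⟩ u, hU'inv ⟨a, ha⟩ u hu, rfl⟩
          exact h1 (Subgroup.mem_zpowers e₀)
        · rw [eq_bot_iff]
          rintro x hx
          obtain ⟨⟨u, hu, rfl⟩, hx2⟩ := Subgroup.mem_inf.mp hx
          have h1 : u ∈ A₁.subgroupOf A ⊓ U' := by
            refine Subgroup.mem_inf.mpr ⟨?_, hu⟩
            rw [Subgroup.mem_subgroupOf]
            exact Subgroup.mem_inf.mpr ⟨u.2, hx2⟩
          rw [hinf, Subgroup.mem_bot] at h1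
          rw [h1]
          exact Subgroup.one_mem _
  obtain ⟨X, hXA, hX1, hKX⟩ := hstep
  -- `A ∩ C_G(K)`
  set A₀ : Subgroup G := A ⊓ Subgroup.centralizer (K : Set G) with hA₀
  have hXA₀ : X ≤ A₀ := by
    intro x hx
    refine Subgroup.mem_inf.mpr ⟨hXA hx, ?_⟩
    rw [Subgroup.mem_centralizer_iff]
    intro k hk
    exact (Subgroup.mem_centralizer_iff.mp (hKX hk) x hx).symm
  have hA₀1 : A₀ ≠ ⊥ := by
    intro h
    apply hX1
    rw [eq_bot_iff, ← h]
    exact hXA₀
  have hA₀A : A₀ ≠ A := by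
    intro h
    apply hK1
    rw [eq_bot_iff, ← h17d]
    intro k hk
    refine Subgroup.mem_inf.mpr ⟨hk, ?_⟩
    rw [Subgroup.mem_centralizer_iff]
    intro a ha
    rw [← h] at ha
    exact (Subgroup.mem_centralizer_iff.mp (Subgroup.mem_inf.mp ha).2 k hk).symm
  refine ⟨A₀, inf_le_left, card_eq_prime_of_ne hA.2.2 inf_le_left hA₀1 hA₀A, ?_⟩
  apply Helper54.le_normalizer_of_conj_mem
  intro g hg x hx
  obtain ⟨hxA, hxK⟩ := Subgroup.mem_inf.mp hx
  refine Subgroup.mem_inf.mpr ⟨(Subgroup.mem_normalizer_iff.mp (hEN hg) x).mp hxA, ?_⟩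
  rw [Subgroup.mem_centralizer_iff]
  intro k hk
  have hMK : M ≤ Subgroup.normalizer (K : Set G) := Helper54.le_normalizer_sigmaCore M
  have hk' : g⁻¹ * k * g⁻¹⁻¹ ∈ K :=
    (Subgroup.mem_normalizer_iff.mp (hMK (M.inv_mem (hEM hg))) k).mp hk
  rw [inv_inv] at hk'
  have hc : (g⁻¹ * k * g) * x = x * (g⁻¹ * k * g) := Subgroup.mem_centralizer_iff.mp hxK _ hk'
  calc k * (g * x * g⁻¹) = g * ((g⁻¹ * k * g) * x) * g⁻¹ := by group
    _ = g * (x * (g⁻¹ * k * g)) * g⁻¹ := by rw [hc]
    _ = g * x * g⁻¹ * k := by group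

end Cfsg.Agent.Lib.Helper55.BGThirteen
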