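import Cfsg.Agent.Lib.Helper55.BGThirteenG
import Cfsg.Agent.S3775

/-!
# Bender–Glauberman §12, towards statement S1421: the invariant cyclic subgroup `Y` of the
abelian Sylow `p`-subgroup with regular socle
-/

set_option autoImplicit false
open Cfsg

namespace Cfsg.Agent.Lib.Helper55.BGThirteen

open Cfsg.Agent.Lib
open scoped commutatorElement Pointwise

variable {G : Type*} [Group G]

/-- an exponent-`p` subgroup of a cyclic subgroup has order at most `p` -/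
theorem card_le_of_le_cyclic [Finite G] {p : ℕ} [Fact p.Prime] {A Y : Subgroup G} (hAY : A ≤ Y)
    (hY : IsCyclic Y) (hAexp : ∀ a ∈ A, a ^ p = 1) : Nat.card A ≤ p := by
  have hpp : p.Prime := Fact.out
  have h1 : IsCyclic (A.subgroupOf Y) := inferInstance
  have h2 : IsCyclic A :=
    isCyclic_of_surjective (Subgroup.subgroupOfEquivOfLe hAY) (Subgroup.subgroupOfEquivOfLe hAY).surjective
  obtain ⟨g, hg⟩ := h2.exists_generator
  have h3 : Nat.card A = orderOf g := (orderOf_eq_card_of_forall_mem_zpowers hg).symm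
  have h4 : g ^ p = 1 := by
    apply Subtype.ext
    simpa using hAexp g g.2
  rw [h3]
  exact Nat.le_of_dvd hpp.pos (orderOf_dvd_of_pow_eq_one h4)

/-- a power of order `p` of a nonidentity element of a `p`-group -/
theorem exists_pow_orderOf_eq [Finite G] {p : ℕ} [Fact p.Prime] {S : Subgroup G}
    (hS : IsPGroup p S) {y : G} (hyS : y ∈ S) (hy1 : y ≠ 1) : ∃ k : ℕ, orderOf (y ^ k) = p := by
  have hpp : p.Prime := Fact.out
  obtain ⟨q, hq, hqd, hqo⟩ := exists_pow_orderOf_eq_prime y hy1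
  obtain ⟨m, hm⟩ := (IsPGroup.iff_orderOf.mp hS) ⟨y, hyS⟩
  rw [Subgroup.orderOf_mk] at hm
  rw [hm] at hqd
  have hqp : q = p := (Nat.prime_dvd_prime_iff_eq hq hpp).mp (hq.dvd_of_dvd_pow hqd)
  exact ⟨orderOf y / q, hqp ▸ hqo⟩

/-- the socle `Y ∩ A` of a nontrivial cyclic subgroup `Y` of `S` has order `p` -/
theorem point_card [Finite G] {p : ℕ} [Fact p.Prime] {S A Y : Subgroup G} (hS : IsPGroup p S)
    (hΩ : ∀ x ∈ S, x ^ p = 1 ↔ x ∈ A) (hAc : Nat.card A = p ^ 2) (hYS : Y ≤ S)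
    (hY : IsCyclic Y) (hY1 : Y ≠ ⊥) : Nat.card ↥(Y ⊓ A) = p := by
  have hpp : p.Prime := Fact.out
  apply card_eq_prime_of_ne hAc inf_le_right
  · obtain ⟨y, hy1⟩ := (Subgroup.ne_bot_iff_exists_ne_one).mp hY1
    have hy1' : (y : G) ≠ 1 := fun h => hy1 (Subtype.ext h)
    obtain ⟨k, hk⟩ := exists_pow_orderOf_eq hS (hYS y.2) hy1'
    intro h0
    have hzY : (y : G) ^ k ∈ Y := pow_mem y.2 k
    have hzp : ((y : G) ^ k) ^ p = 1 := by
      rw [← hk]
      exact pow_orderOf_eq_one _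
    have hz : (y : G) ^ k ∈ Y ⊓ A := Subgroup.mem_inf.mpr ⟨hzY, (hΩ _ (hYS hzY)).mp hzp⟩
    rw [h0, Subgroup.mem_bot] at hz
    rw [hz, orderOf_one] at hk
    exact hpp.one_lt.ne' hk.symm
  · intro h0
    have hAY : A ≤ Y := by
      rw [← h0]
      exact inf_le_left
    have hAS : A ≤ S := hAY.trans hYS
    have h1 := card_le_of_le_cyclic hAY hY (fun a ha => (hΩ a (hAS ha)).mpr ha)
    rw [hAc] at h1
    have h2 : p ^ 1 < p ^ 2 := Nat.pow_lt_pow_right hpp.one_lt (by norm_num)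
    rw [pow_one] at h2
    omega

/-- if the socle of `Y` is regular, so is every nonidentity element of `Y` -/
theorem regular_of_point [Finite G] {p : ℕ} [Fact p.Prime] {S A Y K : Subgroup G}
    (hS : IsPGroup p S) (hΩ : ∀ x ∈ S, x ^ p = 1 ↔ x ∈ A) (hAc : Nat.card A = p ^ 2)
    (hYS : Y ≤ S) (hY : IsCyclic Y)
    (hreg : K ⊓ Subgroup.centralizer ((Y ⊓ A : Subgroup G) : Set G) = ⊥) :
    ∀ y ∈ Y, y ≠ 1 → K ⊓ Subgroup.centralizer ({y} : Set G) = ⊥ := by
  have hpp : p.Prime := Fact.out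
  intro y hyY hy1
  have hY1 : Y ≠ ⊥ := by
    intro h
    rw [h, Subgroup.mem_bot] at hyY
    exact hy1 hyY
  have hcard := point_card hS hΩ hAc hYS hY hY1
  obtain ⟨k, hk⟩ := exists_pow_orderOf_eq hS (hYS hyY) hy1
  have hzY : y ^ k ∈ Y := pow_mem hyY k
  have hzp : (y ^ k) ^ p = 1 := by
    rw [← hk]
    exact pow_orderOf_eq_one _
  have hz : y ^ k ∈ Y ⊓ A := Subgroup.mem_inf.mpr ⟨hzY, (hΩ _ (hYS hzY)).mp hzp⟩
  have hzle : Subgroup.zpowers (y ^ k) ≤ Y ⊓ A := by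
    rw [Subgroup.zpowers_le]
    exact hz
  have heq : Subgroup.zpowers (y ^ k) = Y ⊓ A :=
    Subgroup.eq_of_le_of_card_ge hzle (by rw [hcard, Nat.card_zpowers, hk])
  rw [eq_bot_iff, ← hreg]
  intro g hg
  obtain ⟨hgK, hgy⟩ := Subgroup.mem_inf.mp hg
  rw [Subgroup.mem_centralizer_singleton_iff] at hgy
  refine Subgroup.mem_inf.mpr ⟨hgK, ?_⟩
  rw [Subgroup.mem_centralizer_iff]
  intro x hx
  rw [SetLike.mem_coe, ← heq] at hx
  obtain ⟨n, rfl⟩ := Subgroup.mem_zpowers_iff.mp hx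
  have hc : Commute g (y ^ k) := Commute.pow_right hgy k
  exact ((hc.zpow_right n).eq).symm


/-- **Decomposition of the abelian Sylow subgroup** into two `U`-invariant factors, given a
`U`-invariant point of `A = Ω₁(S)`. -/
theorem exists_decomp [Finite G] {p : ℕ} [Fact p.Prime] (S : Sylow p G)
    (hSc : IsMulCommutative (S : Subgroup G)) (A : Subgroup G) (hAS : A ≤ (S : Subgroup G))
    (hΩ : ∀ x ∈ (S : Subgroup G), x ^ p = 1 ↔ x ∈ A) (hAc : Nat.card A = p ^ 2)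
    (U : Subgroup G) (hSU : (S : Subgroup G) ≤ U)
    (hUS : U ≤ Subgroup.normalizer ((S : Subgroup G) : Set G))
    (X : Subgroup G) (hXA : X ≤ A) (hXc : Nat.card X = p)
    (hUX : U ≤ Subgroup.normalizer (X : Set G)) :
    ∃ B C : Subgroup G, B ≤ (S : Subgroup G) ∧ C ≤ (S : Subgroup G) ∧ B ≠ ⊥ ∧ C ≠ ⊥ ∧
      U ≤ Subgroup.normalizer (B : Set G) ∧ U ≤ Subgroup.normalizer (C : Set G) ∧ B ⊓ C = ⊥ ∧
      ∀ s ∈ (S : Subgroup G), ∃ b ∈ B, ∃ c ∈ C, s = b * c := by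
  classical
  have hpp : p.Prime := Fact.out
  set S₀ : Subgroup G := (S : Subgroup G) with hS₀
  have hScomm : ∀ x ∈ S₀, ∀ y ∈ S₀, x * y = y * x :=
    fun x hx y hy => congrArg Subtype.val (hSc.is_comm.comm ⟨x, hx⟩ ⟨y, hy⟩)
  let _ : CommGroup ↥S₀ :=
    { (inferInstance : Group ↥S₀) with mul_comm := fun a b => hSc.is_comm.comm a b }
  set ρ := Helper24.conjOn U S₀ hUS with hρ
  set Xa : Subgroup (MulAut ↥S₀) := ρ.range with hXa
  have hker : S₀.subgroupOf U ≤ ρ.ker := by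
    intro s hs
    rw [Subgroup.mem_subgroupOf] at hs
    rw [MonoidHom.mem_ker]
    ext v
    rw [hρ, Helper24.conjOn_apply, MulAut.one_apply]
    rw [hScomm _ hs _ v.2, mul_inv_cancel_right]
  have hcop : (Nat.card Xa).Coprime p := by
    have h1 : Nat.card Xa = ρ.ker.index := (Subgroup.index_ker ρ).symm
    have h2 : ρ.ker.index ∣ (S₀.subgroupOf U).index := Subgroup.index_dvd_of_le hker
    have h3 : (S₀.subgroupOf U).index ∣ S₀.index :=
      Dvd.intro _ (Subgroup.relIndex_mul_index hSU)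
    have h4 : ¬ p ∣ S₀.index := S.not_dvd_index
    rw [h1]
    exact ((Nat.Prime.coprime_iff_not_dvd hpp).mpr (fun h => h4 (h.trans (h2.trans h3)))).symm
  obtain ⟨h12, h23⟩ := Cfsg.Agent.S3775.result (A := ↥S₀) (p := p) S.isPGroup' Xa hcop
  -- the invariant subgroup coming from `X`
  set XS : Subgroup ↥S₀ := X.subgroupOf S₀ with hXS
  have hXS₀ : X ≤ S₀ := hXA.trans hAS
  have hXSinv : ∀ x ∈ Xa, XS.map x.toMonoidHom = XS := by
    rintro _ ⟨u, rfl⟩
    ext v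
    constructor
    · rintro ⟨w, hw, rfl⟩
      have hw' : (w : G) ∈ X := Subgroup.mem_subgroupOf.mp hw
      show (ρ u) w ∈ XS
      rw [hXS, Subgroup.mem_subgroupOf, hρ, Helper24.conjOn_apply]
      exact (Subgroup.mem_normalizer_iff.mp (hUX u.2) w).mp hw'
    · intro hv
      have hv' : (v : G) ∈ X := Subgroup.mem_subgroupOf.mp hv
      refine ⟨(ρ u).symm v, ?_, ?_⟩
      · show (ρ u).symm v ∈ XS
        rw [hXS, Subgroup.mem_subgroupOf]
        show (u : G)⁻¹ * v * (u : G) ∈ X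
        have h1 := (Subgroup.mem_normalizer_iff.mp (hUX (U.inv_mem u.2)) v).mp hv'
        rwa [inv_inv] at h1
      · exact MulEquiv.apply_symm_apply (ρ u) v
  have hXSexp : ∀ b ∈ XS, b ^ p = 1 := by
    intro b hb
    rw [hXS, Subgroup.mem_subgroupOf] at hb
    apply Subtype.ext
    have := (hΩ b b.2).mpr (hXA hb)
    simpa using this
  have hn3 : ¬ (∀ B : Subgroup ↥S₀, (∀ x ∈ Xa, B.map x.toMonoidHom = B) →
      (∀ b ∈ B, b ^ p = 1) → B = ⊥ ∨ ∀ a : ↥S₀, a ∈ B ↔ a ^ p = 1) := by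
    intro h
    rcases h XS hXSinv hXSexp with h0 | h0
    · have hX0 : X = ⊥ := by
        rw [eq_bot_iff]
        intro x hx
        have h1 : (⟨x, hXS₀ hx⟩ : ↥S₀) ∈ XS := by
          rw [hXS, Subgroup.mem_subgroupOf]
          exact hx
        rw [h0, Subgroup.mem_bot] at h1
        rw [Subgroup.mem_bot]
        exact congrArg Subtype.val h1
      rw [hX0, Subgroup.card_bot] at hXc
      exact hpp.one_lt.ne' hXc.symm
    · have hAX : ¬ A ≤ X := by
        intro hle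
        have h1 := Subgroup.card_le_of_le hle
        rw [hAc, hXc] at h1
        have h2 : p ^ 1 < p ^ 2 := Nat.pow_lt_pow_right hpp.one_lt (by norm_num)
        rw [pow_one] at h2
        omega
      obtain ⟨a, haA, haX⟩ := SetLike.not_le_iff_exists.mp hAX
      apply haX
      have h1 : (⟨a, hAS haA⟩ : ↥S₀) ∈ XS := by
        rw [h0]
        apply Subtype.ext
        have := (hΩ a (hAS haA)).mpr haA
        simpa using this
      rw [hXS, Subgroup.mem_subgroupOf] at h1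
      exact h1
  have hex : ∃ B C : Subgroup ↥S₀, B ≠ ⊥ ∧ C ≠ ⊥ ∧ (∀ x ∈ Xa, B.map x.toMonoidHom = B) ∧
      (∀ x ∈ Xa, C.map x.toMonoidHom = C) ∧ B ⊓ C = ⊥ ∧ B ⊔ C = ⊤ := by
    by_contra hcon
    exact hn3 (h23.mp (h12.mp hcon))
  obtain ⟨B, C, hB1, hC1, hBinv, hCinv, hBC, hBCtop⟩ := hex
  have hnorm : ∀ D : Subgroup ↥S₀, (∀ x ∈ Xa, D.map x.toMonoidHom = D) →
      U ≤ Subgroup.normalizer ((D.map S₀.subtype : Subgroup G) : Set G) := by
    intro D hD
    apply Helper54.le_normalizer_of_conj_mem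
    rintro u hu _ ⟨d, hd, rfl⟩
    have h1 : (ρ ⟨u, hu⟩) d ∈ D.map (ρ ⟨u, hu⟩).toMonoidHom := ⟨d, hd, rfl⟩
    rw [hD _ ⟨⟨u, hu⟩, rfl⟩] at h1
    exact ⟨(ρ ⟨u, hu⟩) d, h1, rfl⟩
  refine ⟨B.map S₀.subtype, C.map S₀.subtype, Subgroup.map_subtype_le _,
    Subgroup.map_subtype_le _, ?_, ?_, hnorm B hBinv, hnorm C hCinv, ?_, ?_⟩
  · rw [Ne, Subgroup.map_eq_bot_iff_of_injective _ S₀.subtype_injective]
    exact hB1
  · rw [Ne, Subgroup.map_eq_bot_iff_of_injective _ S₀.subtype_injective]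
    exact hC1
  · rw [eq_bot_iff]
    rintro x hx
    obtain ⟨⟨b, hb, rfl⟩, ⟨c, hc, hcb⟩⟩ := Subgroup.mem_inf.mp hx
    have hcb' : c = b := Subtype.ext hcb
    rw [hcb'] at hc
    have h1 : b ∈ B ⊓ C := Subgroup.mem_inf.mpr ⟨hb, hc⟩
    rw [hBC, Subgroup.mem_bot] at h1
    rw [h1]
    exact Subgroup.one_mem _
  · intro s hs
    have h1 : (⟨s, hs⟩ : ↥S₀) ∈ B ⊔ C := by
      rw [hBCtop]
      exact Subgroup.mem_top _
    obtain ⟨b, hb, c, hc, hbc⟩ := Subgroup.mem_sup.mp h1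
    refine ⟨b, ⟨b, hb, rfl⟩, c, ⟨c, hc, rfl⟩, ?_⟩
    have := congrArg Subtype.val hbc
    simpa using this.symm


/-- a subgroup containing the derived subgroup is normal -/
theorem le_normalizer_of_commutator_le {N E : Subgroup G} (hEN : E ≤ N) (h : ⁅N, N⁆ ≤ E) :
    N ≤ Subgroup.normalizer (E : Set G) := by
  apply Helper54.le_normalizer_of_conj_mem
  intro n hn x hx
  have h1 : ⁅n, x⁆ ∈ E := h (Subgroup.commutator_mem_commutator hn (hEN hx))
  have h2 : n * x * n⁻¹ = ⁅n, x⁆ * x := by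
    rw [commutatorElement_def]
    group
  rw [h2]
  exact mul_mem h1 hx

/-- a subgroup of `E` of order prime to the index of the normal subgroup `U` of `E` lies in `U` -/
theorem le_of_coprime_relIndex [Finite G] {U E Y : Subgroup G} (hUE : U ≤ E)
    (hEU : E ≤ Subgroup.normalizer (U : Set G)) (hYE : Y ≤ E)
    (hcop : (Nat.card Y).Coprime (U.relIndex E)) : Y ≤ U := by
  have hn : (U.subgroupOf E).Normal := (Subgroup.normal_subgroupOf_iff_le_normalizer hUE).mpr hEU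
  have hcop' : (Nat.card (Y.subgroupOf E)).Coprime (U.subgroupOf E).index := by
    rw [Nat.card_congr (Subgroup.subgroupOfEquivOfLe hYE).toEquiv]
    exact hcop
  have h1 := Helper54.le_of_normal_of_coprime_index (U.subgroupOf E) hcop'
  intro y hy
  have h2 : (⟨y, hYE hy⟩ : ↥E) ∈ Y.subgroupOf E := Subgroup.mem_subgroupOf.mpr hy
  exact Subgroup.mem_subgroupOf.mp (h1 h2)

/-- a normal Hall subgroup is normalized by the normalizer of the ambient subgroup -/
theorem normalizer_le_of_normal_hall [Finite G] {U E : Subgroup G} (hUE : U ≤ E)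
    (hEU : E ≤ Subgroup.normalizer (U : Set G)) (hcop : (Nat.card U).Coprime (U.relIndex E)) :
    Subgroup.normalizer (E : Set G) ≤ Subgroup.normalizer (U : Set G) := by
  intro n hn
  rw [Helper54.mem_normalizer_iff_conj_smul] at hn ⊢
  apply Subgroup.eq_of_le_of_card_ge
  · apply le_of_coprime_relIndex hUE hEU
    · have := Helper54.conj_smul_le_conj_smul (g := n) hUE
      rwa [hn] at this
    · rw [Helper54.card_conj_smul]
      exact hcop
  · rw [Helper54.card_conj_smul]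

theorem cyclic_of_decomp [Finite G] {p : ℕ} [Fact p.Prime] (hp2 : p ≠ 2) {S A B C : Subgroup G}
    (hS : IsPGroup p S) (hΩ : ∀ x ∈ S, x ^ p = 1 ↔ x ∈ A) (hAc : Nat.card A = p ^ 2)
    (hBS : B ≤ S) (hCS : C ≤ S) (hBC : B ⊓ C = ⊥) (hC1 : C ≠ ⊥) : IsCyclic B := by
  have hpp : p.Prime := Fact.out
  by_contra hnc
  obtain ⟨F, hFB, -, hFe, hFcard⟩ :=
    Helper54.exists_elemAb_sq_of_not_isCyclic hp2 B (hS.to_le hBS) hnc
  have hFA : F ≤ A := fun x hx => (hΩ x (hBS (hFB hx))).mp (hFe x hx)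
  have hFeq : F = A := Subgroup.eq_of_le_of_card_ge hFA (by rw [hAc]; exact hFcard)
  have hAB : A ≤ B := hFeq ▸ hFB
  obtain ⟨c, hc1⟩ := (Subgroup.ne_bot_iff_exists_ne_one).mp hC1
  have hc1' : (c : G) ≠ 1 := fun h => hc1 (Subtype.ext h)
  obtain ⟨k, hk⟩ := exists_pow_orderOf_eq hS (hCS c.2) hc1'
  have hzC : (c : G) ^ k ∈ C := pow_mem c.2 k
  have hzp : ((c : G) ^ k) ^ p = 1 := by
    rw [← hk]
    exact pow_orderOf_eq_one _
  have hzA : (c : G) ^ k ∈ A := (hΩ _ (hCS hzC)).mp hzp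
  have hz : (c : G) ^ k ∈ B ⊓ C := Subgroup.mem_inf.mpr ⟨hAB hzA, hzC⟩
  rw [hBC, Subgroup.mem_bot] at hz
  rw [hz, orderOf_one] at hk
  exact hpp.one_lt.ne' hk.symm

theorem exp_of_decomp [Finite G] {S B C : Subgroup G} (hScomm : ∀ x ∈ S, ∀ y ∈ S, x * y = y * x)
    (hBS : B ≤ S) (hCS : C ≤ S) (hdec : ∀ s ∈ S, ∃ b ∈ B, ∃ c ∈ C, s = b * c)
    (hdvd : Nat.card C ∣ Nat.card B) : ∀ s ∈ S, s ^ Nat.card B = 1 := by
  intro s hs
  obtain ⟨b, hb, c, hc, rfl⟩ := hdec s hs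
  have hcomm : Commute b c := hScomm b (hBS hb) c (hCS hc)
  have hb1 : b ^ Nat.card B = 1 := by
    have h0 := congrArg Subtype.val (pow_card_eq_one' (G := ↥B) (x := ⟨b, hb⟩))
    rwa [Subgroup.coe_pow, Subgroup.coe_one] at h0
  have hc1 : c ^ Nat.card B = 1 := by
    have h1 : c ^ Nat.card C = 1 := by
      have h0 := congrArg Subtype.val (pow_card_eq_one' (G := ↥C) (x := ⟨c, hc⟩))
      rwa [Subgroup.coe_pow, Subgroup.coe_one] at h0
    obtain ⟨t, ht⟩ := hdvd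
    rw [ht, pow_mul, h1, one_pow]
  rw [hcomm.mul_pow, hb1, hc1, one_mul]

end Cfsg.Agent.Lib.Helper55.BGThirteen
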