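import Cfsg.Agent.Lib.Helper55.BGThirteenH

/-!
# Bender–Glauberman §12, towards statement S1421: the package `(S, Y)` for a prime of `τ₂(M)`
with abelian Sylow subgroups
-/

set_option autoImplicit false
open Cfsg

namespace Cfsg.Agent.Lib.Helper55.BGThirteen

open Cfsg.Agent.Lib
open scoped commutatorElement Pointwise

variable {G : Type*} [Group G]

/-- replace an invariant cyclic subgroup of full exponent by a conjugate with regular socle -/
theorem regularize [Finite G] (hG : IsMinSimpleOddOrder G) (M : Subgroup G) (hM : IsCoatom M)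
    (E : Subgroup G) (hE : IsComplIn E (sigmaCore M) M) (p : ℕ) [Fact p.Prime] (hp : p ∈ tau2 M)
    (A : Subgroup G) (hA : A ≤ E ∧ IsElementaryAbelian p A ∧ Nat.card A = p ^ 2)
    (S : Sylow p G) (hSc : IsMulCommutative (S : Subgroup G)) (hAS : A ≤ (S : Subgroup G))
    (U : Subgroup G) (hUE : U ≤ E) (hEU : E ≤ Subgroup.normalizer (U : Set G))
    (hcop : (Nat.card U).Coprime (U.relIndex E))
    (Y₁ : Subgroup G) (hYS : Y₁ ≤ (S : Subgroup G)) (hYc : IsCyclic Y₁) (hY1 : Y₁ ≠ ⊥)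
    (hUY : U ≤ Subgroup.normalizer (Y₁ : Set G))
    (hexp : ∀ s ∈ (S : Subgroup G), s ^ Nat.card Y₁ = 1) :
    ∃ Y : Subgroup G, Y ≤ (S : Subgroup G) ∧ IsCyclic Y ∧ U ≤ Subgroup.normalizer (Y : Set G) ∧
      (∀ s ∈ (S : Subgroup G), s ^ Nat.card Y = 1) ∧
      ∀ y ∈ Y, y ≠ 1 → sigmaCore M ⊓ Subgroup.centralizer ({y} : Set G) = ⊥ := by
  have hpp : p.Prime := Fact.out
  have hs : IsSimpleGroup G := hG.2.1
  obtain ⟨hSE, hΩ, hNS, hNC⟩ := ab_structure hG M hM E hE p hp A hA S hSc hAS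
  obtain ⟨⟨hEN, -⟩, ⟨hCle, hMN, hNM⟩, h18c⟩ := Cfsg.Agent.S1418.result hG M hM E hE p hp A hA
  have hCE : Subgroup.centralizer (A : Set G) ≤ E := by
    intro x hx
    rw [← hMN]
    exact hCle hx
  set K : Subgroup G := sigmaCore M with hK
  by_cases hreg : K ⊓ Subgroup.centralizer ((Y₁ ⊓ A : Subgroup G) : Set G) = ⊥
  · exact ⟨Y₁, hYS, hYc, hUY, hexp, regular_of_point S.isPGroup' hΩ hA.2.2 hYS hYc hreg⟩
  · obtain ⟨n, hnN, hnM⟩ := SetLike.not_le_iff_exists.mp hNM
    have hnS : MulAut.conj n • (S : Subgroup G) = (S : Subgroup G) :=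
      Helper54.mem_normalizer_iff_conj_smul.mp (hNS hnN)
    have hNE : Subgroup.normalizer (A : Set G) ≤ Subgroup.normalizer (E : Set G) :=
      le_normalizer_of_commutator_le hEN (hNC.trans hCE)
    have hnU : MulAut.conj n • U = U :=
      Helper54.mem_normalizer_iff_conj_smul.mp (normalizer_le_of_normal_hall hUE hEU hcop (hNE hnN))
    set Y : Subgroup G := MulAut.conj n • Y₁ with hY
    have hYS' : Y ≤ (S : Subgroup G) := by
      have := Helper54.conj_smul_le_conj_smul (g := n) hYS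
      rwa [hnS] at this
    have hYc' : IsCyclic Y :=
      isCyclic_of_surjective (Subgroup.equivSMul (MulAut.conj n) Y₁)
        (Subgroup.equivSMul (MulAut.conj n) Y₁).surjective
    have hUY' : U ≤ Subgroup.normalizer (Y : Set G) := by
      have := Helper54.conj_smul_le_normalizer (g := n) hUY
      rwa [hnU] at this
    have hcard : Nat.card Y = Nat.card Y₁ := Helper54.card_conj_smul n Y₁
    have hY1' : Y ≠ ⊥ := by
      intro h0
      apply hY1
      rw [← Subgroup.card_eq_one] at h0 ⊢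
      rwa [hcard] at h0
    refine ⟨Y, hYS', hYc', hUY', by rw [hcard]; exact hexp, ?_⟩
    apply regular_of_point S.isPGroup' hΩ hA.2.2 hYS' hYc'
    by_contra hreg'
    -- both socles are nonregular
    have hc1 := point_card S.isPGroup' hΩ hA.2.2 hYS hYc hY1
    have hc2 := point_card S.isPGroup' hΩ hA.2.2 hYS' hYc' hY1'
    obtain ⟨hX₁M, -⟩ := h18c (Y₁ ⊓ A) inf_le_right hc1 hreg
    obtain ⟨-, huniq⟩ := h18c (Y ⊓ A) inf_le_right hc2 hreg'
    have hle : Subgroup.centralizer ((Y ⊓ A : Subgroup G) : Set G) ≤ MulAut.conj n • M := by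
      intro c hc
      rw [Helper54.mem_conj_smul_iff]
      apply hX₁M
      rw [Subgroup.mem_centralizer_iff]
      intro x hx
      obtain ⟨hxY, hxA⟩ := Subgroup.mem_inf.mp hx
      have h1 : n * x * n⁻¹ ∈ Y ⊓ A :=
        Subgroup.mem_inf.mpr ⟨Helper54.conj_mem_conj_smul hxY,
          (Subgroup.mem_normalizer_iff.mp hnN x).mp hxA⟩
      have h2 : (n * x * n⁻¹) * c = c * (n * x * n⁻¹) := Subgroup.mem_centralizer_iff.mp hc _ h1
      calc x * (n⁻¹ * c * n) = n⁻¹ * ((n * x * n⁻¹) * c) * n := by group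
        _ = n⁻¹ * (c * (n * x * n⁻¹)) * n := by rw [h2]
        _ = n⁻¹ * c * n * x := by group
    have heq := huniq _ (Helper54.isCoatom_conj_smul hM n) hle
    have hMbot : M ≠ ⊥ := BGEleven.coatom_ne_bot hG.2.2.1 M hM
    have hNMM : Subgroup.normalizer (M : Set G) = M :=
      Helper54.normalizer_eq_of_coatom hM le_rfl hMbot Subgroup.le_normalizer
    apply hnM
    rw [← hNMM]
    exact Helper54.mem_normalizer_iff_conj_smul.mpr heq

/-- **The package for a prime `p ∈ τ₂(M)` with abelian Sylow `p`-subgroups, `p ∣ |U|`.** -/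
theorem package [Finite G] (hG : IsMinSimpleOddOrder G) (M : Subgroup G) (hM : IsCoatom M)
    (E : Subgroup G) (hE : IsComplIn E (sigmaCore M) M) (p : ℕ) [Fact p.Prime] (hp : p ∈ tau2 M)
    (A : Subgroup G) (hA : A ≤ E ∧ IsElementaryAbelian p A ∧ Nat.card A = p ^ 2)
    (S : Sylow p G) (hSc : IsMulCommutative (S : Subgroup G)) (hAS : A ≤ (S : Subgroup G))
    (U : Subgroup G) (hUE : U ≤ E) (hEU : E ≤ Subgroup.normalizer (U : Set G))
    (hcop : (Nat.card U).Coprime (U.relIndex E)) (hSU : (S : Subgroup G) ≤ U)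
    (X : Subgroup G) (hXA : X ≤ A) (hXc : Nat.card X = p)
    (hUX : U ≤ Subgroup.normalizer (X : Set G)) :
    ∃ Y : Subgroup G, Y ≤ (S : Subgroup G) ∧ IsCyclic Y ∧ U ≤ Subgroup.normalizer (Y : Set G) ∧
      (∀ s ∈ (S : Subgroup G), s ^ Nat.card Y = 1) ∧
      ∀ y ∈ Y, y ≠ 1 → sigmaCore M ⊓ Subgroup.centralizer ({y} : Set G) = ⊥ := by
  have hpp : p.Prime := Fact.out
  obtain ⟨hSE, hΩ, hNS, hNC⟩ := ab_structure hG M hM E hE p hp A hA S hSc hAS
  obtain ⟨⟨hEN, -⟩, -, -⟩ := Cfsg.Agent.S1418.result hG M hM E hE p hp A hA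
  have hUS : U ≤ Subgroup.normalizer ((S : Subgroup G) : Set G) := (hUE.trans hEN).trans hNS
  have hpE : p ∣ Nat.card E := by
    have h1 : Nat.card A ∣ Nat.card E := Subgroup.card_dvd_of_le hA.1
    rw [hA.2.2] at h1
    exact (dvd_pow_self p (by norm_num)).trans h1
  have hp2 : p ≠ 2 := (compl_prime_facts hG M hM E hE hpp hpE).2.2.2
  have hScomm : ∀ x ∈ (S : Subgroup G), ∀ y ∈ (S : Subgroup G), x * y = y * x :=
    fun x hx y hy => congrArg Subtype.val (hSc.is_comm.comm ⟨x, hx⟩ ⟨y, hy⟩)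
  obtain ⟨B, C, hBS, hCS, hB1, hC1, hUB, hUC, hBC, hdec⟩ :=
    exists_decomp S hSc A hAS hΩ hA.2.2 U hSU hUS X hXA hXc hUX
  have hBc : IsCyclic B := cyclic_of_decomp hp2 S.isPGroup' hΩ hA.2.2 hBS hCS hBC hC1
  have hCc : IsCyclic C :=
    cyclic_of_decomp hp2 S.isPGroup' hΩ hA.2.2 hCS hBS (by rw [inf_comm]; exact hBC) hB1
  obtain ⟨β, hβ⟩ := (S.isPGroup'.to_le hBS).exists_card_eq
  obtain ⟨γ, hγ⟩ := (S.isPGroup'.to_le hCS).exists_card_eq
  rcases le_total γ β with h | h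
  · have hdvd : Nat.card C ∣ Nat.card B := by
      rw [hβ, hγ]
      exact Nat.pow_dvd_pow p h
    exact regularize hG M hM E hE p hp A hA S hSc hAS U hUE hEU hcop B hBS hBc hB1 hUB
      (exp_of_decomp hScomm hBS hCS hdec hdvd)
  · have hdvd : Nat.card B ∣ Nat.card C := by
      rw [hβ, hγ]
      exact Nat.pow_dvd_pow p h
    have hdec' : ∀ s ∈ (S : Subgroup G), ∃ c ∈ C, ∃ b ∈ B, s = c * b := by
      intro s hs
      obtain ⟨b, hb, c, hc, rfl⟩ := hdec s hs
      exact ⟨c, hc, b, hb, hScomm b (hBS hb) c (hCS hc)⟩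
    exact regularize hG M hM E hE p hp A hA S hSc hAS U hUE hEU hcop C hCS hCc hC1 hUC
      (exp_of_decomp hScomm hCS hBS hdec' hdvd)

end Cfsg.Agent.Lib.Helper55.BGThirteen
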