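import Cfsg.Agent.Lib.Helper55.BGThirteenI

/-!
# Bender–Glauberman §12, towards statement S1421: the case where the Sylow `p`-subgroups of `G`
are abelian for every `p ∈ τ₂(M)` dividing `|U|`
-/

set_option autoImplicit false
open Cfsg

namespace Cfsg.Agent.Lib.Helper55.BGThirteen

open Cfsg.Agent.Lib
open scoped commutatorElement Pointwise

variable {G : Type*} [Group G]

/-- the hypothesis `(H)` gives regularity of all `τ₂(M)'`-elements of `U` -/
theorem regular_of_not_tau2 [Finite G] (hG : IsMinSimpleOddOrder G) (M : Subgroup G)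
    (hM : IsCoatom M) (E : Subgroup G) (hE : IsComplIn E (sigmaCore M) M)
    (U : Subgroup G) (hUE : U ≤ E)
    (hH : ∀ e ∈ U, e ≠ 1 → (∀ q : ℕ, q.Prime → q ∣ orderOf e → q ∈ tau1 M ∪ tau3 M) →
      sigmaCore M ⊓ Subgroup.centralizer ({e} : Set G) = ⊥) :
    ∀ g ∈ U, g ≠ 1 → (∀ q : ℕ, q.Prime → q ∣ orderOf g → q ∉ tau2 M) →
      sigmaCore M ⊓ Subgroup.centralizer ({g} : Set G) = ⊥ := by
  intro g hg hg1 hq
  apply hH g hg hg1
  intro q hqp hqd
  have hqE : q ∣ Nat.card E := by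
    have h3 := orderOf_dvd_natCard (⟨g, hUE hg⟩ : E)
    rw [Subgroup.orderOf_mk] at h3
    exact hqd.trans h3
  exact mem_tau13_of hG M hM E hE hqp hqE (hq q hqp hqd)

/-- the trivial package for a prime not dividing `|U|` -/
theorem package_trivial [Finite G] (U K : Subgroup G) (p : ℕ) [Fact p.Prime]
    (hpU : ¬ p ∣ Nat.card U) :
    ∃ S Y : Subgroup G, S ≤ U ∧ U ≤ Subgroup.normalizer (S : Set G) ∧
      (∀ a ∈ S, ∀ b ∈ S, a * b = b * a) ∧ IsPGroup p S ∧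
      (∀ g ∈ U, (∃ k : ℕ, g ^ (p ^ k) = 1) → g ∈ S) ∧ Y ≤ S ∧ IsCyclic Y ∧
      U ≤ Subgroup.normalizer (Y : Set G) ∧ (∀ s ∈ S, s ^ Nat.card Y = 1) ∧
      ∀ y ∈ Y, y ≠ 1 → K ⊓ Subgroup.centralizer ({y} : Set G) = ⊥ := by
  have hpp : p.Prime := Fact.out
  have hnorm : U ≤ Subgroup.normalizer ((⊥ : Subgroup G) : Set G) := by
    apply Helper54.le_normalizer_of_conj_mem
    intro a _ y hy
    rw [Subgroup.mem_bot] at hy ⊢
    rw [hy, mul_one, mul_inv_cancel]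
  refine ⟨⊥, ⊥, bot_le, hnorm, ?_, IsPGroup.of_bot, ?_, le_rfl, ?_, hnorm, ?_, ?_⟩
  · intro a ha b hb
    rw [Subgroup.mem_bot] at ha hb
    rw [ha, hb]
  · rintro g hg ⟨k, hk⟩
    rw [Subgroup.mem_bot]
    have h1 : orderOf g ∣ p ^ k := orderOf_dvd_of_pow_eq_one hk
    have h2 : orderOf g ∣ Nat.card U := by
      have h3 := orderOf_dvd_natCard (⟨g, hg⟩ : U)
      rwa [Subgroup.orderOf_mk] at h3
    have hcop : Nat.Coprime (p ^ k) (Nat.card U) :=
      Nat.Coprime.pow_left k ((Nat.Prime.coprime_iff_not_dvd hpp).mpr hpU)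
    have h3 : orderOf g ∣ 1 := by
      have := Nat.dvd_gcd h1 h2
      rwa [hcop] at this
    exact orderOf_eq_one_iff.mp (Nat.dvd_one.mp h3)
  · exact isCyclic_of_subsingleton
  · intro s hs
    rw [Subgroup.mem_bot] at hs
    rw [hs, one_pow]
  · intro y hy hy1
    rw [Subgroup.mem_bot] at hy
    exact absurd hy hy1

/-- **The abelian case.** -/
theorem ab_case [Finite G] (hG : IsMinSimpleOddOrder G) (M : Subgroup G) (hM : IsCoatom M)
    (E : Subgroup G) (hE : IsComplIn E (sigmaCore M) M)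
    (U : Subgroup G) (hUE : U ≤ E) (hEU : E ≤ Subgroup.normalizer (U : Set G))
    (hcop : (Nat.card U).Coprime (U.relIndex E))
    (hH : ∀ e ∈ U, e ≠ 1 → (∀ q : ℕ, q.Prime → q ∣ orderOf e → q ∈ tau1 M ∪ tau3 M) →
      sigmaCore M ⊓ Subgroup.centralizer ({e} : Set G) = ⊥)
    (hAB : ∀ p : ℕ, p.Prime → p ∈ tau2 M → p ∣ Nat.card U →
      ∃ S : Sylow p G, IsMulCommutative (S : Subgroup G)) :
    (∃ A₀ : Subgroup G, A₀ ≤ U ∧ U ≤ Subgroup.normalizer (A₀ : Set G) ∧ IsMulCommutative A₀ ∧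
        ∀ x ∈ sigmaCore M, x ≠ 1 → U ⊓ Subgroup.centralizer ({x} : Set G) ≤ A₀) ∧
      ∃ U₀ : Subgroup G, U₀ ≤ U ∧ Monoid.exponent U₀ = Monoid.exponent U ∧
        ∀ e ∈ U₀, e ≠ 1 → sigmaCore M ⊓ Subgroup.centralizer ({e} : Set G) = ⊥ := by
  apply abelian_case U (sigmaCore M) (tau2 M) (regular_of_not_tau2 hG M hM E hE U hUE hH)
  intro p hp hpp
  have : Fact p.Prime := ⟨hpp⟩
  by_cases hpU : p ∣ Nat.card U
  · have hr1 : ¬ PRankLE p 1 ↥E :=
      Helper97.BGTwelve.not_pRankLE_complement hE (Helper54.sigmaCore_isPi M) hp.2.1 hp.2.2.2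
    obtain ⟨A, hAE, hAe, hAc⟩ := Helper97.BGTwelve.exists_elemAb_sq_of_not_pRankLE_one E hr1
    have hAp : IsPGroup p A := by
      intro a
      refine ⟨1, ?_⟩
      rw [pow_one]
      apply Subtype.ext
      simpa using hAe.2 a a.2
    obtain ⟨S, hAS⟩ := hAp.exists_le_sylow
    have hSc := sylow_comm_of_exists (hAB p hpp hp hpU) S
    obtain ⟨hSE, hΩ, hNS, hNC⟩ := ab_structure hG M hM E hE p hp A ⟨hAE, hAe, hAc⟩ S hSc hAS
    obtain ⟨⟨hEN, -⟩, -, -⟩ := Cfsg.Agent.S1418.result hG M hM E hE p hp A ⟨hAE, hAe, hAc⟩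
    have hUS : U ≤ Subgroup.normalizer ((S : Subgroup G) : Set G) := (hUE.trans hEN).trans hNS
    have hpidx : ¬ p ∣ U.relIndex E := by
      intro hd
      have := Nat.dvd_gcd hpU hd
      rw [hcop] at this
      exact hpp.one_lt.ne' (Nat.dvd_one.mp this)
    have hSU : (S : Subgroup G) ≤ U := by
      apply le_of_coprime_relIndex hUE hEU hSE
      obtain ⟨m, hm⟩ := S.isPGroup'.exists_card_eq
      rw [hm]
      exact Nat.Coprime.pow_left m ((Nat.Prime.coprime_iff_not_dvd hpp).mpr hpidx)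
    have hT : ∀ r : ℕ, r.Prime → r ∈ tau2 M → r ≠ p → ∀ e ∈ U, ∀ k : ℕ, e ^ r ^ k = 1 →
        e ∈ Subgroup.centralizer (A : Set G) := by
      intro r hrr hr hrp e he k hek
      have : Fact r.Prime := ⟨hrr⟩
      by_cases hrU : r ∣ Nat.card U
      · exact tau2_centralizes hG M hM E hE p hp A ⟨hAE, hAe, hAc⟩ r hr hrp (hAB r hrr hr hrU)
          e (hUE he) k hek
      · have h1 : orderOf e ∣ r ^ k := orderOf_dvd_of_pow_eq_one hek
        have h2 : orderOf e ∣ Nat.card U := by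
          have h3 := orderOf_dvd_natCard (⟨e, he⟩ : U)
          rwa [Subgroup.orderOf_mk] at h3
        have hcop' : Nat.Coprime (r ^ k) (Nat.card U) :=
          Nat.Coprime.pow_left k ((Nat.Prime.coprime_iff_not_dvd hrr).mpr hrU)
        have h3 : orderOf e ∣ 1 := by
          have := Nat.dvd_gcd h1 h2
          rwa [hcop'] at this
        rw [orderOf_eq_one_iff.mp (Nat.dvd_one.mp h3)]
        exact one_mem _
    obtain ⟨X, hXA, hXc, hUX⟩ :=
      reducible hG M hM E hE p hp A ⟨hAE, hAe, hAc⟩ S hSc hAS U hUE hH hT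
    obtain ⟨Y, hYS, hYc, hUY, hYexp, hYreg⟩ :=
      package hG M hM E hE p hp A ⟨hAE, hAe, hAc⟩ S hSc hAS U hUE hEU hcop hSU X hXA hXc hUX
    refine ⟨(S : Subgroup G), Y, hSU, hUS,
      fun a ha b hb => congrArg Subtype.val (hSc.is_comm.comm ⟨a, ha⟩ ⟨b, hb⟩), S.isPGroup', ?_,
      hYS, hYc, hUY, hYexp, hYreg⟩
    rintro g hg ⟨k, hk⟩
    exact mem_sylow_of_mem_normalizer S (hUS hg) hk
  · exact package_trivial U (sigmaCore M) p hpU

end Cfsg.Agent.Lib.Helper55.BGThirteen
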