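import Cfsg.Agent.Lib.Helper55.BGThirteenJ
import Cfsg.Agent.S1419
import Cfsg.Agent.S0051

/-!
# Bender–Glauberman §12, towards statement S1421: the case of nonabelian Sylow `p`-subgroups
-/

set_option autoImplicit false
open Cfsg

namespace Cfsg.Agent.Lib.Helper55.BGThirteen

open Cfsg.Agent.Lib
open scoped commutatorElement Pointwise

variable {G : Type*} [Group G]

/-- powers of a product `a * h` with `h` normalizing `A₀ ∋ a` -/
theorem exists_pow_mul_eq {A₀ : Subgroup G} {a h : G} (ha : a ∈ A₀)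
    (hh : h ∈ Subgroup.normalizer (A₀ : Set G)) (n : ℕ) :
    ∃ a' ∈ A₀, (a * h) ^ n = a' * h ^ n := by
  induction n with
  | zero => exact ⟨1, one_mem _, by simp⟩
  | succ n ih =>
    obtain ⟨a', ha', h1⟩ := ih
    have hhn : h ^ n ∈ Subgroup.normalizer (A₀ : Set G) := pow_mem hh n
    have h2 : h ^ n * a * (h ^ n)⁻¹ ∈ A₀ := (Subgroup.mem_normalizer_iff.mp hhn a).mp ha
    refine ⟨a' * (h ^ n * a * (h ^ n)⁻¹), mul_mem ha' h2, ?_⟩
    rw [pow_succ, h1, pow_succ]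
    group

/-- **Exponent of a complement** of a normal subgroup of order `p` without `p`-th roots. -/
theorem exponent_dvd_of_compl [Finite G] {p : ℕ} [Fact p.Prime] (U A₀ H : Subgroup G)
    (hHU : H ≤ U) (hUA₀ : U ≤ Subgroup.normalizer (A₀ : Set G))
    (hA₀exp : ∀ a ∈ A₀, a ^ p = 1) (hinf : A₀ ⊓ H = ⊥)
    (hdec : ∀ u ∈ U, ∃ a ∈ A₀, ∃ h ∈ H, u = a * h) (hpH : p ∣ Nat.card H)
    (hno : ∀ v ∈ U, v ^ p ∈ A₀ → v ^ p = 1) : Monoid.exponent U ∣ Monoid.exponent H := by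
  have hpp : p.Prime := Fact.out
  have hordH : ∀ h ∈ H, orderOf h ∣ Monoid.exponent H := by
    intro h hh
    have := Monoid.order_dvd_exponent (⟨h, hh⟩ : H)
    rwa [Subgroup.orderOf_mk] at this
  apply exponent_dvd_of_prime_pow U
  intro u hu q hq k hk
  obtain ⟨a, ha, h, hh, rfl⟩ := hdec u hu
  have hhN : h ∈ Subgroup.normalizer (A₀ : Set G) := hUA₀ (hHU hh)
  set m := orderOf h with hm
  -- `h ^ q ^ k = 1`
  obtain ⟨a₁, ha₁, h1⟩ := exists_pow_mul_eq ha hhN (q ^ k)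
  have h2 : (a * h) ^ q ^ k = 1 := by rw [← hk]; exact pow_orderOf_eq_one _
  have h3 : h ^ q ^ k = 1 := by
    have h4 : h ^ q ^ k = a₁⁻¹ := by
      rw [h2] at h1
      calc h ^ q ^ k = a₁⁻¹ * (a₁ * h ^ q ^ k) := by group
        _ = a₁⁻¹ := by rw [← h1, mul_one]
    have h5 : h ^ q ^ k ∈ A₀ ⊓ H :=
      Subgroup.mem_inf.mpr ⟨h4 ▸ inv_mem ha₁, pow_mem hh _⟩
    rw [hinf] at h5
    exact Subgroup.mem_bot.mp h5
  have hmq : m ∣ q ^ k := orderOf_dvd_of_pow_eq_one h3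
  obtain ⟨j, hjk, hj⟩ := (Nat.dvd_prime_pow hq).mp hmq
  -- `(a * h) ^ m ∈ A₀`
  obtain ⟨a₂, ha₂, h6⟩ := exists_pow_mul_eq ha hhN m
  have h7 : (a * h) ^ m = a₂ := by rw [h6, hm, pow_orderOf_eq_one, mul_one]
  have h8 : (a * h) ^ (m * p) = 1 := by rw [pow_mul, h7, hA₀exp a₂ ha₂]
  have h9 : q ^ k ∣ m * p := by
    rw [← hk]
    exact orderOf_dvd_of_pow_eq_one h8
  by_cases hqp : q = p
  · subst hqp
    rw [hj, ← pow_succ] at h9
    have hkj : k ≤ j + 1 := (Nat.pow_dvd_pow_iff_le_right hpp.one_lt).mp h9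
    by_cases hkj' : k ≤ j
    · exact (Nat.pow_dvd_pow q hkj').trans (hj ▸ hordH h hh)
    · have hk1 : k = j + 1 := by omega
      rcases Nat.eq_zero_or_pos j with hj0 | hj0
      · -- `k = 1`
        rw [hk1, hj0, zero_add, pow_one]
        have : Fact q.Prime := ⟨hpp⟩
        obtain ⟨x, hx⟩ := exists_prime_orderOf_dvd_card' (G := ↥H) q hpH
        rw [← hx]
        exact Monoid.order_dvd_exponent x
      · exfalso
        -- `v = (a * h) ^ q ^ (j - 1)` has a `p`-th power in `A₀`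
        have hv : ((a * h) ^ q ^ (j - 1)) ^ q = a₂ := by
          rw [← pow_mul, ← pow_succ]
          have : j - 1 + 1 = j := by omega
          rw [this, ← hj, h7]
        have hvU : (a * h) ^ q ^ (j - 1) ∈ U := pow_mem hu _
        have h10 := hno _ hvU (hv ▸ ha₂)
        rw [hv] at h10
        -- then `(a * h) ^ q ^ j = 1`, contradicting the order
        have h11 : (a * h) ^ q ^ j = 1 := by rw [← hj, h7, h10]
        have h12 : q ^ k ∣ q ^ j := by
          rw [← hk]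
          exact orderOf_dvd_of_pow_eq_one h11
        have := (Nat.pow_dvd_pow_iff_le_right hpp.one_lt).mp h12
        omega
  · have hcop : Nat.Coprime (q ^ k) p :=
      Nat.Coprime.pow_left k ((Nat.coprime_primes hq hpp).mpr hqp)
    have h10 : q ^ k ∣ m := hcop.dvd_of_dvd_mul_right h9
    exact h10.trans (hordH h hh)


/-- `p`-subgroups of `M` are commutative when the Sylow `p`-subgroups of `M` are -/
theorem comm_of_pgroup_le [Finite G] {M : Subgroup G} {p : ℕ} [Fact p.Prime]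
    (h : ∀ P : Sylow p M, IsMulCommutative (P : Subgroup M)) {T : Subgroup G}
    (hT : IsPGroup p T) (hTM : T ≤ M) : ∀ x ∈ T, ∀ y ∈ T, x * y = y * x := by
  obtain ⟨P, hTP⟩ := Helper34.exists_sylow_map_ge hT hTM
  intro x hx y hy
  obtain ⟨x', hx', rfl⟩ := hTP hx
  obtain ⟨y', hy', rfl⟩ := hTP hy
  have h1 := congrArg Subtype.val ((h P).is_comm.comm ⟨x', hx'⟩ ⟨y', hy'⟩)
  have h2 := congrArg M.subtype h1
  simpa using h2

/-- `E` normalizes `A ∩ C_G(M_σ)` -/
theorem le_normalizer_inf_centralizer_sigmaCore {M E A : Subgroup G} (hEM : E ≤ M)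
    (hEN : E ≤ Subgroup.normalizer (A : Set G)) :
    E ≤ Subgroup.normalizer
      ((A ⊓ Subgroup.centralizer (sigmaCore M : Set G) : Subgroup G) : Set G) := by
  apply Helper54.le_normalizer_of_conj_mem
  intro g hg x hx
  obtain ⟨hxA, hxK⟩ := Subgroup.mem_inf.mp hx
  refine Subgroup.mem_inf.mpr ⟨(Subgroup.mem_normalizer_iff.mp (hEN hg) x).mp hxA, ?_⟩
  rw [Subgroup.mem_centralizer_iff]
  intro k hk
  have hMK : M ≤ Subgroup.normalizer (sigmaCore M : Set G) := Helper54.le_normalizer_sigmaCore M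
  have hk' : g⁻¹ * k * g⁻¹⁻¹ ∈ sigmaCore M :=
    (Subgroup.mem_normalizer_iff.mp (hMK (M.inv_mem (hEM hg))) k).mp hk
  rw [inv_inv] at hk'
  have hc : (g⁻¹ * k * g) * x = x * (g⁻¹ * k * g) := Subgroup.mem_centralizer_iff.mp hxK _ hk'
  calc k * (g * x * g⁻¹) = g * ((g⁻¹ * k * g) * x) * g⁻¹ := by group
    _ = g * (x * (g⁻¹ * k * g)) * g⁻¹ := by rw [hc]
    _ = g * x * g⁻¹ * k := by group

/-- **No `p`-th roots of `A₀`** in the nonabelian case. -/
theorem na_no_pth_root [Finite G] (hG : IsMinSimpleOddOrder G) (M : Subgroup G) (hM : IsCoatom M)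
    (E : Subgroup G) (hE : IsComplIn E (sigmaCore M) M) (p : ℕ) [Fact p.Prime] (hp : p ∈ tau2 M)
    (hS : ∀ S : Sylow p G, ¬ IsMulCommutative (S : Subgroup G))
    (A : Subgroup G) (hA : A ≤ E ∧ IsElementaryAbelian p A ∧ Nat.card A = p ^ 2)
    (y : G) (hyE : y ∈ E) (k : ℕ) (hyk : y ^ p ^ k = 1)
    (hyA₀ : y ^ p ∈ A ⊓ Subgroup.centralizer (sigmaCore M : Set G)) : y ^ p = 1 := by
  by_contra hne
  have hpp : p.Prime := Fact.out
  have hU := Helper21.uniquenessThm_of hG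
  set K : Subgroup G := sigmaCore M with hK
  set A₀ : Subgroup G := A ⊓ Subgroup.centralizer (K : Set G) with hA₀
  have hK1 : K ≠ ⊥ := BGEleven.sigmaCore_ne_bot hG hU M hM
  have hEM : E ≤ M := hE.1
  have hAM : A ≤ M := hA.1.trans hEM
  obtain ⟨⟨hEN, hEX⟩, ⟨hCle, hMN, -⟩, h18c⟩ := Cfsg.Agent.S1418.result hG M hM E hE p hp A hA
  obtain ⟨-, h17b, -, -, -, -⟩ :=
    Cfsg.Agent.S1417.result hG M hM p hp A ⟨hAM, hA.2.1, hA.2.2⟩
  obtain ⟨-, ⟨hA₀c, -⟩, -⟩ := Cfsg.Agent.S1419.result hG M hM E hE p hp hS A hA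
  have hCE : Subgroup.centralizer (A : Set G) ≤ E := by
    intro x hx
    rw [← hMN]
    exact hCle hx
  have hpE : p ∣ Nat.card E := by
    have h1 : Nat.card A ∣ Nat.card E := Subgroup.card_dvd_of_le hA.1
    rw [hA.2.2] at h1
    exact (dvd_pow_self p (by norm_num)).trans h1
  have hp2 : p ≠ 2 := (compl_prime_facts hG M hM E hE hpp hpE).2.2.2
  have hAp : IsPGroup p A := by
    intro a
    refine ⟨1, ?_⟩
    rw [pow_one]
    apply Subtype.ext
    simpa using hA.2.1.2 a a.2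
  have hup : (y ^ p) ^ p = 1 := hA.2.1.2 _ (Subgroup.mem_inf.mp hyA₀).1
  have hcomm17 : ∀ P : Sylow p M, IsMulCommutative (P : Subgroup M) := fun P => (h17b P).1
  -- the `p`-group `A⟨y⟩`
  have hzp : IsPGroup p (Subgroup.zpowers y) := isPGroup_zpowers_of_pow_eq_one hyk
  have hzN : Subgroup.zpowers y ≤ Subgroup.normalizer (A : Set G) := by
    rw [Subgroup.zpowers_le]
    exact hEN hyE
  have hTp : IsPGroup p ((Subgroup.zpowers y ⊔ A : Subgroup G)) :=
    IsPGroup.to_sup_of_normal_right' hzp hAp hzN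
  have hTM : Subgroup.zpowers y ⊔ A ≤ M := by
    apply sup_le _ hAM
    rw [Subgroup.zpowers_le]
    exact hEM hyE
  have hTcomm := comm_of_pgroup_le hcomm17 hTp hTM
  have hyT : y ∈ Subgroup.zpowers y ⊔ A := Subgroup.mem_sup_left (Subgroup.mem_zpowers y)
  have hyC : y ∈ Subgroup.centralizer (A : Set G) := by
    rw [Subgroup.mem_centralizer_iff]
    intro a ha
    exact hTcomm a (Subgroup.mem_sup_right ha) y hyT
  have hΩ : ∀ x ∈ Subgroup.centralizer (A : Set G), x ^ p = 1 → x ∈ A := by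
    intro x hx hxp
    by_cases hx1 : x = 1
    · rw [hx1]
      exact one_mem _
    · have hord : orderOf x = p := orderOf_eq_prime hxp hx1
      have hzE : Subgroup.zpowers x ≤ E := by
        rw [Subgroup.zpowers_le]
        exact hCE hx
      exact hEX _ hzE (by rw [Nat.card_zpowers, hord]) (Subgroup.mem_zpowers x)
  obtain ⟨SG, hTS⟩ := hTp.exists_le_sylow
  have hcen := Helper21.pow_p_central p hp2 (Helper21.s1412Stmt_of hG p) SG (hS SG) A
    (le_sup_right.trans hTS) hA.2.1 hA.2.2 hΩ (hTS hyT) hyC hup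
  -- `A₀ = ⟨y ^ p⟩`
  have hord : orderOf (y ^ p) = p := orderOf_eq_prime hup hne
  have hzA₀ : Subgroup.zpowers (y ^ p) = A₀ := by
    apply Subgroup.eq_of_le_of_card_ge
    · rw [Subgroup.zpowers_le]
      exact hyA₀
    · rw [hA₀c, Nat.card_zpowers, hord]
  have hKA₀ : K ⊓ Subgroup.centralizer (A₀ : Set G) ≠ ⊥ := by
    intro h0
    apply hK1
    rw [eq_bot_iff, ← h0]
    intro x hx
    refine Subgroup.mem_inf.mpr ⟨hx, ?_⟩
    rw [Subgroup.mem_centralizer_iff]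
    intro a ha
    exact (Subgroup.mem_centralizer_iff.mp (Subgroup.mem_inf.mp ha).2 x hx).symm
  obtain ⟨hCA₀M, -⟩ := h18c A₀ inf_le_left hA₀c hKA₀
  have hSGM : (SG : Subgroup G) ≤ M := by
    intro s hs
    apply hCA₀M
    rw [Subgroup.mem_centralizer_iff]
    intro a ha
    rw [SetLike.mem_coe, ← hzA₀] at ha
    obtain ⟨n, rfl⟩ := Subgroup.mem_zpowers_iff.mp ha
    have hc : Commute s (y ^ p) := hcen s hs
    exact ((hc.zpow_right n).eq).symm
  apply hS SG
  have hSGc := comm_of_pgroup_le hcomm17 SG.isPGroup' hSGM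
  exact ⟨⟨fun a b => Subtype.ext (hSGc a a.2 b b.2)⟩⟩

end Cfsg.Agent.Lib.Helper55.BGThirteen
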