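import Cfsg.Agent.Lib.Helper55.BGThirteenK

/-!
# Bender–Glauberman §12, towards statement S1421: the nonabelian case, assembly
-/

set_option autoImplicit false
open Cfsg

namespace Cfsg.Agent.Lib.Helper55.BGThirteen

open Cfsg.Agent.Lib
open scoped commutatorElement Pointwise

variable {G : Type*} [Group G]

/-- nonregular `p`-elements of `U` lie in `A₀` (nonabelian case) -/
theorem na_nonregular_mem [Finite G] (hG : IsMinSimpleOddOrder G) (M : Subgroup G)
    (hM : IsCoatom M) (E : Subgroup G) (hE : IsComplIn E (sigmaCore M) M) (p : ℕ)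
    [Fact p.Prime] (hp : p ∈ tau2 M)
    (hS : ∀ S : Sylow p G, ¬ IsMulCommutative (S : Subgroup G))
    (A : Subgroup G) (hA : A ≤ E ∧ IsElementaryAbelian p A ∧ Nat.card A = p ^ 2)
    (d : G) (hdE : d ∈ E) (k : ℕ) (hdk : d ^ p ^ k = 1)
    (hd : sigmaCore M ⊓ Subgroup.centralizer ({d} : Set G) ≠ ⊥) :
    d ∈ A ⊓ Subgroup.centralizer (sigmaCore M : Set G) := by
  have hpp : p.Prime := Fact.out
  set K : Subgroup G := sigmaCore M with hK
  set A₀ : Subgroup G := A ⊓ Subgroup.centralizer (K : Set G) with hA₀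
  obtain ⟨-, ⟨hA₀c, -⟩, h19c⟩ := Cfsg.Agent.S1419.result hG M hM E hE p hp hS A hA
  by_cases hd1 : d = 1
  · rw [hd1]
    exact one_mem _
  have hex : ∃ m, d ^ p ^ m = 1 := ⟨k, hdk⟩
  classical
  have hspec := Nat.find_spec hex
  have hmin : ∀ m, m < Nat.find hex → d ^ p ^ m ≠ 1 := fun m hm => Nat.find_min hex hm
  set m := Nat.find hex with hm
  have hm0 : m ≠ 0 := by
    intro h0
    rw [h0, pow_zero, pow_one] at hspec
    exact hd1 hspec
  obtain ⟨n, hn⟩ : ∃ n, m = n + 1 := ⟨m - 1, by omega⟩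
  have hen : d ^ p ^ (n + 1) = 1 := hn ▸ hspec
  have hz1 : d ^ p ^ n ≠ 1 := hmin n (by omega)
  have hzp : (d ^ p ^ n) ^ p = 1 := by
    rw [← pow_mul, ← pow_succ]
    exact hen
  have hord : orderOf (d ^ p ^ n) = p := orderOf_eq_prime hzp hz1
  have hZE : Subgroup.zpowers (d ^ p ^ n) ≤ E := by
    rw [Subgroup.zpowers_le]
    exact pow_mem hdE _
  have hZc : Nat.card (Subgroup.zpowers (d ^ p ^ n)) = p := by rw [Nat.card_zpowers, hord]
  have hZreg : K ⊓ Subgroup.centralizer ((Subgroup.zpowers (d ^ p ^ n) : Subgroup G) : Set G)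
      ≠ ⊥ := by
    intro h0
    apply hd
    rw [eq_bot_iff, ← h0]
    intro x hx
    obtain ⟨hxK, hxd⟩ := Subgroup.mem_inf.mp hx
    rw [Subgroup.mem_centralizer_singleton_iff] at hxd
    refine Subgroup.mem_inf.mpr ⟨hxK, ?_⟩
    rw [Subgroup.mem_centralizer_iff]
    intro z hz
    obtain ⟨t, rfl⟩ := Subgroup.mem_zpowers_iff.mp hz
    have hc : Commute x (d ^ p ^ n) := Commute.pow_right hxd _
    exact ((hc.zpow_right t).eq).symm
  have hZA₀ : Subgroup.zpowers (d ^ p ^ n) = A₀ := by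
    by_contra hne
    exact hZreg (h19c _ hZE hZc hne).1
  have hzA₀ : d ^ p ^ n ∈ A₀ := hZA₀ ▸ Subgroup.mem_zpowers _
  rcases Nat.eq_zero_or_pos n with hn0 | hn0
  · rw [hn0, pow_zero, pow_one] at hzA₀
    exact hzA₀
  · exfalso
    have h1 : (d ^ p ^ (n - 1)) ^ p = d ^ p ^ n := by
      rw [← pow_mul, ← pow_succ]
      congr 2
      omega
    have h2 : (d ^ p ^ (n - 1)) ^ p ^ (n + 1) = 1 := by
      rw [← pow_mul, mul_comm, pow_mul, hen, one_pow]
    have h3 := na_no_pth_root hG M hM E hE p hp hS A hA (d ^ p ^ (n - 1)) (pow_mem hdE _) (n + 1)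
      h2 (h1 ▸ hzA₀)
    rw [h1] at h3
    exact hz1 h3


/-- clause 1 in the nonabelian case -/
theorem na_clause1 [Finite G] (hG : IsMinSimpleOddOrder G) (M : Subgroup G)
    (hM : IsCoatom M) (E : Subgroup G) (hE : IsComplIn E (sigmaCore M) M)
    (U : Subgroup G) (hUE : U ≤ E)
    (hH : ∀ e ∈ U, e ≠ 1 → (∀ q : ℕ, q.Prime → q ∣ orderOf e → q ∈ tau1 M ∪ tau3 M) →
      sigmaCore M ⊓ Subgroup.centralizer ({e} : Set G) = ⊥)
    (p : ℕ) [Fact p.Prime] (hp : p ∈ tau2 M)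
    (hS : ∀ S : Sylow p G, ¬ IsMulCommutative (S : Subgroup G))
    (A : Subgroup G) (hA : A ≤ E ∧ IsElementaryAbelian p A ∧ Nat.card A = p ^ 2) :
    ∀ x ∈ sigmaCore M, x ≠ 1 → U ⊓ Subgroup.centralizer ({x} : Set G) ≤
      A ⊓ Subgroup.centralizer (sigmaCore M : Set G) := by
  have hpp : p.Prime := Fact.out
  obtain ⟨hτ, -, -⟩ := Cfsg.Agent.S1419.result hG M hM E hE p hp hS A hA
  intro x hxK hx1 g hg
  obtain ⟨hgU, hgx⟩ := Subgroup.mem_inf.mp hg
  rw [Subgroup.mem_centralizer_singleton_iff] at hgx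
  apply mem_of_forall_prime_pow_mem _ (orderOf g) g (orderOf_pos g) (pow_orderOf_eq_one g)
  intro q hq k j hkj
  have hdU : g ^ k ∈ U := pow_mem hgU k
  have hdx : g ^ k * x = x * g ^ k := (Commute.pow_left hgx k).eq
  by_cases hd1 : g ^ k = 1
  · rw [hd1]
    exact one_mem _
  have hd : sigmaCore M ⊓ Subgroup.centralizer ({g ^ k} : Set G) ≠ ⊥ := by
    intro h0
    have h1 : x ∈ sigmaCore M ⊓ Subgroup.centralizer ({g ^ k} : Set G) := by
      refine Subgroup.mem_inf.mpr ⟨hxK, ?_⟩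
      rw [Subgroup.mem_centralizer_singleton_iff]
      exact hdx.symm
    rw [h0, Subgroup.mem_bot] at h1
    exact hx1 h1
  by_cases hqp : q = p
  · subst hqp
    exact na_nonregular_mem hG M hM E hE q hp hS A hA (g ^ k) (hUE hdU) j hkj hd
  · exfalso
    apply hd
    apply hH _ hdU hd1
    intro q' hq' hq'd
    have h1 : q' ∣ q ^ j := hq'd.trans (orderOf_dvd_of_pow_eq_one hkj)
    have h2 : q' = q := (Nat.prime_dvd_prime_iff_eq hq' hq).mp (hq'.dvd_of_dvd_pow h1)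
    rw [h2]
    have hqE : q ∣ Nat.card E := by
      have h3 := orderOf_dvd_natCard (⟨g ^ k, hUE hdU⟩ : E)
      rw [Subgroup.orderOf_mk] at h3
      exact (h2 ▸ hq'd).trans h3
    apply mem_tau13_of hG M hM E hE hq hqE
    rw [hτ]
    exact hqp


/-- clause 2 in the nonabelian case: a complement of `A₀` in `U` (Gaschütz) -/
theorem na_clause2 [Finite G] (hG : IsMinSimpleOddOrder G) (M : Subgroup G)
    (hM : IsCoatom M) (E : Subgroup G) (hE : IsComplIn E (sigmaCore M) M)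
    (U : Subgroup G) (hUE : U ≤ E) (hEU : E ≤ Subgroup.normalizer (U : Set G))
    (hcop : (Nat.card U).Coprime (U.relIndex E))
    (p : ℕ) [Fact p.Prime] (hp : p ∈ tau2 M) (hpU : p ∣ Nat.card U)
    (hS : ∀ S : Sylow p G, ¬ IsMulCommutative (S : Subgroup G))
    (A : Subgroup G) (hA : A ≤ E ∧ IsElementaryAbelian p A ∧ Nat.card A = p ^ 2) :
    ∃ H : Subgroup G, H ≤ U ∧
      (A ⊓ Subgroup.centralizer (sigmaCore M : Set G)) ⊓ H = ⊥ ∧
      (∀ u ∈ U, ∃ a ∈ A ⊓ Subgroup.centralizer (sigmaCore M : Set G), ∃ h ∈ H, u = a * h) ∧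
      p ∣ Nat.card H := by
  classical
  have hpp : p.Prime := Fact.out
  set K : Subgroup G := sigmaCore M with hK
  set A₀ : Subgroup G := A ⊓ Subgroup.centralizer (K : Set G) with hA₀
  have hEM : E ≤ M := hE.1
  have hAM : A ≤ M := hA.1.trans hEM
  obtain ⟨⟨hEN, -⟩, -, -⟩ := Cfsg.Agent.S1418.result hG M hM E hE p hp A hA
  obtain ⟨-, h17b, -, -, -, -⟩ :=
    Cfsg.Agent.S1417.result hG M hM p hp A ⟨hAM, hA.2.1, hA.2.2⟩
  obtain ⟨-, ⟨hA₀c, -⟩, -⟩ := Cfsg.Agent.S1419.result hG M hM E hE p hp hS A hA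
  have hcomm17 : ∀ P : Sylow p M, IsMulCommutative (P : Subgroup M) := fun P => (h17b P).1
  have hpidx : ¬ p ∣ U.relIndex E := by
    intro hd
    have := Nat.dvd_gcd hpU hd
    rw [hcop] at this
    exact hpp.one_lt.ne' (Nat.dvd_one.mp this)
  have hAU : A ≤ U := by
    apply le_of_coprime_relIndex hUE hEU hA.1
    rw [hA.2.2]
    exact Nat.Coprime.pow_left 2 ((Nat.Prime.coprime_iff_not_dvd hpp).mpr hpidx)
  have hA₀U : A₀ ≤ U := inf_le_left.trans hAU
  have hUA₀ : U ≤ Subgroup.normalizer (A₀ : Set G) :=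
    hUE.trans (le_normalizer_inf_centralizer_sigmaCore hEM hEN)
  have hA₀comm : ∀ a ∈ A₀, ∀ b ∈ A₀, a * b = b * a := fun a ha b hb =>
    congrArg Subtype.val (hA.2.1.1.is_comm.comm ⟨a, (Subgroup.mem_inf.mp ha).1⟩
      ⟨b, (Subgroup.mem_inf.mp hb).1⟩)
  have hno : ∀ v ∈ U, v ^ p ∈ A₀ → v ^ p = 1 := by
    intro v hv hvp
    apply na_no_pth_root hG M hM E hE p hp hS A hA v (hUE hv) 2 _ hvp
    rw [pow_two, pow_mul]
    exact hA.2.1.2 _ (Subgroup.mem_inf.mp hvp).1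
  have hAp : IsPGroup p A := by
    intro a
    refine ⟨1, ?_⟩
    rw [pow_one]
    apply Subtype.ext
    simpa using hA.2.1.2 a a.2
  have hA₀p : IsPGroup p A₀ := hAp.to_le inf_le_left
  have hA₀p' : IsPGroup p (A₀.subgroupOf U) := hA₀p.comap_subtype
  obtain ⟨Q, hQ⟩ := hA₀p'.exists_le_sylow
  set PG : Subgroup G := (Q : Subgroup U).map U.subtype with hPG
  have hPGU : PG ≤ U := Subgroup.map_subtype_le _
  have hPGp : IsPGroup p PG := Q.isPGroup'.map _
  have hPGcomm := comm_of_pgroup_le hcomm17 hPGp (hPGU.trans (hUE.trans hEM))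
  have hA₀PG : A₀ ≤ PG := by
    intro a ha
    exact ⟨⟨a, hA₀U ha⟩, hQ (Subgroup.mem_subgroupOf.mpr ha), rfl⟩
  have hmemPG : ∀ u : ↥U, (u : G) ∈ PG → u ∈ (Q : Subgroup U) := by
    rintro u ⟨u', hu', huu'⟩
    have : u' = u := Subtype.ext huu'
    rwa [← this]
  let _ : CommGroup ↥PG :=
    { (inferInstance : Group ↥PG) with mul_comm := fun a b => Subtype.ext (hPGcomm a a.2 b b.2) }
  have hinf : (A₀.subgroupOf PG) ⊓ (powMonoidHom p : ↥PG →* ↥PG).range = ⊥ := by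
    rw [eq_bot_iff]
    rintro x hx
    obtain ⟨hx1, ⟨y, hy⟩⟩ := Subgroup.mem_inf.mp hx
    rw [Subgroup.mem_bot]
    have hy' : y ^ p = x := hy
    have hyU : (y : G) ∈ U := hPGU y.2
    have h1 : (y : G) ^ p ∈ A₀ := by
      have h0 := Subgroup.mem_subgroupOf.mp hx1
      rw [← hy'] at h0
      simpa using h0
    have h2 := hno _ hyU h1
    apply Subtype.ext
    rw [← hy']
    simpa using h2
  obtain ⟨B', hB'inf, hB'sup⟩ := exists_compl_of_inf_pow_range p (A₀.subgroupOf PG) hinf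
  set BG : Subgroup G := B'.map PG.subtype with hBG
  have hBGPG : BG ≤ PG := Subgroup.map_subtype_le _
  -- Gaschütz
  have hKn : (A₀.subgroupOf U).Normal :=
    (Subgroup.normal_subgroupOf_iff_le_normalizer hA₀U).mpr hUA₀
  have hKc : IsMulCommutative (A₀.subgroupOf U) :=
    ⟨⟨fun a b => Subtype.ext (Subtype.ext (hA₀comm _ (Subgroup.mem_subgroupOf.mp a.2) _
      (Subgroup.mem_subgroupOf.mp b.2)))⟩⟩
  have hcopK : (Nat.card (A₀.subgroupOf U)).Coprime (Q : Subgroup U).index := by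
    rw [Nat.card_congr (Subgroup.subgroupOfEquivOfLe hA₀U).toEquiv, hA₀c]
    exact (Nat.Prime.coprime_iff_not_dvd hpp).mpr Q.not_dvd_index
  have hAU' : BG.subgroupOf U ≤ (Q : Subgroup U) := by
    intro u hu
    exact hmemPG u (hBGPG (Subgroup.mem_subgroupOf.mp hu))
  have hAK : BG.subgroupOf U ⊓ A₀.subgroupOf U = ⊥ := by
    rw [eq_bot_iff]
    intro u hu
    obtain ⟨hu1, hu2⟩ := Subgroup.mem_inf.mp hu
    rw [Subgroup.mem_subgroupOf] at hu1 hu2
    obtain ⟨b, hb, hbu⟩ := hu1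
    have hb2 : b ∈ A₀.subgroupOf PG ⊓ B' := by
      refine Subgroup.mem_inf.mpr ⟨?_, hb⟩
      rw [Subgroup.mem_subgroupOf]
      have : (b : G) = (u : G) := hbu
      rw [this]
      exact hu2
    rw [hB'inf, Subgroup.mem_bot] at hb2
    rw [Subgroup.mem_bot]
    apply Subtype.ext
    have : (b : G) = (u : G) := hbu
    rw [← this, hb2]
    rfl
  have hKA : A₀.subgroupOf U ⊔ BG.subgroupOf U = (Q : Subgroup U) := by
    apply le_antisymm (sup_le hQ hAU')
    intro u hu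
    have huPG : (u : G) ∈ PG := ⟨u, hu, rfl⟩
    have h1 : (⟨(u : G), huPG⟩ : ↥PG) ∈ A₀.subgroupOf PG ⊔ B' := by
      rw [hB'sup]
      exact Subgroup.mem_top _
    obtain ⟨a, ha, b, hb, hab⟩ := Subgroup.mem_sup.mp h1
    have haU : (a : G) ∈ U := hPGU a.2
    have hbU : (b : G) ∈ U := hPGU b.2
    have h2 : u = (⟨(a : G), haU⟩ : ↥U) * ⟨(b : G), hbU⟩ := by
      apply Subtype.ext
      have := congrArg Subtype.val hab
      simpa using this.symm
    rw [h2]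
    apply Subgroup.mul_mem_sup
    · rw [Subgroup.mem_subgroupOf]
      exact Subgroup.mem_subgroupOf.mp ha
    · rw [Subgroup.mem_subgroupOf]
      exact ⟨b, hb, rfl⟩
  obtain ⟨H_, hcompl⟩ := Cfsg.Agent.S0051.result (A₀.subgroupOf U) (Q : Subgroup U) hQ hcopK
    (BG.subgroupOf U) hAU' hAK hKA
  refine ⟨H_.map U.subtype, Subgroup.map_subtype_le _, ?_, ?_, ?_⟩
  · rw [eq_bot_iff]
    rintro x hx
    obtain ⟨hx1, ⟨h, hh, rfl⟩⟩ := Subgroup.mem_inf.mp hx
    have h1 : h ∈ A₀.subgroupOf U ⊓ H_ :=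
      Subgroup.mem_inf.mpr ⟨Subgroup.mem_subgroupOf.mpr hx1, hh⟩
    rw [hcompl.disjoint.eq_bot, Subgroup.mem_bot] at h1
    rw [h1]
    exact Subgroup.one_mem _
  · intro u hu
    obtain ⟨⟨⟨a, ha⟩, ⟨h, hh⟩⟩, hx, -⟩ := hcompl.existsUnique ⟨u, hu⟩
    refine ⟨(a : G), Subgroup.mem_subgroupOf.mp ha, (h : G), ⟨h, hh, rfl⟩, ?_⟩
    have := congrArg Subtype.val hx
    simpa using this.symm
  · have h1 : Nat.card (A₀.subgroupOf U) * Nat.card H_ = Nat.card U := hcompl.card_mul_card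
    rw [Nat.card_congr (Subgroup.subgroupOfEquivOfLe hA₀U).toEquiv, hA₀c] at h1
    have h2 : p ^ 2 ∣ Nat.card U := hA.2.2 ▸ Subgroup.card_dvd_of_le hAU
    rw [← h1, pow_two] at h2
    have h3 : p ∣ Nat.card H_ := Nat.dvd_of_mul_dvd_mul_left hpp.pos h2
    rwa [Subgroup.card_map_of_injective U.subtype_injective]

end Cfsg.Agent.Lib.Helper55.BGThirteen
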