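import Cfsg.Agent.Lib.Helper55.BGThirteenL

/-!
# Bender–Glauberman §12: the general form of statement S1421 for a normal Hall subgroup `U` of a
complement `E` of `M_σ`
-/

set_option autoImplicit false
open Cfsg

namespace Cfsg.Agent.Lib.Helper55.BGThirteen

open Cfsg.Agent.Lib
open scoped commutatorElement Pointwise

variable {G : Type*} [Group G]

/-- **The nonabelian case.** -/
theorem na_case [Finite G] (hG : IsMinSimpleOddOrder G) (M : Subgroup G) (hM : IsCoatom M)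
    (E : Subgroup G) (hE : IsComplIn E (sigmaCore M) M)
    (U : Subgroup G) (hUE : U ≤ E) (hEU : E ≤ Subgroup.normalizer (U : Set G))
    (hcop : (Nat.card U).Coprime (U.relIndex E))
    (hH : ∀ e ∈ U, e ≠ 1 → (∀ q : ℕ, q.Prime → q ∣ orderOf e → q ∈ tau1 M ∪ tau3 M) →
      sigmaCore M ⊓ Subgroup.centralizer ({e} : Set G) = ⊥)
    (p : ℕ) [Fact p.Prime] (hp : p ∈ tau2 M) (hpU : p ∣ Nat.card U)
    (hS : ∀ S : Sylow p G, ¬ IsMulCommutative (S : Subgroup G)) :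
    (∃ A₀ : Subgroup G, A₀ ≤ U ∧ U ≤ Subgroup.normalizer (A₀ : Set G) ∧ IsMulCommutative A₀ ∧
        ∀ x ∈ sigmaCore M, x ≠ 1 → U ⊓ Subgroup.centralizer ({x} : Set G) ≤ A₀) ∧
      ∃ U₀ : Subgroup G, U₀ ≤ U ∧ Monoid.exponent U₀ = Monoid.exponent U ∧
        ∀ e ∈ U₀, e ≠ 1 → sigmaCore M ⊓ Subgroup.centralizer ({e} : Set G) = ⊥ := by
  have hpp : p.Prime := Fact.out
  have hEM : E ≤ M := hE.1
  have hr1 : ¬ PRankLE p 1 ↥E :=
    Helper97.BGTwelve.not_pRankLE_complement hE (Helper54.sigmaCore_isPi M) hp.2.1 hp.2.2.2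
  obtain ⟨A, hAE, hAe, hAc⟩ := Helper97.BGTwelve.exists_elemAb_sq_of_not_pRankLE_one E hr1
  have hA : A ≤ E ∧ IsElementaryAbelian p A ∧ Nat.card A = p ^ 2 := ⟨hAE, hAe, hAc⟩
  obtain ⟨⟨hEN, -⟩, -, -⟩ := Cfsg.Agent.S1418.result hG M hM E hE p hp A hA
  set A₀ : Subgroup G := A ⊓ Subgroup.centralizer (sigmaCore M : Set G) with hA₀
  have hpidx : ¬ p ∣ U.relIndex E := by
    intro hd
    have := Nat.dvd_gcd hpU hd
    rw [hcop] at this
    exact hpp.one_lt.ne' (Nat.dvd_one.mp this)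
  have hAU : A ≤ U := by
    apply le_of_coprime_relIndex hUE hEU hA.1
    rw [hAc]
    exact Nat.Coprime.pow_left 2 ((Nat.Prime.coprime_iff_not_dvd hpp).mpr hpidx)
  have hA₀U : A₀ ≤ U := inf_le_left.trans hAU
  have hUA₀ : U ≤ Subgroup.normalizer (A₀ : Set G) :=
    hUE.trans (le_normalizer_inf_centralizer_sigmaCore hEM hEN)
  have hA₀c : IsMulCommutative A₀ := by
    refine ⟨⟨fun a b => Subtype.ext ?_⟩⟩
    have h1 := congrArg Subtype.val (hAe.1.is_comm.comm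
      ⟨(a : G), (Subgroup.mem_inf.mp a.2).1⟩ ⟨(b : G), (Subgroup.mem_inf.mp b.2).1⟩)
    exact h1
  have hcl1 := na_clause1 hG M hM E hE U hUE hH p hp hS A hA
  obtain ⟨H, hHU, hinf, hdec, hpH⟩ := na_clause2 hG M hM E hE U hUE hEU hcop p hp hpU hS A hA
  refine ⟨⟨A₀, hA₀U, hUA₀, hA₀c, hcl1⟩, H, hHU, ?_, ?_⟩
  · apply Nat.dvd_antisymm
    · apply Monoid.exponent_dvd_of_forall_pow_eq_one
      intro h
      apply Subtype.ext
      have h1 := congrArg Subtype.val (Monoid.pow_exponent_eq_one (⟨h, hHU h.2⟩ : ↥U))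
      rw [Subgroup.coe_pow, Subgroup.coe_one] at h1 ⊢
      exact h1
    · apply exponent_dvd_of_compl U A₀ H hHU hUA₀ (fun a ha => hAe.2 a (Subgroup.mem_inf.mp ha).1)
        hinf hdec hpH
      intro v hv hvp
      apply na_no_pth_root hG M hM E hE p hp hS A hA v (hUE hv) 2 _ hvp
      rw [pow_two, pow_mul]
      exact hAe.2 _ (Subgroup.mem_inf.mp hvp).1
  · intro e heH he1
    by_contra hne
    obtain ⟨x, hx1⟩ := (Subgroup.ne_bot_iff_exists_ne_one).mp hne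
    have hx1' : (x : G) ≠ 1 := fun h => hx1 (Subtype.ext h)
    obtain ⟨hxK, hxe⟩ := Subgroup.mem_inf.mp x.2
    rw [Subgroup.mem_centralizer_singleton_iff] at hxe
    have h1 : e ∈ U ⊓ Subgroup.centralizer ({(x : G)} : Set G) := by
      refine Subgroup.mem_inf.mpr ⟨hHU heH, ?_⟩
      rw [Subgroup.mem_centralizer_singleton_iff]
      exact hxe.symm
    have h2 : e ∈ A₀ ⊓ H := Subgroup.mem_inf.mpr ⟨hcl1 x hxK hx1' h1, heH⟩
    rw [hinf, Subgroup.mem_bot] at h2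
    exact he1 h2

/-- **General form of S1421** for a normal Hall subgroup `U` of a complement `E` of `M_σ`. -/
theorem main_of_normal_hall [Finite G] (hG : IsMinSimpleOddOrder G) (M : Subgroup G)
    (hM : IsCoatom M) (E : Subgroup G) (hE : IsComplIn E (sigmaCore M) M)
    (U : Subgroup G) (hUE : U ≤ E) (hEU : E ≤ Subgroup.normalizer (U : Set G))
    (hcop : (Nat.card U).Coprime (U.relIndex E))
    (hH : ∀ e ∈ U, e ≠ 1 → (∀ q : ℕ, q.Prime → q ∣ orderOf e → q ∈ tau1 M ∪ tau3 M) →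
      sigmaCore M ⊓ Subgroup.centralizer ({e} : Set G) = ⊥) :
    (∃ A₀ : Subgroup G, A₀ ≤ U ∧ U ≤ Subgroup.normalizer (A₀ : Set G) ∧ IsMulCommutative A₀ ∧
        ∀ x ∈ sigmaCore M, x ≠ 1 → U ⊓ Subgroup.centralizer ({x} : Set G) ≤ A₀) ∧
      ∃ U₀ : Subgroup G, U₀ ≤ U ∧ Monoid.exponent U₀ = Monoid.exponent U ∧
        ∀ e ∈ U₀, e ≠ 1 → sigmaCore M ⊓ Subgroup.centralizer ({e} : Set G) = ⊥ := by
  by_cases hNA : ∃ p : ℕ, p.Prime ∧ p ∈ tau2 M ∧ p ∣ Nat.card U ∧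
      ∀ S : Sylow p G, ¬ IsMulCommutative (S : Subgroup G)
  · obtain ⟨p, hpp, hp, hpU, hS⟩ := hNA
    have : Fact p.Prime := ⟨hpp⟩
    exact na_case hG M hM E hE U hUE hEU hcop hH p hp hpU hS
  · apply ab_case hG M hM E hE U hUE hEU hcop hH
    intro p hpp hp hpU
    by_contra hcon
    push Not at hcon
    exact hNA ⟨p, hpp, hp, hpU, hcon⟩

end Cfsg.Agent.Lib.Helper55.BGThirteen
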