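import Mathlib
import Cfsg.Agent.Lib.Helper46.DihOrdDefs
import Cfsg.Agent.Lib.Helper20.DihQuatLift

/-!
# S4482 module [DIH] (helper46, board #4033): `P = ⟨σ, τ⟩` is dihedral of order `2 ^ n`.
-/

open Cfsg Cfsg.Agent.Lib.Helper46.DihOrd

namespace Cfsg.Agent.Lib.Helper55.DihOrd

open Cfsg.Agent.Lib.Helper20

variable {G : Type*} [Group G]

/-- basic relations in the context. -/
theorem ctx_basic {n : ℕ} {P : Sylow 2 G} {σ τ : G} (h : Ctx n P σ τ) :
    σ ^ (2 ^ (n - 1)) = 1 ∧ τ * τ = 1 ∧ 4 ≤ 2 ^ (n - 1) ∧ τ ∉ Subgroup.zpowers σ := by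
  have hn := h.hn
  have ha : σ ^ (2 ^ (n - 1)) = 1 := by rw [← h.hσo]; exact pow_orderOf_eq_one σ
  have hb : τ * τ = 1 := by
    have := pow_orderOf_eq_one τ
    rwa [h.hτo, pow_two] at this
  have hm4 : 4 ≤ 2 ^ (n - 1) := by
    obtain ⟨k, rfl⟩ : ∃ k, n = k + 3 := ⟨n - 3, by omega⟩
    have : k + 3 - 1 = k + 2 := by omega
    rw [this, pow_add]
    have : 1 ≤ 2 ^ k := Nat.one_le_two_pow
    omega
  refine ⟨ha, hb, hm4, ?_⟩
  intro hmem
  obtain ⟨k, hk⟩ := Subgroup.mem_zpowers_iff.mp hmem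
  have hc : τ * σ = σ * τ := by
    rw [← hk]
    exact ((Commute.refl σ).zpow_left k).eq
  have h1 : σ = σ⁻¹ := by
    have := h.hrel
    rw [hc] at this
    rw [← this]; group
  have h2 : σ ^ 2 = 1 := by
    rw [pow_two]
    nth_rewrite 2 [h1]
    exact mul_inv_cancel σ
  have h3 : orderOf σ ∣ 2 := orderOf_dvd_of_pow_eq_one h2
  rw [h.hσo] at h3
  have := Nat.le_of_dvd two_pos h3
  omega

theorem zz_facts {n : ℕ} {P : Sylow 2 G} {σ τ : G} (h : Ctx n P σ τ) :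
    zz n σ * zz n σ = 1 ∧ orderOf (zz n σ) = 2 ∧ τ * zz n σ = zz n σ * τ := by
  obtain ⟨ha, hb, hm4, hba⟩ := ctx_basic h
  have hn := h.hn
  have hsplit : 2 ^ (n - 1) = 2 ^ (n - 2) * 2 := by
    rw [← pow_succ]; congr 1; omega
  have hzz : zz n σ * zz n σ = 1 := by
    unfold zz
    rw [← pow_two, ← pow_mul, ← hsplit, ha]
  have hord : orderOf (zz n σ) = 2 := by
    unfold zz
    have hne : 2 ^ (n - 2) ≠ 0 := by positivity
    have hdvd : 2 ^ (n - 2) ∣ orderOf σ := by rw [h.hσo, hsplit]; exact Dvd.intro _ rfl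
    rw [orderOf_pow_of_dvd hne hdvd, h.hσo, hsplit]
    exact Nat.mul_div_cancel_left 2 (by positivity)
  refine ⟨hzz, hord, ?_⟩
  have hconj : τ * zz n σ * τ⁻¹ = (zz n σ)⁻¹ := by
    unfold zz
    rw [← conj_pow, h.hrel, inv_pow]
  have hinv : (zz n σ)⁻¹ = zz n σ := inv_eq_of_mul_eq_one_right hzz
  rw [hinv] at hconj
  calc τ * zz n σ = (τ * zz n σ * τ⁻¹) * τ := by group
    _ = zz n σ * τ := by rw [hconj]

variable [Fintype G]

/-- **[DIH]** (helper46, board #4033). -/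
theorem dih_facts {n : ℕ} {P : Sylow 2 G} {σ τ : G} (h : Ctx n P σ τ) :
    Nat.card (P : Subgroup G) = 2 ^ n ∧
    (∀ g ∈ (P : Subgroup G), ∃ i : ℕ, g = σ ^ i ∨ g = σ ^ i * τ) ∧
    (∀ g ∈ (P : Subgroup G), g * zz n σ = zz n σ * g) ∧
    orderOf (zz n σ) = 2 ∧
    τ ∉ Subgroup.zpowers σ ∧
    Nonempty ((P : Subgroup G) ≃* DihedralGroup (2 ^ (n - 1))) := by
  classical
  obtain ⟨ha, hb, hm4, hba⟩ := ctx_basic h
  obtain ⟨hzz, hord, hτz⟩ := zz_facts h
  have hn := h.hn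
  have : NeZero (2 ^ (n - 1)) := ⟨by positivity⟩
  have hab := h.hrel
  have ho : orderOf σ = 2 ^ (n - 1) := h.hσo
  have hrange : (dihHom σ τ (2 ^ (n - 1)) ha hb hab).range = (P : Subgroup G) := by
    rw [← h.hgen]
    apply le_antisymm
    · rintro g ⟨x, rfl⟩
      have hσc : σ ∈ Subgroup.closure ({σ, τ} : Set G) := Subgroup.subset_closure (by simp)
      have hτc : τ ∈ Subgroup.closure ({σ, τ} : Set G) := Subgroup.subset_closure (by simp)
      rcases x with i | i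
      · rw [dihHom_r]
        exact Subgroup.pow_mem _ hσc _
      · rw [dihHom_sr]
        exact Subgroup.mul_mem _ hτc (Subgroup.pow_mem _ hσc _)
    · rw [Subgroup.closure_le]
      intro g hg
      rcases hg with rfl | hg
      · refine ⟨DihedralGroup.r ((1 : ℕ) : ZMod (2 ^ (n - 1))), ?_⟩
        rw [dihHom_r, pw_natCast ha, pow_one]
      · rw [Set.mem_singleton_iff] at hg
        subst hg
        refine ⟨DihedralGroup.sr 0, ?_⟩
        rw [dihHom_sr, pw_zero, mul_one]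
  have hinj := dihHom_injective σ τ (2 ^ (n - 1)) ha hb hab ho hba
  have hiso : Nonempty ((P : Subgroup G) ≃* DihedralGroup (2 ^ (n - 1))) :=
    ⟨((MonoidHom.ofInjective hinj).trans (MulEquiv.subgroupCongr hrange)).symm⟩
  have hcard : Nat.card (P : Subgroup G) = 2 ^ n := by
    obtain ⟨e⟩ := hiso
    rw [Nat.card_congr e.toEquiv, DihedralGroup.nat_card, ← pow_succ']
    congr 1; omega
  have hel : ∀ g ∈ (P : Subgroup G), ∃ i : ℕ, g = σ ^ i ∨ g = σ ^ i * τ := by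
    intro g hg
    rw [← hrange] at hg
    rcases (mem_dihHom_range σ τ (2 ^ (n - 1)) ha hb hab g).mp hg with ⟨i, rfl⟩ | ⟨i, rfl⟩
    · exact ⟨i.val, Or.inl rfl⟩
    · refine ⟨(-i).val, Or.inr ?_⟩
      have := mul_pw_of_inv ha hab (-i)
      rw [neg_neg] at this
      exact this.symm
  refine ⟨hcard, hel, ?_, hord, hba, hiso⟩
  intro g hg
  have hσz : ∀ i : ℕ, σ ^ i * zz n σ = zz n σ * σ ^ i := by
    intro i
    unfold zz
    rw [← pow_add, ← pow_add, add_comm]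
  obtain ⟨i, rfl | rfl⟩ := hel g hg
  · exact hσz i
  · rw [mul_assoc, hτz, ← mul_assoc, hσz, mul_assoc]

end Cfsg.Agent.Lib.Helper55.DihOrd
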