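import Mathlib
import Cfsg.Agent.Lib.Helper46.DihOrdDefs
import Cfsg.Agent.Lib.Helper55.DihOrdDih

/-!
# S4482 module [INV] (helper46, board #4033): every involution of `G` is conjugate to `z`.
-/

open Cfsg Cfsg.Agent.Lib.Helper46.DihOrd

namespace Cfsg.Agent.Lib.Helper55.DihOrd

variable {G : Type*} [Group G] [Fintype G]

/-- **[INV]** (helper46, board #4033). -/
theorem isConj_zz_iff [Finite G] {n : ℕ} {P : Sylow 2 G} {σ τ : G} (h : Ctx n P σ τ) (u : G) :
    IsConj (zz n σ) u ↔ u * u = 1 ∧ u ≠ 1 := by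
  classical
  obtain ⟨ha, hb, hm4, hba⟩ := ctx_basic h
  obtain ⟨hzz, hord, hτz⟩ := zz_facts h
  obtain ⟨hcard, hel, hcen, -, -, -⟩ := dih_facts h
  have hn := h.hn
  have hz1 : zz n σ ≠ 1 := by
    intro e
    rw [e, orderOf_one] at hord
    omega
  constructor
  · intro hc
    obtain ⟨c, rfl⟩ := isConj_iff.mp hc
    constructor
    · calc c * zz n σ * c⁻¹ * (c * zz n σ * c⁻¹) = c * (zz n σ * zz n σ) * c⁻¹ := by group
        _ = 1 := by rw [hzz]; group
    · intro e
      apply hz1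
      have : zz n σ = c⁻¹ * (c * zz n σ * c⁻¹) * c := by group
      rw [this, e]; group
  · rintro ⟨hu2, hu1⟩
    -- conjugate `u` into `P`
    have huo : orderOf u = 2 := orderOf_eq_prime (by rw [pow_two]; exact hu2) hu1
    have hup : IsPGroup 2 (Subgroup.zpowers u) := by
      apply IsPGroup.of_card (n := 1)
      rw [Nat.card_zpowers, huo, pow_one]
    obtain ⟨Q, hQ⟩ := hup.exists_le_sylow
    obtain ⟨g, hg⟩ := MulAction.exists_smul_eq G Q P
    have hgu : g * u * g⁻¹ ∈ (P : Subgroup G) := by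
      rw [← hg, Sylow.coe_subgroup_smul]
      have := Subgroup.smul_mem_pointwise_smul u (MulAut.conj g) (Q : Subgroup G)
        (hQ (Subgroup.mem_zpowers u))
      simpa [MulAut.smul_def] using this
    set u' := g * u * g⁻¹ with hu'
    have hcu : IsConj u u' := isConj_iff.mpr ⟨g, rfl⟩
    have hu'2 : u' * u' = 1 := by
      calc u' * u' = g * (u * u) * g⁻¹ := by rw [hu']; group
        _ = 1 := by rw [hu2]; group
    have hu'1 : u' ≠ 1 := by
      intro e
      apply hu1
      have : u = g⁻¹ * u' * g := by rw [hu']; group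
      rw [this, e]; group
    suffices hs : IsConj (zz n σ) u' from hs.trans hcu.symm
    obtain ⟨i, e | e⟩ := hel u' hgu
    · -- `u' = σ ^ i` is the involution of `⟨σ⟩`
      have h2i : σ ^ (2 * i) = 1 := by
        rw [mul_comm, pow_mul, pow_two, ← e]; exact hu'2
      have hdvd : 2 ^ (n - 1) ∣ 2 * i := by
        rw [← h.hσo]; exact orderOf_dvd_of_pow_eq_one h2i
      have hsplit : 2 ^ (n - 1) = 2 * 2 ^ (n - 2) := by
        rw [← pow_succ']; congr 1; omega
      rw [hsplit] at hdvd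
      have hdvd' : 2 ^ (n - 2) ∣ i := (Nat.mul_dvd_mul_iff_left two_pos).mp hdvd
      obtain ⟨k, rfl⟩ := hdvd'
      have e' : u' = zz n σ ^ k := by
        rw [e]; unfold zz; rw [pow_mul]
      rcases Nat.even_or_odd k with ⟨j, rfl⟩ | ⟨j, rfl⟩
      · exfalso
        apply hu'1
        rw [e', ← two_mul, pow_mul, pow_two, hzz, one_pow]
      · have : u' = zz n σ := by
          rw [e', pow_succ, pow_mul, pow_two, hzz, one_pow, one_mul]
        rw [this]
    · -- `u' = σ ^ i * τ` is conjugate to `τ` or `σ * τ`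
      have hτσ : ∀ k : ℕ, τ * σ ^ k = (σ ^ k)⁻¹ * τ := by
        intro k
        have h1 : τ * σ ^ k * τ⁻¹ = (σ ^ k)⁻¹ := by
          rw [← conj_pow, h.hrel, inv_pow]
        calc τ * σ ^ k = (τ * σ ^ k * τ⁻¹) * τ := by group
          _ = (σ ^ k)⁻¹ * τ := by rw [h1]
      have hconjk : ∀ k e₀ : ℕ, IsConj (σ ^ e₀ * τ) (σ ^ (2 * k + e₀) * τ) := by
        intro k e₀
        refine isConj_iff.mpr ⟨σ ^ k, ?_⟩
        have hτσ' : τ * (σ ^ k)⁻¹ = σ ^ k * τ := by
          have h1 := hτσ k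
          calc τ * (σ ^ k)⁻¹ = σ ^ k * ((σ ^ k)⁻¹ * τ) * (σ ^ k)⁻¹ := by group
            _ = σ ^ k * (τ * σ ^ k) * (σ ^ k)⁻¹ := by rw [h1]
            _ = σ ^ k * τ := by group
        calc σ ^ k * (σ ^ e₀ * τ) * (σ ^ k)⁻¹
            = σ ^ k * σ ^ e₀ * (τ * (σ ^ k)⁻¹) := by group
          _ = σ ^ k * σ ^ e₀ * (σ ^ k * τ) := by rw [hτσ']
          _ = σ ^ (2 * k + e₀) * τ := by
              rw [← mul_assoc, ← pow_add, ← pow_add]; congr 2; omega
      rcases Nat.even_or_odd' i with ⟨k, rfl | rfl⟩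
      · have h0 := hconjk k 0
        rw [pow_zero, one_mul, add_zero] at h0
        rw [e]
        exact (show IsConj (zz n σ) τ from h.hconj.1).trans h0
      · have h1 := hconjk k 1
        rw [pow_one] at h1
        rw [e]
        exact (show IsConj (zz n σ) (σ * τ) from h.hconj.2).trans h1

end Cfsg.Agent.Lib.Helper55.DihOrd
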