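import Mathlib

/-!
# S3822 module [SEC3818] (helper2, board #3938)

The `ZMod q`-representation of `A` on the section `U₀ / Φ` by conjugation, and the
translation of the fixed-space bound `h3818` into an index inequality.
-/

open Module
open scoped commutatorElement

universe u v

namespace Cfsg.Agent.Lib.Helper55.FlavellSec

section abstract

variable {U : Type u} [Group U] (N : Subgroup U) [N.Normal] (q : ℕ)

/-- the hypotheses making `U ⧸ N` an elementary abelian `q`-group. -/
structure SecHyp : Prop where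
  hab : ∀ a b : U, ⁅a, b⁆ ∈ N
  hexp : ∀ a : U, a ^ q ∈ N

/-- commutative group structure on `U ⧸ N` when all commutators lie in `N`. -/
@[reducible] def quotCommGroup (hab : ∀ a b : U, ⁅a, b⁆ ∈ N) : CommGroup (U ⧸ N) :=
  { (inferInstance : Group (U ⧸ N)) with
    mul_comm := by
      intro x y
      induction x using QuotientGroup.induction_on with
      | _ a =>
        induction y using QuotientGroup.induction_on with
        | _ b =>
          rw [← QuotientGroup.mk_mul, ← QuotientGroup.mk_mul, QuotientGroup.eq]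
          have h := hab b⁻¹ a⁻¹
          rw [commutatorElement_def] at h
          simpa [mul_assoc] using h }

/-- the section `U / N`, written additively. -/
def SecW (_h : SecHyp N q) : Type u := Additive (U ⧸ N)

variable {N q} (h : SecHyp N q)

instance : AddCommGroup (SecW N q h) :=
  @Additive.addCommGroup (U ⧸ N) (quotCommGroup N h.hab)

/-- the class of an element. -/
def smk (w : U) : SecW N q h := Additive.ofMul (QuotientGroup.mk w : U ⧸ N)

theorem smk_mul (a b : U) : smk h (a * b) = smk h a + smk h b := rfl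
theorem smk_one : smk h (1 : U) = 0 := rfl
theorem smk_inv (a : U) : smk h a⁻¹ = - smk h a := rfl

/-- the quotient as the section. -/
def sof (y : U ⧸ N) : SecW N q h := Additive.ofMul y
/-- the section as the quotient. -/
def sto (s : SecW N q h) : U ⧸ N := Additive.toMul s

theorem sof_mul (a b : U ⧸ N) : sof h (a * b) = sof h a + sof h b := rfl
theorem sof_one : sof h (1 : U ⧸ N) = 0 := rfl
theorem sof_inv (a : U ⧸ N) : sof h a⁻¹ = - sof h a := rfl
theorem sof_mk (w : U) : sof h (QuotientGroup.mk w) = smk h w := rfl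
theorem sof_sto (s : SecW N q h) : sof h (sto h s) = s := rfl
theorem sto_sof (y : U ⧸ N) : sto h (sof h y) = y := rfl

theorem smk_surjective : Function.Surjective (smk h) := by
  intro s
  obtain ⟨y, rfl⟩ := Additive.ofMul.surjective s
  obtain ⟨w, rfl⟩ := QuotientGroup.mk_surjective y
  exact ⟨w, rfl⟩

theorem smk_eq_iff (a b : U) : smk h a = smk h b ↔ a⁻¹ * b ∈ N := by
  constructor
  · intro e
    have e1 : (QuotientGroup.mk a : U ⧸ N) = QuotientGroup.mk b := Additive.ofMul.injective e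
    exact QuotientGroup.eq.mp e1
  · intro e
    have e1 : (QuotientGroup.mk a : U ⧸ N) = QuotientGroup.mk b := QuotientGroup.eq.mpr e
    exact congrArg Additive.ofMul e1

theorem smk_eq_zero_iff (a : U) : smk h a = 0 ↔ a ∈ N := by
  rw [← smk_one h, smk_eq_iff]
  constructor
  · intro e
    have := N.inv_mem e
    simpa using this
  · intro e
    have := N.inv_mem e
    simpa using this

theorem nsmul_smk (n : ℕ) (a : U) : n • smk h a = smk h (a ^ n) := by
  induction n with
  | zero => simp [smk_one]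
  | succ k ih => rw [succ_nsmul, ih, pow_succ, smk_mul]

theorem q_nsmul (s : SecW N q h) : q • s = 0 := by
  obtain ⟨w, rfl⟩ := smk_surjective h s
  rw [nsmul_smk, smk_eq_zero_iff]
  exact h.hexp w

instance : Module (ZMod q) (SecW N q h) := AddCommGroup.zmodModule (q_nsmul h)

instance [Finite U] : Finite (SecW N q h) := inferInstanceAs (Finite (Additive (U ⧸ N)))

theorem card_secW : Nat.card (SecW N q h) = N.index := by
  rw [Subgroup.index_eq_card]
  exact Nat.card_congr Additive.toMul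

variable {T : Type u} [Group T] (φ : T →* MulAut U)

/-- the induced additive endomorphism of the section. -/
noncomputable def sEnd (hφ : ∀ t, ∀ n ∈ N, φ t n ∈ N) (t : T) : SecW N q h →+ SecW N q h :=
  MonoidHom.toAdditive (QuotientGroup.map N N (φ t).toMonoidHom (fun n hn => hφ t n hn))

theorem sEnd_smk (hφ : ∀ t, ∀ n ∈ N, φ t n ∈ N) (t : T) (w : U) :
    sEnd h φ hφ t (smk h w) = smk h (φ t w) := rfl

/-- the representation of `T` on the section. -/
noncomputable def srep (hφ : ∀ t, ∀ n ∈ N, φ t n ∈ N) : Representation (ZMod q) T (SecW N q h) where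
  toFun t := (sEnd h φ hφ t).toZModLinearMap q
  map_one' := by
    apply LinearMap.ext
    intro s
    obtain ⟨w, rfl⟩ := smk_surjective h s
    show sEnd h φ hφ 1 (smk h w) = smk h w
    rw [sEnd_smk, map_one]; rfl
  map_mul' := by
    intro a b
    apply LinearMap.ext
    intro s
    obtain ⟨w, rfl⟩ := smk_surjective h s
    show sEnd h φ hφ (a * b) (smk h w) = sEnd h φ hφ a (sEnd h φ hφ b (smk h w))
    rw [sEnd_smk, sEnd_smk, sEnd_smk, map_mul]; rfl

theorem srep_smk (hφ : ∀ t, ∀ n ∈ N, φ t n ∈ N) (t : T) (w : U) :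
    srep h φ hφ t (smk h w) = smk h (φ t w) := rfl

include h in
theorem abstract_sec [Finite U] [hq : Fact q.Prime]
    (hφ : ∀ t, ∀ n ∈ N, φ t n ∈ N) (hN : N ≠ ⊤)
    (x : T)
    (h3818 : ∀ (W : Type u) [AddCommGroup W] [Module (ZMod q) W] [FiniteDimensional (ZMod q) W]
      [Nontrivial W] (ρ : Representation (ZMod q) T W),
      (∀ S : Submodule (ZMod q) W, (∀ g, S ≤ S.comap (ρ g)) → S = ⊥ ∨ S = ⊤) → ρ x ≠ 1 →
      2 * finrank (ZMod q) ↥(LinearMap.ker (ρ x - LinearMap.id)) < finrank (ZMod q) W)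
    (hirr : ∀ V : Subgroup U, (∀ t, ∀ v ∈ V, φ t v ∈ V) → N ≤ V → V = N ∨ V = ⊤)
    (hxnt : ∃ w : U, w⁻¹ * φ x w ∉ N)
    (C : Subgroup U) (hC : ∀ w, w ∈ C ↔ w⁻¹ * φ x w ∈ N) :
    (N.relIndex C) ^ 2 < N.index := by
  classical
  have : FiniteDimensional (ZMod q) (SecW N q h) := Module.Finite.of_finite
  have : Nontrivial (SecW N q h) := by
    obtain ⟨w, hw⟩ : ∃ w : U, w ∉ N := by
      by_contra hcon
      push Not at hcon
      exact hN (eq_top_iff.mpr fun w _ => hcon w)
    refine ⟨⟨smk h w, 0, ?_⟩⟩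
    intro e
    exact hw ((smk_eq_zero_iff h w).mp e)
  set ρ := srep h φ hφ with hρdef
  have hρ : ∀ t (w : U), ρ t (smk h w) = smk h (φ t w) := fun t w => rfl
  -- irreducibility
  have hirrW : ∀ S : Submodule (ZMod q) (SecW N q h), (∀ g, S ≤ S.comap (ρ g)) →
      S = ⊥ ∨ S = ⊤ := by
    intro S hS
    let V : Subgroup U :=
      { carrier := {w | smk h w ∈ S}
        one_mem' := by
          show smk h 1 ∈ S
          rw [smk_one]; exact S.zero_mem
        mul_mem' := by
          intro a b ha hb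
          show smk h (a * b) ∈ S
          rw [smk_mul]; exact S.add_mem ha hb
        inv_mem' := by
          intro a ha
          show smk h a⁻¹ ∈ S
          rw [smk_inv]; exact S.neg_mem ha }
    have hVmem : ∀ w, w ∈ V ↔ smk h w ∈ S := fun w => Iff.rfl
    have hVinv : ∀ t, ∀ v ∈ V, φ t v ∈ V := by
      intro t v hv
      rw [hVmem] at hv ⊢
      rw [← hρ]
      exact hS t hv
    have hNV : N ≤ V := by
      intro n hn
      rw [hVmem, (smk_eq_zero_iff h n).mpr hn]
      exact S.zero_mem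
    rcases hirr V hVinv hNV with e | e
    · left
      rw [eq_bot_iff]
      intro s hs
      obtain ⟨w, rfl⟩ := smk_surjective h s
      have hw : w ∈ V := (hVmem w).mpr hs
      rw [e] at hw
      exact (Submodule.mem_bot _).mpr ((smk_eq_zero_iff h w).mpr hw)
    · right
      rw [eq_top_iff]
      intro s _
      obtain ⟨w, rfl⟩ := smk_surjective h s
      have hw : w ∈ V := by rw [e]; exact Subgroup.mem_top w
      exact (hVmem w).mp hw
  -- fixed points
  have hfixiff : ∀ w : U, smk h w ∈ LinearMap.ker (ρ x - LinearMap.id) ↔ w ∈ C := by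
    intro w
    rw [LinearMap.mem_ker, LinearMap.sub_apply, LinearMap.id_apply, sub_eq_zero, hρ, hC,
      eq_comm, smk_eq_iff]
  have hρx : ρ x ≠ 1 := by
    intro e
    obtain ⟨w, hw⟩ := hxnt
    apply hw
    rw [← hC, ← hfixiff, e]
    simp
  have key := h3818 (SecW N q h) ρ hirrW hρx
  -- cardinalities
  have hq1 : 1 < q := hq.out.one_lt
  have hcardW : Nat.card (SecW N q h) = q ^ finrank (ZMod q) (SecW N q h) := by
    have := Module.natCard_eq_pow_finrank (K := ZMod q) (V := SecW N q h)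
    rwa [Nat.card_zmod] at this
  have hcardK : Nat.card ↥(LinearMap.ker (ρ x - LinearMap.id)) =
      q ^ finrank (ZMod q) ↥(LinearMap.ker (ρ x - LinearMap.id)) := by
    have := Module.natCard_eq_pow_finrank (K := ZMod q)
      (V := ↥(LinearMap.ker (ρ x - LinearMap.id)))
    rwa [Nat.card_zmod] at this
  have hWidx : Nat.card (SecW N q h) = N.index := card_secW h
  -- the subgroup of `U` corresponding to the kernel is `C`; count via the quotient map
  let K' : Subgroup (U ⧸ N) :=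
    { carrier := {y | sof h y ∈ LinearMap.ker (ρ x - LinearMap.id)}
      one_mem' := by
        show sof h 1 ∈ LinearMap.ker (ρ x - LinearMap.id)
        rw [sof_one]; exact Submodule.zero_mem _
      mul_mem' := by
        intro a b ha hb
        show sof h (a * b) ∈ LinearMap.ker (ρ x - LinearMap.id)
        rw [sof_mul]; exact Submodule.add_mem _ ha hb
      inv_mem' := by
        intro a ha
        show sof h a⁻¹ ∈ LinearMap.ker (ρ x - LinearMap.id)
        rw [sof_inv]; exact Submodule.neg_mem _ ha }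
  have hK'card : Nat.card K' = Nat.card ↥(LinearMap.ker (ρ x - LinearMap.id)) := by
    refine Nat.card_congr
      { toFun := fun y => ⟨sof h (y : U ⧸ N), y.2⟩
        invFun := fun s => ⟨sto h (s : SecW N q h), s.2⟩
        left_inv := fun y => rfl
        right_inv := fun s => rfl }
  have hCcomap : C = K'.comap (QuotientGroup.mk' N) := by
    ext w
    rw [Subgroup.mem_comap, ← hfixiff]
    rfl
  have hCidx : C.index = K'.index := by
    rw [hCcomap]
    exact Subgroup.index_comap_of_surjective K' (QuotientGroup.mk'_surjective N)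
  have hNC : N ≤ C := by
    intro n hn
    rw [hC]
    exact N.mul_mem (N.inv_mem hn) (hφ x n hn)
  have h1 : Nat.card K' * K'.index = N.index := by
    rw [Subgroup.card_mul_index, ← Subgroup.index_eq_card]
  have h2 : N.relIndex C * C.index = N.index := Subgroup.relIndex_mul_index hNC
  have hCne : C.index ≠ 0 := Subgroup.index_ne_zero_of_finite
  have h3 : Nat.card K' = N.relIndex C := by
    rw [← hCidx] at h1
    exact Nat.eq_of_mul_eq_mul_right (Nat.pos_of_ne_zero hCne) (h1.trans h2.symm)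
  rw [← h3, hK'card, hcardK, ← hWidx, hcardW, ← pow_mul]
  apply Nat.pow_lt_pow_right hq1
  omega

end abstract

section concrete

variable {G : Type u} [Group G]

theorem le_normalizer_of_conj_mem (A H : Subgroup G)
    (hc : ∀ a ∈ A, ∀ u ∈ H, a * u * a⁻¹ ∈ H) : A ≤ Subgroup.normalizer (H : Set G) := by
  intro a ha
  rw [Subgroup.mem_normalizer_iff]
  intro u
  constructor
  · exact hc a ha u
  · intro hu
    have := hc a⁻¹ (A.inv_mem ha) _ hu
    simpa [mul_assoc] using this

theorem conj_mem_of_le_normalizer {A H : Subgroup G} (hA : A ≤ Subgroup.normalizer (H : Set G))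
    {a u : G} (ha : a ∈ A) (hu : u ∈ H) : a * u * a⁻¹ ∈ H :=
  (Subgroup.mem_normalizer_iff.mp (hA ha) u).mp hu

/-- conjugation action of `A` on a subgroup it normalizes. -/
noncomputable def conjAut (A U₀ : Subgroup G) (hAU : A ≤ Subgroup.normalizer (U₀ : Set G)) :
    ↥A →* MulAut ↥U₀ where
  toFun a :=
    { toFun := fun w => ⟨(a : G) * w * (a : G)⁻¹, conj_mem_of_le_normalizer hAU a.2 w.2⟩
      invFun := fun w => ⟨(a : G)⁻¹ * w * (a : G), by
        have := conj_mem_of_le_normalizer hAU (A.inv_mem a.2) w.2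
        simpa using this⟩
      left_inv := fun w => by
        apply Subtype.ext
        simp [mul_assoc]
      right_inv := fun w => by
        apply Subtype.ext
        simp [mul_assoc]
      map_mul' := fun w w' => by
        apply Subtype.ext
        simp [mul_assoc] }
  map_one' := by
    apply MulEquiv.ext
    intro w
    apply Subtype.ext
    simp
  map_mul' := fun a b => by
    apply MulEquiv.ext
    intro w
    apply Subtype.ext
    simp [mul_assoc]

theorem conjAut_coe (A U₀ : Subgroup G) (hAU : A ≤ Subgroup.normalizer (U₀ : Set G))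
    (a : ↥A) (w : ↥U₀) : ((conjAut A U₀ hAU a w : ↥U₀) : G) = (a : G) * w * (a : G)⁻¹ := rfl

theorem comm_mem_iff {U₀ Φ : Subgroup G} (hUΦ : U₀ ≤ Subgroup.normalizer (Φ : Set G))
    {w : G} (hw : w ∈ U₀) (x : G) : w⁻¹ * (x * w * x⁻¹) ∈ Φ ↔ ⁅w, x⁆ ∈ Φ := by
  have e : w⁻¹ * (x * w * x⁻¹) = w⁻¹ * ⁅w, x⁆⁻¹ * w⁻¹⁻¹ := by
    rw [commutatorElement_def]; group
  rw [e]
  constructor
  · intro hm
    have h1 := conj_mem_of_le_normalizer hUΦ hw hm
    have h2 : w * (w⁻¹ * ⁅w, x⁆⁻¹ * w⁻¹⁻¹) * w⁻¹ = ⁅w, x⁆⁻¹ := by group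
    rw [h2] at h1
    simpa using Φ.inv_mem h1
  · intro hm
    exact conj_mem_of_le_normalizer hUΦ (U₀.inv_mem hw) (Φ.inv_mem hm)

/-- **[SEC3818]** (helper2, board #3938). -/
theorem sec3818 {G : Type u} [Group G] [Finite G] {p : ℕ} [Fact p.Prime] {q : ℕ} [Fact q.Prime]
    (A U₀ Φ Cx : Subgroup G) (x : G) (hxA : x ∈ A)
    (h3818 : ∀ (W : Type u) [AddCommGroup W] [Module (ZMod q) W] [FiniteDimensional (ZMod q) W]
      [Nontrivial W] (ρ : Representation (ZMod q) ↥A W),
      (∀ S : Submodule (ZMod q) W, (∀ g, S ≤ S.comap (ρ g)) → S = ⊥ ∨ S = ⊤) →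
      ρ ⟨x, hxA⟩ ≠ 1 →
      2 * finrank (ZMod q) ↥(LinearMap.ker (ρ ⟨x, hxA⟩ - LinearMap.id)) < finrank (ZMod q) W)
    (hΦU : Φ < U₀) (hAU₀ : A ≤ Subgroup.normalizer (U₀ : Set G))
    (hAΦ : A ≤ Subgroup.normalizer (Φ : Set G)) (hUΦ : U₀ ≤ Subgroup.normalizer (Φ : Set G))
    (hab : ∀ w ∈ U₀, ∀ w' ∈ U₀, ⁅w, w'⁆ ∈ Φ) (hexp : ∀ w ∈ U₀, w ^ q ∈ Φ)
    (hirr : ∀ U₁ : Subgroup G, A ≤ Subgroup.normalizer (U₁ : Set G) → Φ ≤ U₁ → U₁ ≤ U₀ →
      U₁ = Φ ∨ U₁ = U₀)
    (hxnt : ∃ w ∈ U₀, ⁅w, x⁆ ∉ Φ) (hCx : ∀ w, w ∈ Cx ↔ w ∈ U₀ ∧ ⁅w, x⁆ ∈ Φ) :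
    (Φ.relIndex Cx) ^ 2 < Φ.relIndex U₀ := by
  classical
  have hΦle : Φ ≤ U₀ := hΦU.le
  have hNn : (Φ.subgroupOf U₀).Normal :=
    (Subgroup.normal_subgroupOf_iff_le_normalizer hΦle).mpr hUΦ
  have hsec : SecHyp (Φ.subgroupOf U₀) q :=
    { hab := fun a b => by
        rw [Subgroup.mem_subgroupOf]
        exact hab a a.2 b b.2
      hexp := fun a => by
        rw [Subgroup.mem_subgroupOf]
        exact hexp a a.2 }
  have hφ : ∀ t : ↥A, ∀ n ∈ Φ.subgroupOf U₀, conjAut A U₀ hAU₀ t n ∈ Φ.subgroupOf U₀ := by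
    intro t n hn
    rw [Subgroup.mem_subgroupOf] at hn ⊢
    rw [conjAut_coe]
    exact conj_mem_of_le_normalizer hAΦ t.2 hn
  have hN : Φ.subgroupOf U₀ ≠ ⊤ := by
    intro e
    obtain ⟨w, hw, hwn⟩ := SetLike.exists_of_lt hΦU
    have : (⟨w, hw⟩ : ↥U₀) ∈ Φ.subgroupOf U₀ := by rw [e]; exact Subgroup.mem_top _
    exact hwn (Subgroup.mem_subgroupOf.mp this)
  have hCxle : Cx ≤ U₀ := fun w hw => ((hCx w).mp hw).1
  have hirr' : ∀ V : Subgroup ↥U₀, (∀ t : ↥A, ∀ v ∈ V, conjAut A U₀ hAU₀ t v ∈ V) →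
      Φ.subgroupOf U₀ ≤ V → V = Φ.subgroupOf U₀ ∨ V = ⊤ := by
    intro V hV hNV
    have hVeq : V = (V.map U₀.subtype).subgroupOf U₀ := by
      rw [Subgroup.subgroupOf, Subgroup.comap_map_eq_self_of_injective U₀.subtype_injective]
    have h1 : A ≤ Subgroup.normalizer ((V.map U₀.subtype : Subgroup G) : Set G) := by
      apply le_normalizer_of_conj_mem
      intro a ha u hu
      obtain ⟨v, hv, rfl⟩ := Subgroup.mem_map.mp hu
      exact Subgroup.mem_map.mpr ⟨conjAut A U₀ hAU₀ ⟨a, ha⟩ v, hV ⟨a, ha⟩ v hv, rfl⟩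
    have h2 : Φ ≤ V.map U₀.subtype := by
      intro n hn
      exact Subgroup.mem_map.mpr ⟨⟨n, hΦle hn⟩, hNV (Subgroup.mem_subgroupOf.mpr hn), rfl⟩
    have h3 : V.map U₀.subtype ≤ U₀ := by
      intro u hu
      obtain ⟨v, _, rfl⟩ := Subgroup.mem_map.mp hu
      exact v.2
    rcases hirr _ h1 h2 h3 with e | e
    · left; rw [hVeq, e]
    · right; rw [hVeq, e]; exact Subgroup.subgroupOf_self U₀
  have hxnt' : ∃ w : ↥U₀, w⁻¹ * conjAut A U₀ hAU₀ ⟨x, hxA⟩ w ∉ Φ.subgroupOf U₀ := by
    obtain ⟨w, hw, hwn⟩ := hxnt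
    refine ⟨⟨w, hw⟩, ?_⟩
    rw [Subgroup.mem_subgroupOf]
    intro hm
    apply hwn
    rw [← comm_mem_iff hUΦ hw x]
    simpa [conjAut_coe] using hm
  have hC' : ∀ w : ↥U₀, w ∈ Cx.subgroupOf U₀ ↔
      w⁻¹ * conjAut A U₀ hAU₀ ⟨x, hxA⟩ w ∈ Φ.subgroupOf U₀ := by
    intro w
    rw [Subgroup.mem_subgroupOf, Subgroup.mem_subgroupOf, hCx]
    have e : ((w⁻¹ * conjAut A U₀ hAU₀ ⟨x, hxA⟩ w : ↥U₀) : G) = (w : G)⁻¹ * (x * w * x⁻¹) := by
      simp [conjAut_coe]
    rw [e, comm_mem_iff hUΦ w.2 x]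
    exact ⟨fun hh => hh.2, fun hh => ⟨w.2, hh⟩⟩
  have key := abstract_sec (N := Φ.subgroupOf U₀) (q := q) hsec (conjAut A U₀ hAU₀) hφ hN
    ⟨x, hxA⟩ h3818 hirr' hxnt' (Cx.subgroupOf U₀) hC'
  rw [Subgroup.relIndex_subgroupOf hCxle] at key
  exact key

end concrete

end Cfsg.Agent.Lib.Helper55.FlavellSec
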