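import Mathlib
import Cfsg.Prelude.Def_Solvable
import Cfsg.Agent.Lib.Helper2.HuppertDefs
import Cfsg.Agent.Lib.Helper55.HuppertA8

set_option autoImplicit false

/-!
# S3360-[D2c], part A (helper55, for helper2 #4952): scaling-commutation calculus

`SC ρ g w c` : `ρ g ∘ ρ w = c • (ρ w ∘ ρ g)`.
-/

open Cfsg Module
open Cfsg.Agent.Lib.Helper2.Huppert

namespace Cfsg.Agent.Lib.Helper55.Huppert

variable {q : ℕ} [Fact q.Prime] {V : Type*} [AddCommGroup V] [Module (ZMod q) V]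
  {G : Type*} [Group G]

/-- `ρ g` and `ρ w` commute up to the scalar `c` -/
def SC (ρ : G →* (V ≃ₗ[ZMod q] V)) (g w : G) (c : ZMod q) : Prop :=
  ∀ v : V, ρ g (ρ w v) = c • ρ w (ρ g v)

theorem rho_mul_apply (ρ : G →* (V ≃ₗ[ZMod q] V)) (a b : G) (v : V) :
    ρ (a * b) v = ρ a (ρ b v) := by
  rw [map_mul]; rfl

theorem rho_inv_apply (ρ : G →* (V ≃ₗ[ZMod q] V)) (a : G) (v : V) : ρ a⁻¹ (ρ a v) = v := by
  rw [← rho_mul_apply, inv_mul_cancel, map_one]; rfl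

theorem rho_apply_inv (ρ : G →* (V ≃ₗ[ZMod q] V)) (a : G) (v : V) : ρ a (ρ a⁻¹ v) = v := by
  rw [← rho_mul_apply, mul_inv_cancel, map_one]; rfl

theorem SC.mul {ρ : G →* (V ≃ₗ[ZMod q] V)} {g h w : G} {c d : ZMod q} (hg : SC ρ g w c)
    (hh : SC ρ h w d) : SC ρ (g * h) w (c * d) := by
  intro v
  rw [rho_mul_apply, hh v, map_smul, hg (ρ h v), rho_mul_apply, smul_smul, mul_comm]

theorem SC.refl (ρ : G →* (V ≃ₗ[ZMod q] V)) (g : G) : SC ρ g g 1 := by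
  intro v; rw [one_smul]

theorem SC.one_left (ρ : G →* (V ≃ₗ[ZMod q] V)) (w : G) : SC ρ 1 w 1 := by
  intro v; rw [one_smul, map_one]; rfl

theorem SC.ne_zero [Nontrivial V] {ρ : G →* (V ≃ₗ[ZMod q] V)} {g w : G} {c : ZMod q}
    (h : SC ρ g w c) : c ≠ 0 := by
  rintro rfl
  obtain ⟨v, hv⟩ := exists_ne (0 : V)
  have h1 := h v
  rw [zero_smul] at h1
  have h2 : ρ w v = 0 := (ρ g).injective (by rw [h1, map_zero])
  have h3 : v = 0 := (ρ w).injective (by rw [h2, map_zero])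
  exact hv h3

theorem SC.inv_left [Nontrivial V] {ρ : G →* (V ≃ₗ[ZMod q] V)} {g w : G} {c : ZMod q}
    (h : SC ρ g w c) : SC ρ g⁻¹ w c⁻¹ := by
  have hc : c ≠ 0 := h.ne_zero
  intro v
  apply (ρ g).injective
  rw [rho_apply_inv, map_smul, h (ρ g⁻¹ v), rho_apply_inv, smul_smul, inv_mul_cancel₀ hc, one_smul]

theorem SC.symm [Nontrivial V] {ρ : G →* (V ≃ₗ[ZMod q] V)} {g w : G} {c : ZMod q}
    (h : SC ρ g w c) : SC ρ w g c⁻¹ := by
  have hc : c ≠ 0 := h.ne_zero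
  intro v
  rw [h v, smul_smul, inv_mul_cancel₀ hc, one_smul]

theorem SC.mul_right [Nontrivial V] {ρ : G →* (V ≃ₗ[ZMod q] V)} {g w u : G} {c d : ZMod q}
    (hw : SC ρ g w c) (hu : SC ρ g u d) : SC ρ g (w * u) (c * d) := by
  have h1 := (hw.symm.mul hu.symm).symm
  rwa [mul_inv_rev, inv_inv, inv_inv, mul_comm] at h1

/-- `SC g w 1` is commutation -/
theorem SC.commute_iff {ρ : G →* (V ≃ₗ[ZMod q] V)} (hρ : Function.Injective ρ) (g w : G) :
    SC ρ g w 1 ↔ g * w = w * g := by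
  constructor
  · intro h
    apply hρ
    ext v
    rw [rho_mul_apply, rho_mul_apply, h v, one_smul]
  · intro h v
    rw [one_smul, ← rho_mul_apply, h, rho_mul_apply]

/-- a scalar commutator gives `SC` -/
theorem SC.of_isScalar {ρ : G →* (V ≃ₗ[ZMod q] V)} {a b : G}
    (h : IsScalar ρ (a * b * a⁻¹ * b⁻¹)) : ∃ c : ZMod q, SC ρ a b c := by
  obtain ⟨c, hc⟩ := h
  refine ⟨c, fun v => ?_⟩
  have h1 := hc (ρ b (ρ a v))
  rw [rho_mul_apply, rho_mul_apply, rho_mul_apply, rho_inv_apply, rho_inv_apply] at h1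
  exact h1

section det

variable [Finite V]

/-- the scalar of a scaling commutation in dimension 2 is `±1` -/
theorem SC.sq_eq_one {ρ : G →* (V ≃ₗ[ZMod q] V)} (hdim : finrank (ZMod q) V = 2) {g w : G}
    {c : ZMod q} (h : SC ρ g w c) : c = 1 ∨ c = -1 := by
  have hA : IsUnit (LinearMap.det ((ρ g : V ≃ₗ[ZMod q] V) : V →ₗ[ZMod q] V)) :=
    LinearEquiv.isUnit_det' _
  have hB : IsUnit (LinearMap.det ((ρ w : V ≃ₗ[ZMod q] V) : V →ₗ[ZMod q] V)) :=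
    LinearEquiv.isUnit_det' _
  have heq : ((ρ g : V ≃ₗ[ZMod q] V) : V →ₗ[ZMod q] V) * ((ρ w : V ≃ₗ[ZMod q] V) : V →ₗ[ZMod q] V)
      = c • (((ρ w : V ≃ₗ[ZMod q] V) : V →ₗ[ZMod q] V) *
        ((ρ g : V ≃ₗ[ZMod q] V) : V →ₗ[ZMod q] V)) := by
    ext v
    exact h v
  have hdet := congrArg LinearMap.det heq
  rw [LinearMap.det_smul, map_mul, map_mul, hdim] at hdet
  have h0 : LinearMap.det ((ρ g : V ≃ₗ[ZMod q] V) : V →ₗ[ZMod q] V) *
      LinearMap.det ((ρ w : V ≃ₗ[ZMod q] V) : V →ₗ[ZMod q] V) ≠ 0 :=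
    mul_ne_zero hA.ne_zero hB.ne_zero
  have h1 : c ^ 2 = 1 := by
    have h2 : (c ^ 2 - 1) * (LinearMap.det ((ρ g : V ≃ₗ[ZMod q] V) : V →ₗ[ZMod q] V) *
        LinearMap.det ((ρ w : V ≃ₗ[ZMod q] V) : V →ₗ[ZMod q] V)) = 0 := by
      linear_combination (-1 : ZMod q) * hdet
    rcases mul_eq_zero.1 h2 with h3 | h3
    · exact sub_eq_zero.1 h3
    · exact absurd h3 h0
  rw [pow_two] at h1
  exact mul_self_eq_one_iff.1 h1

end det

end Cfsg.Agent.Lib.Helper55.Huppert
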