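import Mathlib
import Cfsg.Prelude.Def_Solvable
import Cfsg.Agent.Lib.Helper2.HuppertDefs
import Cfsg.Agent.Lib.Helper55.HuppertD2cA

set_option autoImplicit false

/-!
# S3360-[D2c], part B (helper55, for helper2 #4952): the quaternion-type configuration in dimension 2
-/

open Cfsg Module
open Cfsg.Agent.Lib.Helper2.Huppert

namespace Cfsg.Agent.Lib.Helper55.Huppert

variable {q : ℕ} [Fact q.Prime] {V : Type*} [AddCommGroup V] [Module (ZMod q) V] [Finite V]
  {G : Type*} [Group G]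

theorem SC.unique [Nontrivial V] {ρ : G →* (V ≃ₗ[ZMod q] V)} {g w : G} {c d : ZMod q}
    (h1 : SC ρ g w c) (h2 : SC ρ g w d) : c = d := by
  obtain ⟨v, hv⟩ := exists_ne (0 : V)
  have h3 : c • ρ w (ρ g v) = d • ρ w (ρ g v) := by rw [← h1 v, ← h2 v]
  have h4 : ρ w (ρ g v) ≠ 0 := by
    intro h0
    have h5 : ρ g v = 0 := (ρ w).injective (by rw [h0, map_zero])
    exact hv ((ρ g).injective (by rw [h5, map_zero]))
  have h5 : (c - d) • ρ w (ρ g v) = 0 := by rw [sub_smul, h3, sub_self]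
  rcases smul_eq_zero.1 h5 with h6 | h6
  · exact sub_eq_zero.1 h6
  · exact absurd h6 h4

theorem SC.of_isScalar_left {ρ : G →* (V ≃ₗ[ZMod q] V)} {u : G} (h : IsScalar ρ u) (w : G) :
    SC ρ u w 1 := by
  obtain ⟨c, hc⟩ := h
  intro v
  rw [hc, hc, map_smul, one_smul]

/-- a proper subspace of a plane containing `w ≠ 0` consists of multiples of `w` -/
theorem exists_smul_of_mem (hdim : finrank (ZMod q) V = 2) (W : Submodule (ZMod q) V)
    (hW1 : W ≠ ⊤) (w : V) (hw : w ∈ W) (hw0 : w ≠ 0) (v : V) (hv : v ∈ W) :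
    ∃ c : ZMod q, v = c • w := by
  have : Module.Finite (ZMod q) V := Module.finite_of_finrank_pos (by omega)
  have h1 : finrank (ZMod q) W < 2 := by rw [← hdim]; exact Submodule.finrank_lt hW1
  have hw' : (⟨w, hw⟩ : W) ≠ 0 := by
    intro h0
    exact hw0 (congrArg Subtype.val h0)
  have h2 : 0 < finrank (ZMod q) W := Module.finrank_pos_iff_exists_ne_zero.2 ⟨⟨w, hw⟩, hw'⟩
  have h3 : finrank (ZMod q) W = 1 := by omega
  obtain ⟨c, hc⟩ := (finrank_eq_one_iff_of_nonzero' (⟨w, hw⟩ : W) hw').1 h3 ⟨v, hv⟩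
  refine ⟨c, ?_⟩
  have := congrArg Subtype.val hc
  simpa using this.symm

/-- the hypotheses of [D2c] -/
structure D2Ctx (ρ : G →* (V ≃ₗ[ZMod q] V)) (B : Subgroup G) (x y : G) : Prop where
  hρ : Function.Injective ρ
  hdim : finrank (ZMod q) V = 2
  hB : ∀ a ∈ B, ∀ b ∈ B, IsScalar ρ (a * b * a⁻¹ * b⁻¹)
  hnorm : B.Normal
  hx : x ∈ B
  hy : y ∈ B
  hxy : x * y ≠ y * x

namespace D2Ctx

variable {ρ : G →* (V ≃ₗ[ZMod q] V)} {B : Subgroup G} {x y : G}

theorem nontrivial (c : D2Ctx ρ B x y) : Nontrivial V :=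
  Module.nontrivial_of_finrank_pos (R := ZMod q) (by rw [c.hdim]; omega)

theorem sc_B (c : D2Ctx ρ B x y) {a b : G} (ha : a ∈ B) (hb : b ∈ B) :
    SC ρ a b 1 ∨ SC ρ a b (-1) := by
  obtain ⟨e, he⟩ := SC.of_isScalar (c.hB a ha b hb)
  rcases he.sq_eq_one c.hdim with h | h
  · left; rwa [h] at he
  · right; rwa [h] at he

theorem sc_xy (c : D2Ctx ρ B x y) : SC ρ x y (-1) := by
  rcases c.sc_B c.hx c.hy with h | h
  · exact absurd ((SC.commute_iff c.hρ x y).1 h) c.hxy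
  · exact h

theorem neg_one_ne_one (c : D2Ctx ρ B x y) : (-1 : ZMod q) ≠ 1 := by
  intro h
  have h1 := c.sc_xy
  rw [h] at h1
  exact c.hxy ((SC.commute_iff c.hρ x y).1 h1)

theorem neg_one_eq_one_zmod_two : (-1 : ZMod 2) = 1 := by decide

theorem q_ne_two (c : D2Ctx ρ B x y) : q ≠ 2 := by
  intro hq
  apply c.neg_one_ne_one
  subst hq
  exact neg_one_eq_one_zmod_two

theorem two_ne_zero (c : D2Ctx ρ B x y) : (2 : ZMod q) ≠ 0 := by
  intro h
  apply c.neg_one_ne_one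
  have : (-1 : ZMod q) = 1 - 2 := by ring
  rw [this, h, sub_zero]

theorem inv_neg_one : ((-1 : ZMod q))⁻¹ = -1 := by
  rw [inv_neg, inv_one]

theorem sc_yx (c : D2Ctx ρ B x y) : SC ρ y x (-1) := by
  have := c.nontrivial
  have h := c.sc_xy.symm
  rwa [inv_neg_one] at h

/-- an element commuting with `x` and `y` is a scalar -/
theorem scalar_of_commute (c : D2Ctx ρ B x y) {g : G} (hgx : SC ρ g x 1) (hgy : SC ρ g y 1) :
    IsScalar ρ g := by
  classical
  have hnt := c.nontrivial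
  have h2 := c.two_ne_zero
  -- `ρ x ρ y v ≠ ρ y ρ x v` for `v ≠ 0`
  have hanti : ∀ v : V, ρ x (ρ y v) = ρ y (ρ x v) → v = 0 := by
    intro v hv
    have h1 := c.sc_xy v
    rw [hv, neg_smul, one_smul] at h1
    have h3 : (2 : ZMod q) • ρ y (ρ x v) = 0 := by
      rw [two_smul]
      nth_rw 1 [h1]
      exact neg_add_cancel _
    rcases smul_eq_zero.1 h3 with h4 | h4
    · exact absurd h4 h2
    · have h5 : ρ x v = 0 := (ρ y).injective (by rw [h4, map_zero])
      exact (ρ x).injective (by rw [h5, map_zero])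
  by_cases hI : IrrElt (ρ g)
  · exfalso
    have e1 : ((ρ g : V ≃ₗ[ZMod q] V) : V →ₗ[ZMod q] V) * ((ρ x : V ≃ₗ[ZMod q] V) : V →ₗ[ZMod q] V)
        = ((ρ x : V ≃ₗ[ZMod q] V) : V →ₗ[ZMod q] V) * ((ρ g : V ≃ₗ[ZMod q] V) : V →ₗ[ZMod q] V) := by
      ext v
      have := hgx v
      rw [one_smul] at this
      exact this
    have e2 : ((ρ g : V ≃ₗ[ZMod q] V) : V →ₗ[ZMod q] V) * ((ρ y : V ≃ₗ[ZMod q] V) : V →ₗ[ZMod q] V)
        = ((ρ y : V ≃ₗ[ZMod q] V) : V →ₗ[ZMod q] V) * ((ρ g : V ≃ₗ[ZMod q] V) : V →ₗ[ZMod q] V) := by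
      ext v
      have := hgy v
      rw [one_smul] at this
      exact this
    have e3 := commute_of_commute (ρ g) hI _ _ e1 e2
    obtain ⟨v, hv⟩ := exists_ne (0 : V)
    have e4 := LinearMap.congr_fun e3 v
    exact hv (hanti v e4)
  · -- an eigenvector
    unfold IrrElt at hI
    push Not at hI
    obtain ⟨W, hWinv, hWb, hWt⟩ := hI
    obtain ⟨w, hwW, hw0⟩ := (Submodule.ne_bot_iff W).1 hWb
    obtain ⟨e, he⟩ := exists_smul_of_mem c.hdim W hWt w hwW hw0 (ρ g w) (hWinv w hwW)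
    -- the eigenspace
    let U : Submodule (ZMod q) V :=
      { carrier := {v | ρ g v = e • v}
        add_mem' := by
          intro a b ha hb
          change ρ g (a + b) = e • (a + b)
          rw [map_add, smul_add]
          change ρ g a = e • a at ha
          change ρ g b = e • b at hb
          rw [ha, hb]
        zero_mem' := by
          change ρ g 0 = e • (0 : V)
          rw [map_zero, smul_zero]
        smul_mem' := by
          intro k a ha
          change ρ g (k • a) = e • (k • a)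
          change ρ g a = e • a at ha
          rw [map_smul, ha, smul_comm] }
    have hUmem : ∀ v : V, v ∈ U ↔ ρ g v = e • v := fun v => Iff.rfl
    have hwU : w ∈ U := (hUmem w).2 he
    have hUx : ∀ v ∈ U, ρ x v ∈ U := by
      intro v hv
      rw [hUmem] at hv ⊢
      have := hgx v
      rw [one_smul] at this
      rw [this, hv, map_smul]
    have hUy : ∀ v ∈ U, ρ y v ∈ U := by
      intro v hv
      rw [hUmem] at hv ⊢
      have := hgy v
      rw [one_smul] at this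
      rw [this, hv, map_smul]
    by_cases hUt : U = ⊤
    · refine ⟨e, fun v => ?_⟩
      have : v ∈ U := by rw [hUt]; exact Submodule.mem_top
      exact (hUmem v).1 this
    · exfalso
      obtain ⟨l, hl⟩ := exists_smul_of_mem c.hdim U hUt w hwU hw0 (ρ x w) (hUx w hwU)
      obtain ⟨m, hm⟩ := exists_smul_of_mem c.hdim U hUt w hwU hw0 (ρ y w) (hUy w hwU)
      apply hw0
      apply hanti w
      rw [hm, hl, map_smul, map_smul, hl, hm, smul_smul, smul_smul, mul_comm]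

/-- uniform statement: `ρ g ρ w = c ρ m ρ g` -/
def CE (ρ : G →* (V ≃ₗ[ZMod q] V)) (g w m : G) (e : ZMod q) : Prop :=
  ∀ v : V, ρ g (ρ w v) = e • ρ m (ρ g v)

theorem CE.of_isScalar {ρ : G →* (V ≃ₗ[ZMod q] V)} {g w m : G}
    (h : IsScalar ρ (g * w * g⁻¹ * m⁻¹)) : ∃ e : ZMod q, CE ρ g w m e := by
  obtain ⟨e, he⟩ := h
  refine ⟨e, fun v => ?_⟩
  have h1 := he (ρ m (ρ g v))
  rw [rho_mul_apply, rho_mul_apply, rho_mul_apply, rho_inv_apply, rho_inv_apply] at h1
  exact h1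

theorem CE.ne_zero [Nontrivial V] {ρ : G →* (V ≃ₗ[ZMod q] V)} {g w m : G} {e : ZMod q}
    (h : CE ρ g w m e) : e ≠ 0 := by
  rintro rfl
  obtain ⟨v, hv⟩ := exists_ne (0 : V)
  have h1 := h v
  rw [zero_smul] at h1
  have h2 : ρ w v = 0 := (ρ g).injective (by rw [h1, map_zero])
  exact hv ((ρ w).injective (by rw [h2, map_zero]))

/-- two elements conjugating `w` to multiples of the same `m` differ by an element scaling `w` -/
theorem CE.sc [Nontrivial V] {ρ : G →* (V ≃ₗ[ZMod q] V)} {g1 g2 w m : G} {e1 e2 : ZMod q}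
    (h1 : CE ρ g1 w m e1) (h2 : CE ρ g2 w m e2) : SC ρ (g1⁻¹ * g2) w (e2 * e1⁻¹) := by
  have he1 : e1 ≠ 0 := h1.ne_zero
  intro v
  rw [rho_mul_apply, h2 v, map_smul, rho_mul_apply]
  -- ρ g1⁻¹ (ρ m z) = e1⁻¹ • ρ w (ρ g1⁻¹ z)
  have key : ∀ z : V, ρ g1⁻¹ (ρ m z) = e1⁻¹ • ρ w (ρ g1⁻¹ z) := by
    intro z
    apply (ρ g1).injective
    rw [rho_apply_inv, map_smul, h1 (ρ g1⁻¹ z), rho_apply_inv, smul_smul, inv_mul_cancel₀ he1,
      one_smul]
  rw [key, smul_smul]

/-- classification of the elements of `B` modulo scalars -/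
theorem classify (c : D2Ctx ρ B x y) {u : G} (hu : u ∈ B) :
    (SC ρ u x 1 ∧ SC ρ u y 1 ∧ IsScalar ρ u) ∨
    (SC ρ u x 1 ∧ SC ρ u y (-1) ∧ IsScalar ρ (u * x⁻¹)) ∨
    (SC ρ u x (-1) ∧ SC ρ u y 1 ∧ IsScalar ρ (u * y⁻¹)) ∨
    (SC ρ u x (-1) ∧ SC ρ u y (-1) ∧ IsScalar ρ (u * (x * y)⁻¹)) := by
  have hnt := c.nontrivial
  have hxx : SC ρ x x 1 := SC.refl ρ x
  have hyy : SC ρ y y 1 := SC.refl ρ y
  have hxy := c.sc_xy
  have hyx := c.sc_yx
  have hxix : SC ρ x⁻¹ x 1 := by simpa using hxx.inv_left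
  have hxiy : SC ρ x⁻¹ y (-1) := by simpa [inv_neg_one] using hxy.inv_left
  have hyix : SC ρ y⁻¹ x (-1) := by simpa [inv_neg_one] using hyx.inv_left
  have hyiy : SC ρ y⁻¹ y 1 := by simpa using hyy.inv_left
  have hxyx : SC ρ (x * y) x (-1) := by simpa using hxx.mul hyx
  have hxyy : SC ρ (x * y) y (-1) := by simpa using hxy.mul hyy
  have hxyix : SC ρ (x * y)⁻¹ x (-1) := by simpa [inv_neg_one] using hxyx.inv_left
  have hxyiy : SC ρ (x * y)⁻¹ y (-1) := by simpa [inv_neg_one] using hxyy.inv_left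
  rcases c.sc_B hu c.hx with h1 | h1 <;> rcases c.sc_B hu c.hy with h2 | h2
  · exact Or.inl ⟨h1, h2, c.scalar_of_commute h1 h2⟩
  · refine Or.inr (Or.inl ⟨h1, h2, c.scalar_of_commute ?_ ?_⟩)
    · simpa using h1.mul hxix
    · simpa using h2.mul hxiy
  · refine Or.inr (Or.inr (Or.inl ⟨h1, h2, c.scalar_of_commute ?_ ?_⟩))
    · simpa using h1.mul hyix
    · simpa using h2.mul hyiy
  · refine Or.inr (Or.inr (Or.inr ⟨h1, h2, c.scalar_of_commute ?_ ?_⟩))
    · simpa using h1.mul hxyix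
    · simpa using h2.mul hxyiy

end D2Ctx

end Cfsg.Agent.Lib.Helper55.Huppert
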