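import Mathlib
import Cfsg.Prelude.Def_Solvable
import Cfsg.Agent.Lib.Helper2.HuppertDefs
import Cfsg.Agent.Lib.Helper55.HuppertD2cB

set_option autoImplicit false

/-!
# S3360-[D2c], part C (helper55, for helper2 #4952): the order bound

A subgroup `G` of `GL(2, q)` with a normal subgroup `B` whose commutators are scalars and which is
not abelian has order dividing `m (q - 1)` with `m ∈ {4, 8, 12, 16, 24}` (and `q` is odd).
-/

open Cfsg Module
open Cfsg.Agent.Lib.Helper2.Huppert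

namespace Cfsg.Agent.Lib.Helper55.Huppert

/-- generic bound for a relative index: cover `H` by finitely many classes `P i`, two elements
of the same class differing by an element of `H'` -/
theorem relIndex_le_of_cover {G : Type*} [Group G] (H' H : Subgroup G) {α : Type*} [Fintype α]
    (P : α → G → Prop) (hcover : ∀ g ∈ H, ∃ i, P i g)
    (hP : ∀ i, ∀ g1 ∈ H, ∀ g2 ∈ H, P i g1 → P i g2 → g1⁻¹ * g2 ∈ H') :
    H'.relIndex H ≤ Fintype.card α := by
  classical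
  have key : Nat.card (H ⧸ H'.subgroupOf H) ≤ Nat.card α := by
    apply Nat.card_le_card_of_injective
      (fun Q : H ⧸ H'.subgroupOf H =>
        Classical.choose (hcover ((Quotient.out Q : H) : G) (Quotient.out Q : H).2))
    intro Q1 Q2 h
    have h1 := Classical.choose_spec (hcover ((Quotient.out Q1 : H) : G) (Quotient.out Q1 : H).2)
    have h2 := Classical.choose_spec (hcover ((Quotient.out Q2 : H) : G) (Quotient.out Q2 : H).2)
    have h' : Classical.choose (hcover ((Quotient.out Q1 : H) : G) (Quotient.out Q1 : H).2) =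
        Classical.choose (hcover ((Quotient.out Q2 : H) : G) (Quotient.out Q2 : H).2) := h
    rw [← h'] at h2
    have h3 := hP _ _ (Quotient.out Q1 : H).2 _ (Quotient.out Q2 : H).2 h1 h2
    rw [← QuotientGroup.out_eq' Q1, ← QuotientGroup.out_eq' Q2]
    exact QuotientGroup.eq.2 (Subgroup.mem_subgroupOf.2 (by simpa using h3))
  rw [Nat.card_eq_fintype_card (α := α)] at key
  exact key

variable {q : ℕ} [Fact q.Prime] {V : Type*} [AddCommGroup V] [Module (ZMod q) V] [Finite V]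
  {G : Type*} [Group G]

/-- elements commuting with `w` up to a scalar -/
def scSub [Nontrivial V] (ρ : G →* (V ≃ₗ[ZMod q] V)) (w : G) : Subgroup G where
  carrier := {g | ∃ c : ZMod q, SC ρ g w c}
  mul_mem' := by
    rintro a b ⟨c, hc⟩ ⟨d, hd⟩
    exact ⟨c * d, hc.mul hd⟩
  one_mem' := ⟨1, SC.one_left ρ w⟩
  inv_mem' := by
    rintro a ⟨c, hc⟩
    exact ⟨c⁻¹, hc.inv_left⟩

/-- elements commuting with `w` -/
def cSub [Nontrivial V] (ρ : G →* (V ≃ₗ[ZMod q] V)) (w : G) : Subgroup G where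
  carrier := {g | SC ρ g w 1}
  mul_mem' := by
    intro a b ha hb
    have := SC.mul ha hb
    rwa [mul_one] at this
  one_mem' := SC.one_left ρ w
  inv_mem' := by
    intro a ha
    have := SC.inv_left ha
    rwa [inv_one] at this

theorem mem_scSub [Nontrivial V] (ρ : G →* (V ≃ₗ[ZMod q] V)) (w g : G) :
    g ∈ scSub ρ w ↔ ∃ c : ZMod q, SC ρ g w c := Iff.rfl

theorem mem_cSub [Nontrivial V] (ρ : G →* (V ≃ₗ[ZMod q] V)) (w g : G) :
    g ∈ cSub ρ w ↔ SC ρ g w 1 := Iff.rfl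

theorem cSub_le_scSub [Nontrivial V] (ρ : G →* (V ≃ₗ[ZMod q] V)) (w : G) :
    cSub ρ w ≤ scSub ρ w := fun _ hg => ⟨1, hg⟩

/-- the sign attached to a boolean -/
def sgn (q : ℕ) (b : Bool) : ZMod q := if b then 1 else -1

/-- the three nontrivial cosets of the scalars in `B` -/
def mSel (x y : G) : Option Bool → G
  | none => x
  | some true => y
  | some false => x * y

/-- `Cx` has index at most 2 in `N`, generic form -/
theorem relIndex_cSub_le_two [Nontrivial V] (ρ : G →* (V ≃ₗ[ZMod q] V))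
    (hdim : finrank (ZMod q) V = 2) (w : G) (H : Subgroup G) :
    (H ⊓ cSub ρ w).relIndex (H ⊓ scSub ρ w) ≤ 2 := by
  have h := relIndex_le_of_cover (H ⊓ cSub ρ w) (H ⊓ scSub ρ w) (α := Bool)
    (fun b g => SC ρ g w (sgn q b)) ?_ ?_
  · simpa using h
  · rintro g ⟨-, e, he⟩
    rcases he.sq_eq_one hdim with h1 | h1
    · refine ⟨true, ?_⟩
      rw [h1] at he
      exact he
    · refine ⟨false, ?_⟩
      rw [h1] at he
      exact he
  · rintro b g1 ⟨hg1, -⟩ g2 ⟨hg2, -⟩ h1 h2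
    refine ⟨H.mul_mem (H.inv_mem hg1) hg2, ?_⟩
    have h3 := SC.mul h1.inv_left h2
    rw [inv_mul_cancel₀ h1.ne_zero] at h3
    exact h3

namespace D2Ctx

variable {ρ : G →* (V ≃ₗ[ZMod q] V)} {B : Subgroup G} {x y : G}

theorem isScalar_of_conj {g u : G} (h : IsScalar ρ (g * u * g⁻¹)) : IsScalar ρ u := by
  obtain ⟨e, he⟩ := h
  refine ⟨e, fun v => ?_⟩
  have h1 := he (ρ g v)
  rw [rho_mul_apply, rho_mul_apply, rho_inv_apply] at h1
  apply (ρ g).injective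
  rw [h1, map_smul]

theorem not_isScalar_x (c : D2Ctx ρ B x y) : ¬ IsScalar ρ x := by
  intro h
  exact c.hxy ((SC.commute_iff c.hρ x y).1 (SC.of_isScalar_left h y))

theorem not_isScalar_y (c : D2Ctx ρ B x y) : ¬ IsScalar ρ y := by
  intro h
  have := c.nontrivial
  have h1 := (SC.of_isScalar_left h x).symm
  rw [inv_one] at h1
  exact c.hxy ((SC.commute_iff c.hρ x y).1 h1)

/-- `N = scSub x` has index at most 3 -/
theorem index_scSub_le_three (c : D2Ctx ρ B x y) [Nontrivial V] : (scSub ρ x).index ≤ 3 := by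
  have h := relIndex_le_of_cover (scSub ρ x) ⊤ (α := Option Bool)
    (fun i g => ∃ e : ZMod q, CE ρ g x (mSel x y i) e) ?_ ?_
  · rw [Subgroup.relIndex_top_right] at h
    simpa using h
  · intro g _
    have hu : g * x * g⁻¹ ∈ B := c.hnorm.conj_mem x c.hx g
    rcases c.classify hu with ⟨-, -, h1⟩ | ⟨-, -, h1⟩ | ⟨-, -, h1⟩ | ⟨-, -, h1⟩
    · exact absurd (isScalar_of_conj h1) c.not_isScalar_x
    · exact ⟨none, CE.of_isScalar h1⟩
    · exact ⟨some true, CE.of_isScalar h1⟩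
    · exact ⟨some false, CE.of_isScalar h1⟩
  · rintro i g1 - g2 - ⟨e1, h1⟩ ⟨e2, h2⟩
    exact ⟨_, CE.sc h1 h2⟩

/-- `K' = Cx ⊓ scSub y` has index at most 2 in `Cx` -/
theorem relIndex_K_le_two (c : D2Ctx ρ B x y) [Nontrivial V] :
    (cSub ρ x ⊓ scSub ρ y).relIndex (cSub ρ x) ≤ 2 := by
  have h := relIndex_le_of_cover (cSub ρ x ⊓ scSub ρ y) (cSub ρ x) (α := Bool)
    (fun i g => ∃ e : ZMod q, CE ρ g y (mSel x y (some i)) e) ?_ ?_
  · simpa using h
  · intro g hg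
    have hg' : SC ρ g x 1 := hg
    have hu : g * y * g⁻¹ ∈ B := c.hnorm.conj_mem y c.hy g
    have hux : SC ρ (g * y * g⁻¹) x (-1) := by
      have h1 := (hg'.mul c.sc_yx).mul hg'.inv_left
      simpa using h1
    rcases c.classify hu with ⟨h0, -, -⟩ | ⟨h0, -, -⟩ | ⟨-, -, h1⟩ | ⟨-, -, h1⟩
    · exact absurd (SC.unique hux h0) c.neg_one_ne_one
    · exact absurd (SC.unique hux h0) c.neg_one_ne_one
    · exact ⟨true, CE.of_isScalar h1⟩
    · exact ⟨false, CE.of_isScalar h1⟩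
  · rintro i g1 hg1 g2 hg2 ⟨e1, h1⟩ ⟨e2, h2⟩
    exact ⟨(cSub ρ x).mul_mem ((cSub ρ x).inv_mem hg1) hg2, _, CE.sc h1 h2⟩

/-- the centraliser of `x` and `y` consists of scalars, so its order divides `q - 1` -/
theorem card_cxy_dvd (c : D2Ctx ρ B x y) [Nontrivial V] :
    Nat.card (cSub ρ x ⊓ cSub ρ y : Subgroup G) ∣ q - 1 := by
  let φ : (ZMod q)ˣ →* (V ≃ₗ[ZMod q] V) := DistribMulAction.toModuleAut (ZMod q) V
  have h1 : (cSub ρ x ⊓ cSub ρ y).map ρ ≤ φ.range := by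
    rintro _ ⟨g, hg, rfl⟩
    obtain ⟨e, he⟩ := c.scalar_of_commute hg.1 hg.2
    have he0 : e ≠ 0 := by
      rintro rfl
      obtain ⟨v, hv⟩ := exists_ne (0 : V)
      have h2 := he v
      rw [zero_smul] at h2
      exact hv ((ρ g).injective (by rw [h2, map_zero]))
    refine ⟨Units.mk0 e he0, ?_⟩
    ext v
    rw [he v]
    rfl
  have h2 : Nat.card ((cSub ρ x ⊓ cSub ρ y).map ρ) = Nat.card (cSub ρ x ⊓ cSub ρ y : Subgroup G) :=
    Subgroup.card_map_of_injective c.hρ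
  have h3 : Nat.card φ.range ∣ Nat.card (ZMod q)ˣ := Subgroup.card_range_dvd φ
  have h4 : Nat.card (ZMod q)ˣ = q - 1 := by
    rw [Nat.card_eq_fintype_card, ZMod.card_units]
  rw [h4] at h3
  rw [← h2]
  exact (Subgroup.card_dvd_of_le h1).trans h3

end D2Ctx

theorem dvd_aux (i1 i2 i3 i4 : ℕ) (h1 : i1 ≠ 0) (h1' : i1 ≤ 3) (h2 : i2 ≠ 0) (h2' : i2 ≤ 2)
    (h3 : i3 ≠ 0) (h3' : i3 ≤ 2) (h4 : i4 ≠ 0) (h4' : i4 ≤ 2) :
    ∃ m : ℕ, (m = 4 ∨ m = 8 ∨ m = 12 ∨ m = 16 ∨ m = 24) ∧ i4 * (i3 * (i2 * i1)) ∣ m := by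
  have a1 : 0 < i1 := Nat.pos_of_ne_zero h1
  have a2 : 0 < i2 := Nat.pos_of_ne_zero h2
  have a3 : 0 < i3 := Nat.pos_of_ne_zero h3
  have a4 : 0 < i4 := Nat.pos_of_ne_zero h4
  interval_cases i1 <;> interval_cases i2 <;> interval_cases i3 <;> interval_cases i4 <;>
    first
    | exact ⟨4, by decide, by decide⟩
    | exact ⟨8, by decide, by decide⟩
    | exact ⟨12, by decide, by decide⟩
    | exact ⟨16, by decide, by decide⟩
    | exact ⟨24, by decide, by decide⟩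

variable [Finite G]

/-- **[D2c]** -/
theorem card_dvd_of_class_two (ρ : G →* (V ≃ₗ[ZMod q] V)) (hρ : Function.Injective ρ)
    (hdim : finrank (ZMod q) V = 2) (B : Subgroup G) [B.Normal]
    (hB : ∀ a ∈ B, ∀ b ∈ B, IsScalar ρ (a * b * a⁻¹ * b⁻¹)) (x y : G) (hx : x ∈ B) (hy : y ∈ B)
    (hxy : x * y ≠ y * x) :
    q ≠ 2 ∧ ∃ m : ℕ, (m = 4 ∨ m = 8 ∨ m = 12 ∨ m = 16 ∨ m = 24) ∧ Nat.card G ∣ m * (q - 1) := by
  have c : D2Ctx ρ B x y := ⟨hρ, hdim, hB, inferInstance, hx, hy, hxy⟩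
  have hnt : Nontrivial V := c.nontrivial
  refine ⟨c.q_ne_two, ?_⟩
  -- the chain
  have e1 : (scSub ρ x).index ≤ 3 := c.index_scSub_le_three
  have e2 : (cSub ρ x).relIndex (scSub ρ x) ≤ 2 := by
    have := relIndex_cSub_le_two ρ hdim x ⊤
    simpa using this
  have e3 : (cSub ρ x ⊓ scSub ρ y).relIndex (cSub ρ x) ≤ 2 := c.relIndex_K_le_two
  have e4 : (cSub ρ x ⊓ cSub ρ y).relIndex (cSub ρ x ⊓ scSub ρ y) ≤ 2 :=
    relIndex_cSub_le_two ρ hdim y (cSub ρ x)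
  have f2 := Subgroup.relIndex_mul_index (cSub_le_scSub ρ x)
  have f3 := Subgroup.relIndex_mul_index (inf_le_left : cSub ρ x ⊓ scSub ρ y ≤ cSub ρ x)
  have f4 := Subgroup.relIndex_mul_index
    (inf_le_inf_left (cSub ρ x) (cSub_le_scSub ρ y) : cSub ρ x ⊓ cSub ρ y ≤ cSub ρ x ⊓ scSub ρ y)
  have f5 := Subgroup.index_mul_card (cSub ρ x ⊓ cSub ρ y)
  have hidx : (cSub ρ x ⊓ cSub ρ y).index ≠ 0 := Subgroup.index_ne_zero_of_finite
  have hprod : (cSub ρ x ⊓ cSub ρ y).index =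
      (cSub ρ x ⊓ cSub ρ y).relIndex (cSub ρ x ⊓ scSub ρ y) *
        ((cSub ρ x ⊓ scSub ρ y).relIndex (cSub ρ x) *
          ((cSub ρ x).relIndex (scSub ρ x) * (scSub ρ x).index)) := by
    rw [f2, f3, f4]
  rw [hprod] at hidx
  obtain ⟨g4, hidx⟩ := mul_ne_zero_iff.1 hidx
  obtain ⟨g3, hidx⟩ := mul_ne_zero_iff.1 hidx
  obtain ⟨g2, g1⟩ := mul_ne_zero_iff.1 hidx
  obtain ⟨m, hm, hdvd⟩ := dvd_aux _ _ _ _ g1 e1 g2 e2 g3 e3 g4 e4
  refine ⟨m, hm, ?_⟩
  rw [← f5, hprod]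
  exact Nat.mul_dvd_mul hdvd c.card_cxy_dvd

end Cfsg.Agent.Lib.Helper55.Huppert
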