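/-
helper55: module [STRUCT] for S4079 (helper2): structure of `Ω₁` and `Ω₂` of a finite metacyclic
`p`-group (`p` odd) without cyclic subgroup of index `p`.
All declarations live in `Cfsg.Agent.Lib.Helper55.S4079Struct`.
-/
import Mathlib
import Cfsg.Prelude.Def_OddOrderLocal
import Cfsg.Agent.Lib.Helper87.MetaOmega
import Cfsg.Agent.Lib.Helper65.MetaPow
import Cfsg.Agent.Lib.Lead.Class3

set_option autoImplicit false

namespace Cfsg.Agent.Lib.Helper55.S4079Struct

open Cfsg
open scoped commutatorElement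

section
variable {L : Type*} [Group L] [Finite L] {p : ℕ} [hpF : Fact p.Prime]

/-- the elements of order dividing `p`, when they commute pairwise -/
def omega1 (hc : ∀ x y : L, x ^ p = 1 → y ^ p = 1 → x * y = y * x) : Subgroup L where
  carrier := {x | x ^ p = 1}
  one_mem' := one_pow _
  mul_mem' := by
    intro a b ha hb
    have hab : Commute a b := hc a b ha hb
    show (a * b) ^ p = 1
    rw [hab.mul_pow, (show a ^ p = 1 from ha), (show b ^ p = 1 from hb), mul_one]
  inv_mem' := by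
    intro a ha
    show (a⁻¹) ^ p = 1
    rw [inv_pow, (show a ^ p = 1 from ha), inv_one]

omit [Finite L] hpF in
theorem mem_omega1 {hc : ∀ x y : L, x ^ p = 1 → y ^ p = 1 → x * y = y * x} {x : L} :
    x ∈ omega1 hc ↔ x ^ p = 1 := Iff.rfl

/-- without cyclic subgroups of index `p`, and `L ≠ 1`: cyclic subgroups have index divisible by `p²` -/
theorem sq_dvd_index_of_isCyclic (hL : IsPGroup p L) (hnt : Nontrivial L)
    (hnc : ∀ C : Subgroup L, IsCyclic C → C.index ≠ p) (C : Subgroup L) (hC : IsCyclic C) :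
    p ^ 2 ∣ C.index := by
  obtain ⟨n, hn⟩ := hL.index C
  have hn1 : n ≠ 1 := by
    rintro rfl
    exact hnc C hC (by rw [hn, pow_one])
  have hn0 : n ≠ 0 := by
    rintro rfl
    rw [pow_zero, Subgroup.index_eq_one] at hn
    have hLc : IsCyclic L := by
      subst hn
      exact isCyclic_of_surjective (Subgroup.topEquiv : (⊤ : Subgroup L) ≃* L).toMonoidHom
        Subgroup.topEquiv.surjective
    obtain ⟨k, hk⟩ := IsPGroup.iff_card.mp hL
    have hk0 : k ≠ 0 := by
      rintro rfl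
      rw [pow_zero] at hk
      have := Finite.one_lt_card (α := L)
      omega
    obtain ⟨K, hK⟩ := Sylow.exists_subgroup_card_pow_prime p (G := L) (n := k - 1)
      (by rw [hk]; exact pow_dvd_pow p (Nat.sub_le k 1))
    have hidx : K.index = p := by
      have h1 := K.card_mul_index
      rw [hK, hk] at h1
      have h2 : p ^ (k - 1) * p = p ^ k := by
        rw [← pow_succ]; congr 1; omega
      have hpos : 0 < p ^ (k - 1) := pow_pos hpF.out.pos _
      exact Nat.eq_of_mul_eq_mul_left hpos (h1.trans h2.symm)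
    exact hnc K inferInstance hidx
  rw [hn]
  exact pow_dvd_pow p (by omega)

omit hpF in
/-- an element of order `p²` in a cyclic subgroup of order divisible by `p²` -/
theorem exists_orderOf_eq_sq (A : Subgroup L) (hA : IsCyclic A) (h : p ^ 2 ∣ Nat.card A) :
    ∃ x ∈ A, orderOf x = p ^ 2 := by
  obtain ⟨g, hg⟩ := IsCyclic.exists_ofOrder_eq_natCard (α := A)
  obtain ⟨m, hm⟩ := h
  have hm0 : m ≠ 0 := by
    rintro rfl
    rw [mul_zero] at hm
    exact (Nat.card_pos (α := A)).ne' hm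
  refine ⟨((g ^ m : A) : L), (g ^ m).2, ?_⟩
  rw [Subgroup.orderOf_coe, orderOf_pow_of_dvd hm0 (by rw [hg, hm]; exact dvd_mul_left m _), hg, hm]
  exact Nat.mul_div_cancel _ (Nat.pos_of_ne_zero hm0)

/-- a normal subgroup of order at most `p` of a finite `p`-group is central -/
theorem le_center_of_card_le (hL : IsPGroup p L) (D : Subgroup L) [D.Normal]
    (hD : Nat.card D ≤ p) : D ≤ Subgroup.center L := by
  by_cases hbot : D = ⊥
  · rw [hbot]; exact bot_le
  obtain ⟨w, hwD, hw1, hwc⟩ := Cfsg.Agent.Lib.Helper87.exists_central_mem_of_normal hL D hbot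
  have hwp : w ^ p = 1 := by
    obtain ⟨k, hk⟩ := IsPGroup.iff_card.mp (hL.to_subgroup D)
    have hk1 : k ≤ 1 := by
      by_contra hlt
      have : p ^ 2 ≤ p ^ k := Nat.pow_le_pow_right hpF.out.pos (by omega)
      have h2 : p < p ^ 2 := by
        have := hpF.out.one_lt
        nlinarith
      omega
    have h1 : (⟨w, hwD⟩ : D) ^ Nat.card D = 1 := pow_card_eq_one'
    have h2 : w ^ Nat.card D = 1 := by
      have h3 := congrArg Subtype.val h1
      rwa [Subgroup.coe_pow] at h3
    rw [hk] at h2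
    interval_cases k
    · rw [pow_zero, pow_one] at h2; exact absurd h2 hw1
    · rwa [pow_one] at h2
  have hwo : orderOf w = p := orderOf_eq_prime hwp hw1
  have hzle : Subgroup.zpowers w ≤ D := Subgroup.zpowers_le.mpr hwD
  have hzeq : Subgroup.zpowers w = D := by
    apply Subgroup.eq_of_le_of_card_ge hzle
    rw [Nat.card_zpowers, hwo]; exact hD
  intro d hd
  rw [← hzeq] at hd
  obtain ⟨k, rfl⟩ := Subgroup.mem_zpowers_iff.mp hd
  rw [Subgroup.mem_center_iff]
  intro g
  have : Commute g w := hwc g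
  exact (this.zpow_right k).eq

/-- **[STRUCT]** `Ω₁` and `Ω₂` of a metacyclic `p`-group, `p` odd, without cyclic subgroup of index `p`. -/
theorem meta_struct (hp : p ≠ 2)
    (hL : IsPGroup p L) (hmc : Cfsg.IsMetacyclic L)
    (hnc : ∀ C : Subgroup L, IsCyclic C → C.index ≠ p) (hnt : Nontrivial L) :
    ∃ E T : Subgroup L, (∀ x, x ∈ E ↔ x ^ p = 1) ∧ (∀ x, x ∈ T ↔ x ^ p ^ 2 = 1) ∧
      Nat.card E = p ^ 2 ∧ Nat.card T = p ^ 4 ∧ (∀ e ∈ E, ∀ t ∈ T, e * t = t * e) ∧
      (∀ s ∈ T, ∀ t ∈ T, (s * t) ^ p = s ^ p * t ^ p) ∧ (∀ e ∈ E, ∃ t ∈ T, t ^ p = e) := by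
  have hpp : p.Prime := hpF.out
  have hp3 : 2 < p := lt_of_le_of_ne hpp.two_le (Ne.symm hp)
  -- `E`
  have hcomm : ∀ x y : L, x ^ p = 1 → y ^ p = 1 → x * y = y * x := fun x y hx hy =>
    Cfsg.Agent.Lib.Helper87.commute_of_pow_eq_one_of_isMetacyclic hp hL hmc hx hy
  set E : Subgroup L := omega1 hcomm with hEdef
  have hE : ∀ x, x ∈ E ↔ x ^ p = 1 := fun x => Iff.rfl
  have hEn : E.Normal := ⟨fun x hx g => by
    rw [hE] at hx ⊢
    rw [conj_pow, hx, mul_one, mul_inv_cancel]⟩
  have hEle : Nat.card E ≤ p ^ 2 :=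
    Cfsg.Agent.Lib.Helper87.card_le_sq_of_isMetacyclic_of_exponent hpp.pos
      (Cfsg.Agent.Lib.Helper24.isMetacyclic_of_injective E.subtype E.subtype_injective hmc)
      (fun d => Subtype.ext (by simpa using (hE d.1).mp d.2))
  -- the quotient
  have hQm : IsMetacyclic (L ⧸ E) :=
    Cfsg.Agent.Lib.Helper73.isMetacyclic_of_surjective (QuotientGroup.mk' E)
      (QuotientGroup.mk'_surjective E) hmc
  have hQp : IsPGroup p (L ⧸ E) := hL.to_quotient E
  have hQcomm : ∀ x y : L ⧸ E, x ^ p = 1 → y ^ p = 1 → x * y = y * x := fun x y hx hy =>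
    Cfsg.Agent.Lib.Helper87.commute_of_pow_eq_one_of_isMetacyclic hp hQp hQm hx hy
  have hkey : ∀ x : L, x ^ p ^ 2 = 1 ↔ (QuotientGroup.mk' E x) ^ p = 1 := by
    intro x
    rw [← map_pow, QuotientGroup.mk'_apply, QuotientGroup.eq_one_iff, hE, ← pow_mul, ← sq]
  -- `T`
  let T : Subgroup L :=
    { carrier := {x | x ^ p ^ 2 = 1}
      one_mem' := one_pow _
      mul_mem' := by
        intro a b ha hb
        have ha' := (hkey a).mp ha
        have hb' := (hkey b).mp hb
        show (a * b) ^ p ^ 2 = 1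
        have hc : Commute (QuotientGroup.mk' E a) (QuotientGroup.mk' E b) := hQcomm _ _ ha' hb'
        rw [hkey, map_mul, hc.mul_pow, ha', hb', mul_one]
      inv_mem' := by
        intro a ha
        show (a⁻¹) ^ p ^ 2 = 1
        rw [inv_pow, (show a ^ p ^ 2 = 1 from ha), inv_one] }
  have hT : ∀ x, x ∈ T ↔ x ^ p ^ 2 = 1 := fun x => Iff.rfl
  have hET : E ≤ T := by
    intro e he
    rw [hT, sq, pow_mul, (hE e).mp he, one_pow]
  have hpowE : ∀ t ∈ T, t ^ p ∈ E := by
    intro t ht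
    rw [hE, ← pow_mul, ← sq]; exact ht
  -- commutators of `T` lie in `E`
  have hcE : ∀ s ∈ T, ∀ t ∈ T, s * t * s⁻¹ * t⁻¹ ∈ E := by
    intro s hs t ht
    have hs' := (hkey s).mp hs
    have ht' := (hkey t).mp ht
    have h := hQcomm _ _ hs' ht'
    have h1 : (QuotientGroup.mk' E) (s * t * s⁻¹ * t⁻¹) = 1 := by
      rw [map_mul, map_mul, map_mul, map_inv, map_inv, h]; group
    exact (QuotientGroup.eq_one_iff _).mp h1
  -- commutators of `T` are central in `T`
  have hcen : ∀ s ∈ T, ∀ t ∈ T, ∀ u ∈ T, (s * t * s⁻¹ * t⁻¹) * u = u * (s * t * s⁻¹ * t⁻¹) := by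
    have hTm : IsMetacyclic T :=
      Cfsg.Agent.Lib.Helper24.isMetacyclic_of_injective T.subtype T.subtype_injective hmc
    have hTp : IsPGroup p T := hL.to_subgroup T
    obtain ⟨N, hNn, hNc, hNq⟩ := hTm
    have := hNn
    have hcomle : commutator T ≤ N := by
      have : IsCyclic (↥T ⧸ N) := hNq
      apply Subgroup.Normal.quotient_commutative_iff_commutator_le.mp
      exact ⟨⟨fun a b => by
        let _ := IsCyclic.commGroup (α := ↥T ⧸ N)
        exact mul_comm a b⟩⟩
    have hDc : IsCyclic (commutator T) := by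
      have := hNc
      exact isCyclic_of_injective (Subgroup.inclusion hcomle) (Subgroup.inclusion_injective hcomle)
    have hDE : ∀ d ∈ commutator T, (d : L) ∈ E := by
      intro d hd
      rw [commutator_eq_closure] at hd
      refine Subgroup.closure_induction (p := fun (d : ↥T) _ => ((d : ↥T) : L) ∈ E) ?_ ?_ ?_ ?_ hd
      · rintro _ ⟨a, b, rfl⟩
        have := hcE a a.2 b b.2
        simpa [commutatorElement_def] using this
      · exact E.one_mem
      · intro a b _ _ ha hb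
        exact E.mul_mem ha hb
      · intro a _ ha
        exact E.inv_mem ha
    have hDle : Nat.card (commutator T) ≤ p := by
      have := hDc
      refine Cfsg.Agent.Lib.Helper73.card_le_of_isCyclic_of_pow_eq_one p hpp.pos (fun d => ?_)
      apply Subtype.ext
      apply Subtype.ext
      have := (hE _).mp (hDE d.1 d.2)
      simpa using this
    have hDcen : commutator T ≤ Subgroup.center T := le_center_of_card_le hTp _ hDle
    intro s hs t ht u hu
    have hmem : ⁅(⟨s, hs⟩ : T), ⟨t, ht⟩⁆ ∈ commutator T := by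
      rw [commutator_eq_closure]
      exact Subgroup.subset_closure (commutator_mem_commutatorSet _ _)
    have h1 := Subgroup.mem_center_iff.mp (hDcen hmem) ⟨u, hu⟩
    have h2 := congrArg Subtype.val h1
    simp only [commutatorElement_def, Subgroup.coe_mul, Subgroup.coe_inv] at h2
    exact h2.symm
  -- the power map is a homomorphism on `T`
  have hpow : ∀ s ∈ T, ∀ t ∈ T, (s * t) ^ p = s ^ p * t ^ p := by
    intro s hs t ht
    have h : t * s = (t * s * t⁻¹ * s⁻¹) * s * t := by group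
    have hcs : Commute (t * s * t⁻¹ * s⁻¹) s := hcen t ht s hs s hs
    have hct : Commute (t * s * t⁻¹ * s⁻¹) t := hcen t ht s hs t ht
    have hc1 : (t * s * t⁻¹ * s⁻¹) ^ p = 1 := (hE _).mp (hcE t ht s hs)
    have hdvd : p ∣ p.choose 2 := hpp.dvd_choose_self (by norm_num) hp3
    obtain ⟨k, hk⟩ := hdvd
    rw [Cfsg.Agent.Lib.Lead.mul_pow_class2 h hcs hct p, hk, pow_mul, hc1, one_pow, mul_one]
  -- `p`-th powers of elements of `T` are central in `T`
  have hpc : ∀ s ∈ T, ∀ t ∈ T, s ^ p * t = t * s ^ p := by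
    intro s hs t ht
    have hcs : Commute (t * s * t⁻¹ * s⁻¹) s := hcen t ht s hs s hs
    have hc1 : (t * s * t⁻¹ * s⁻¹) ^ p = 1 := (hE _).mp (hcE t ht s hs)
    have h1 : t * s * t⁻¹ = (t * s * t⁻¹ * s⁻¹) * s := by group
    have h2 : t * s ^ p * t⁻¹ = s ^ p := by
      rw [← conj_pow, h1, hcs.mul_pow, hc1, one_mul]
    calc s ^ p * t = (t * s ^ p * t⁻¹) * t := by rw [h2]
      _ = t * s ^ p := by group
  -- the factorization
  obtain ⟨A, B, hAc, hBc, hAB, hcard⟩ :=
    Cfsg.Agent.Lib.Helper65.metacyclic_factorization hp hL hmc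
  have hAidx : A.index = Nat.card B := by
    have h1 := A.card_mul_index
    rw [← hcard] at h1
    exact Nat.eq_of_mul_eq_mul_left Nat.card_pos h1
  have hBidx : B.index = Nat.card A := by
    have h1 := B.card_mul_index
    rw [← hcard, mul_comm (Nat.card A)] at h1
    exact Nat.eq_of_mul_eq_mul_left Nat.card_pos h1
  have hB2 : p ^ 2 ∣ Nat.card B := hAidx ▸ sq_dvd_index_of_isCyclic hL hnt hnc A hAc
  have hA2 : p ^ 2 ∣ Nat.card A := hBidx ▸ sq_dvd_index_of_isCyclic hL hnt hnc B hBc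
  obtain ⟨x, hxA, hxo⟩ := exists_orderOf_eq_sq A hAc hA2
  obtain ⟨y, hyB, hyo⟩ := exists_orderOf_eq_sq B hBc hB2
  have hxT : x ∈ T := by rw [hT, ← hxo]; exact pow_orderOf_eq_one x
  have hyT : y ∈ T := by rw [hT, ← hyo]; exact pow_orderOf_eq_one y
  have hp0 : p ≠ 0 := hpp.ne_zero
  have hxpo : orderOf (x ^ p) = p := by
    rw [orderOf_pow_of_dvd hp0 (by rw [hxo]; exact dvd_pow_self p two_ne_zero), hxo, sq]
    exact Nat.mul_div_cancel _ hpp.pos
  have hypo : orderOf (y ^ p) = p := by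
    rw [orderOf_pow_of_dvd hp0 (by rw [hyo]; exact dvd_pow_self p two_ne_zero), hyo, sq]
    exact Nat.mul_div_cancel _ hpp.pos
  have hUA : Subgroup.zpowers (x ^ p) ≤ A := Subgroup.zpowers_le.mpr (A.pow_mem hxA p)
  have hVB : Subgroup.zpowers (y ^ p) ≤ B := Subgroup.zpowers_le.mpr (B.pow_mem hyB p)
  have hUE : Subgroup.zpowers (x ^ p) ≤ E := Subgroup.zpowers_le.mpr (hpowE x hxT)
  have hVE : Subgroup.zpowers (y ^ p) ≤ E := Subgroup.zpowers_le.mpr (hpowE y hyT)
  let ι : Subgroup.zpowers (x ^ p) × Subgroup.zpowers (y ^ p) → E := fun uv =>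
    ⟨uv.1.1 * uv.2.1, E.mul_mem (hUE uv.1.2) (hVE uv.2.2)⟩
  have hιinj : Function.Injective ι := by
    rintro ⟨⟨u, hu⟩, ⟨v, hv⟩⟩ ⟨⟨u', hu'⟩, ⟨v', hv'⟩⟩ h
    have h0 : u * v = u' * v' := congrArg Subtype.val h
    have h1 : u'⁻¹ * u = v' * v⁻¹ := by
      calc u'⁻¹ * u = u'⁻¹ * (u * v) * v⁻¹ := by group
        _ = u'⁻¹ * (u' * v') * v⁻¹ := by rw [h0]
        _ = v' * v⁻¹ := by group
    have h2 : u'⁻¹ * u ∈ A ⊓ B := by
      refine Subgroup.mem_inf.mpr ⟨A.mul_mem (A.inv_mem (hUA hu')) (hUA hu), ?_⟩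
      rw [h1]; exact B.mul_mem (hVB hv') (B.inv_mem (hVB hv))
    rw [hAB, Subgroup.mem_bot] at h2
    have h3 : v' * v⁻¹ = 1 := by rw [← h1, h2]
    have e1 : u = u' := by
      calc u = u' * (u'⁻¹ * u) := by group
        _ = u' := by rw [h2, mul_one]
    have e2 : v = v' := by
      calc v = (v' * v⁻¹)⁻¹ * v' := by group
        _ = v' := by rw [h3, inv_one, one_mul]
    subst e1; subst e2; rfl
  have hcardUV : Nat.card (Subgroup.zpowers (x ^ p) × Subgroup.zpowers (y ^ p)) = p ^ 2 := by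
    rw [Nat.card_prod, Nat.card_zpowers, Nat.card_zpowers, hxpo, hypo, sq]
  have hEcard : Nat.card E = p ^ 2 := by
    apply le_antisymm hEle
    rw [← hcardUV]
    exact Nat.card_le_card_of_injective ι hιinj
  have hιsurj : Function.Surjective ι :=
    (Function.Injective.bijective_of_nat_card_le hιinj (by rw [hcardUV, hEcard])).2
  -- surjectivity of the power map
  have hsurj : ∀ e ∈ E, ∃ t ∈ T, t ^ p = e := by
    intro e he
    obtain ⟨⟨⟨u, hu⟩, ⟨v, hv⟩⟩, huv⟩ := hιsurj ⟨e, he⟩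
    have huv' : u * v = e := congrArg Subtype.val huv
    obtain ⟨k, hk⟩ := Subgroup.mem_zpowers_iff.mp hu
    obtain ⟨l, hl⟩ := Subgroup.mem_zpowers_iff.mp hv
    have hxk : x ^ k ∈ T := T.zpow_mem hxT k
    have hyl : y ^ l ∈ T := T.zpow_mem hyT l
    refine ⟨x ^ k * y ^ l, T.mul_mem hxk hyl, ?_⟩
    rw [hpow _ hxk _ hyl, ← huv', ← hk, ← hl]
    congr 1
    · rw [← zpow_natCast, ← zpow_natCast, ← zpow_mul, ← zpow_mul, mul_comm]
    · rw [← zpow_natCast, ← zpow_natCast, ← zpow_mul, ← zpow_mul, mul_comm]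
  -- the order of `T`
  have hTcard : Nat.card T = p ^ 4 := by
    let φ : T →* E :=
      { toFun := fun t => ⟨(t : L) ^ p, hpowE t t.2⟩
        map_one' := Subtype.ext (one_pow p)
        map_mul' := fun s t => Subtype.ext (hpow s s.2 t t.2) }
    have hφs : Function.Surjective φ := by
      rintro ⟨e, he⟩
      obtain ⟨t, ht, hte⟩ := hsurj e he
      exact ⟨⟨t, ht⟩, Subtype.ext hte⟩
    have hker : φ.ker = E.subgroupOf T := by
      ext t
      rw [MonoidHom.mem_ker, Subgroup.mem_subgroupOf, hE]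
      constructor
      · intro h; exact congrArg Subtype.val h
      · intro h; exact Subtype.ext h
    have h1 := Subgroup.card_eq_card_quotient_mul_card_subgroup φ.ker
    rw [Nat.card_congr (QuotientGroup.quotientKerEquivOfSurjective φ hφs).toEquiv, hker,
      Nat.card_congr (Subgroup.subgroupOfEquivOfLe hET).toEquiv, hEcard] at h1
    rw [h1]; ring
  refine ⟨E, T, hE, hT, hEcard, hTcard, ?_, hpow, hsurj⟩
  intro e he t ht
  obtain ⟨s, hs, hse⟩ := hsurj e he
  rw [← hse]
  exact hpc s hs t ht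

end

end Cfsg.Agent.Lib.Helper55.S4079Struct
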