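import Mathlib
import Cfsg.Agent.Lib.Helper49.BrauerNRed
import Cfsg.Agent.Lib.Helper78.S4700Defs

set_option autoImplicit false

/-!
# S4700-[SETUP-GEN] (helper55, for helper78 #4767)

Perfect `G`, Sylow `P` of order `p`, `|Syl_p G| = 1 + n p`  ⟹  `1 ≤ n`, `q := |N_G(P) : C_G(P)| ≥ 2`,
`q ∣ p - 1`, `|G : C_G(P)| = q (1 + n p)`.  Adapted from helper49's `brauer_setup`.
-/

namespace Cfsg.Agent.Lib.Helper55.S4700

open Subgroup
open Cfsg.Agent.Lib.Helper49.BrauerN

theorem brauer_setup_gen {G : Type*} [Group G] [Finite G] (hperf : commutator G = ⊤) (p : ℕ)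
    [Fact p.Prime] (P : Sylow p G) (hPcard : Nat.card (P : Subgroup G) = p) (n : ℕ)
    (hn : Nat.card (Sylow p G) = 1 + n * p) :
    1 ≤ n ∧ ∃ q : ℕ, 2 ≤ q ∧ q ∣ p - 1 ∧
      (Subgroup.centralizer ((P : Subgroup G) : Set G)).relIndex
        (Subgroup.normalizer ((P : Subgroup G) : Set G)) = q ∧
      (Subgroup.centralizer ((P : Subgroup G) : Set G)).index = q * (1 + n * p) := by
  classical
  have hp : p.Prime := Fact.out
  have hGpos : 0 < Nat.card G := Nat.card_pos
  have hP : ¬ (P : Subgroup G).Normal := sylow_not_normal_of_perfect hperf P hPcard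
  have hne1 : Nat.card (Sylow p G) ≠ 1 := fun h => hP (sylow_normal_of_card_eq_one P h)
  have hn1 : 1 ≤ n := by
    rcases Nat.eq_zero_or_pos n with h0 | h0
    · rw [h0] at hn; simp at hn; exact absurd hn hne1
    · exact h0
  refine ⟨hn1, ?_⟩
  have hPcyc : IsCyclic (P : Subgroup G) := isCyclic_of_prime_card hPcard
  have hPC : (P : Subgroup G) ≤ Subgroup.centralizer ((P : Subgroup G) : Set G) := by
    intro y hy
    rw [Subgroup.mem_centralizer_iff]
    intro z hz
    obtain ⟨g, hg⟩ := IsCyclic.exists_generator (α := (P : Subgroup G))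
    obtain ⟨m, hm⟩ := Subgroup.mem_zpowers_iff.1 (hg ⟨y, hy⟩)
    obtain ⟨n, hn⟩ := Subgroup.mem_zpowers_iff.1 (hg ⟨z, hz⟩)
    have hy' : y = (g : G) ^ m := by rw [← Subgroup.coe_zpow, hm]
    have hz' : z = (g : G) ^ n := by rw [← Subgroup.coe_zpow, hn]
    rw [hy', hz', ← zpow_add, ← zpow_add, add_comm]
  have hCN : Subgroup.centralizer ((P : Subgroup G) : Set G) ≤
      Subgroup.normalizer ((P : Subgroup G) : Set G) := Subgroup.centralizer_le_normalizer _
  set C := Subgroup.centralizer ((P : Subgroup G) : Set G) with hC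
  set N := Subgroup.normalizer ((P : Subgroup G) : Set G) with hN
  have hqdvd : C.relIndex N ∣ p - 1 := by
    have key := Subgroup.card_dvd_of_injective _
      (QuotientGroup.kerLift_injective (P : Subgroup G).normalizerMonoidHom)
    rw [Subgroup.normalizerMonoidHom_ker, ← Subgroup.index, ← Subgroup.relIndex] at key
    rwa [hPcyc.card_mulAut, hPcard, Nat.totient_prime hp] at key
  have hsyl : Nat.card (Sylow p G) = N.index := Sylow.card_eq_index_normalizer P
  have hq2 : 2 ≤ C.relIndex N := by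
    have hq0 : C.relIndex N ≠ 0 := by
      intro h0
      have h1 := Subgroup.relIndex_mul_index (H := C) (K := N) hCN
      rw [h0, zero_mul] at h1
      exact Subgroup.index_ne_zero_of_finite h1.symm
    by_contra hlt
    push Not at hlt
    have hq1 : C.relIndex N = 1 := by omega
    have hNC : N ≤ C := Subgroup.relIndex_eq_one.1 hq1
    have := card_sylow_eq_one_of_perfect_of_normalizer_le hperf P hNC
    rw [hPcard] at this
    exact hp.one_lt.ne' this
  refine ⟨C.relIndex N, hq2, hqdvd, rfl, ?_⟩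
  rw [← Subgroup.relIndex_mul_index hCN, ← hsyl, hn]

end Cfsg.Agent.Lib.Helper55.S4700
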