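import Mathlib
import Cfsg.Agent.Lib.Helper13.SpBN.Defs

/-!
# Project SPBN (helper13), leaf [R-L1] (helper55): `mem_Bsp_of_mem_Psp`
-/

set_option autoImplicit false

namespace Cfsg.Agent.Lib.Helper55.SpBN

open Matrix Cfsg.Agent.Lib.Helper13.SpBN

variable {m : ℕ} {F : Type*} [Field F]

theorem rk_inl (i : Fin m) : rk (Sum.inl i : Idx m) = i.val := rfl

theorem rk_inr (i : Fin m) : rk (Sum.inr i : Idx m) = 2 * m - 1 - i.val := rfl

theorem rk_injective : Function.Injective (rk : Idx m → ℕ) := by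
  intro x y h
  rcases x with x | x <;> rcases y with y | y
  · rw [rk_inl, rk_inl] at h
    exact congrArg Sum.inl (Fin.ext h)
  · rw [rk_inl, rk_inr] at h
    have := x.isLt; have := y.isLt; omega
  · rw [rk_inr, rk_inl] at h
    have := x.isLt; have := y.isLt; omega
  · rw [rk_inr, rk_inr] at h
    have := x.isLt; have := y.isLt
    exact congrArg Sum.inr (Fin.ext (by omega))

theorem rk_aI (k : Fin m) : rk (aI k) = k.val := rfl

theorem rk_bI (k : Fin m) : rk (bI k) = k.val + 1 := by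
  unfold bI
  split_ifs with h
  · rfl
  · rw [rk_inr]
    have := k.isLt
    omega

theorem rk_iota_aI (k : Fin m) : rk (iota (aI k)) = 2 * m - 1 - k.val := rfl

theorem eq_bI_iff (k : Fin m) (c : Idx m) : c = bI k ↔ rk c = k.val + 1 := by
  constructor
  · rintro rfl; exact rk_bI k
  · intro h; apply rk_injective; rw [h, rk_bI]

theorem eq_aI_iff (k : Fin m) (c : Idx m) : c = aI k ↔ rk c = k.val := by
  constructor
  · rintro rfl; exact rk_aI k
  · intro h; apply rk_injective; rw [h, rk_aI]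

theorem eq_iota_aI_iff (k : Fin m) (c : Idx m) : c = iota (aI k) ↔ rk c = 2 * m - 1 - k.val := by
  constructor
  · rintro rfl; exact rk_iota_aI k
  · intro h; apply rk_injective; rw [h, rk_iota_aI]

theorem rk_iota_bI (k : Fin m) : rk (iota (bI k)) = 2 * m - 2 - k.val := by
  unfold bI
  split_ifs with h
  · show rk (Sum.inr (⟨k.val + 1, h⟩ : Fin m) : Idx m) = _
    rw [rk_inr]
    show 2 * m - 1 - (k.val + 1) = _
    omega
  · show rk (Sum.inl k : Idx m) = _
    rw [rk_inl]
    have := k.isLt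
    omega

/-- `rkP` in terms of `rk` only -/
theorem rkP_eq (k : Fin m) (c : Idx m) :
    rkP k c = if rk c = k.val + 1 then k.val else
      if rk c = 2 * m - 1 - k.val then 2 * m - 2 - k.val else rk c := by
  unfold rkP
  simp only [eq_bI_iff, eq_iota_aI_iff, rk_aI, rk_iota_bI]

/-- entries of the inverse in the upper left block -/
theorem inv_apply_inl_inl (g : SpG m F) (x y : Fin m) :
    ((g⁻¹ : SpG m F) : Matrix (Idx m) (Idx m) F) (Sum.inl x) (Sum.inl y) =
      (g : Matrix (Idx m) (Idx m) F) (Sum.inr y) (Sum.inr x) := by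
  rw [SymplecticGroup.coe_inv]
  have h1 : ((g : Matrix (Idx m) (Idx m) F))ᵀ =
      fromBlocks ((g : Matrix (Idx m) (Idx m) F))ᵀ.toBlocks₁₁ ((g : Matrix (Idx m) (Idx m) F))ᵀ.toBlocks₁₂
        ((g : Matrix (Idx m) (Idx m) F))ᵀ.toBlocks₂₁ ((g : Matrix (Idx m) (Idx m) F))ᵀ.toBlocks₂₂ :=
    (fromBlocks_toBlocks _).symm
  rw [h1, Matrix.J, fromBlocks_neg, fromBlocks_multiply, fromBlocks_multiply]
  simp [toBlocks₂₂, Matrix.transpose_apply]

/-- **[R-L1]** -/
theorem mem_Bsp_of_mem_Psp {k : Fin m} {g : SpG m F} (hg : g ∈ Psp k)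
    (h0 : (g : Matrix (Idx m) (Idx m) F) (bI k) (aI k) = 0) : g ∈ Bsp m F := by
  classical
  have hkm := k.isLt
  have hab : aI k ≠ bI k := by
    intro h
    have := congrArg rk h
    rw [rk_aI, rk_bI] at this
    omega
  -- the inverse
  have hh : g⁻¹ ∈ Psp k := (Psp k).inv_mem hg
  rw [mem_Psp] at hg hh
  set G : Matrix (Idx m) (Idx m) F := (g : Matrix (Idx m) (Idx m) F) with hG
  set H : Matrix (Idx m) (Idx m) F := ((g⁻¹ : SpG m F) : Matrix (Idx m) (Idx m) F) with hH
  have hHG : H * G = 1 := by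
    have : ((g⁻¹ * g : SpG m F) : Matrix (Idx m) (Idx m) F) = 1 := by
      rw [inv_mul_cancel]; rfl
    exact this
  -- terms of the products `(H G)_{x a}` vanish outside the level `{a, b}`
  have hterm : ∀ x : Idx m, rkP k x = k.val → ∀ c : Idx m, c ≠ aI k ∧ c ≠ bI k → H x c * G c (aI k) = 0 := by
    intro x hx c hc
    by_cases h1 : rkP k c < rkP k x
    · rw [hh h1, zero_mul]
    by_cases h2 : rkP k (aI k) < rkP k c
    · rw [hg h2, mul_zero]
    exfalso
    have ha : rkP k (aI k) = k.val := by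
      rw [rkP_eq, rk_aI]
      have := k.isLt
      split_ifs <;> omega
    rw [hx] at h1
    rw [ha] at h2
    have hc1 : rk c ≠ k.val := fun h => hc.1 ((eq_aI_iff k c).mpr h)
    have hc2 : rk c ≠ k.val + 1 := fun h => hc.2 ((eq_bI_iff k c).mpr h)
    rw [rkP_eq] at h1 h2
    split_ifs at h1 h2 <;> omega
  have hPa : rkP k (aI k) = k.val := by
    rw [rkP_eq, rk_aI]
    split_ifs <;> omega
  have hPb : rkP k (bI k) = k.val := by
    rw [rkP_eq, rk_bI]
    split_ifs <;> omega
  have hsum : ∀ x : Idx m, rkP k x = k.val → (H * G) x (aI k) = H x (aI k) * G (aI k) (aI k) := by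
    intro x hx
    rw [Matrix.mul_apply, Finset.sum_eq_add (aI k) (bI k) hab
      (fun c _ hc => hterm x hx c hc)
      (fun h => absurd (Finset.mem_univ _) h) (fun h => absurd (Finset.mem_univ _) h), h0, mul_zero,
      add_zero]
  have haa : H (aI k) (aI k) * G (aI k) (aI k) = 1 := by
    rw [← hsum (aI k) hPa, hHG, Matrix.one_apply_eq]
  have hba : H (bI k) (aI k) * G (aI k) (aI k) = 0 := by
    rw [← hsum (bI k) hPb, hHG, Matrix.one_apply_ne hab.symm]
  have hGaa : G (aI k) (aI k) ≠ 0 := by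
    intro h
    rw [h, mul_zero] at haa
    exact zero_ne_one haa
  have hHba : H (bI k) (aI k) = 0 := by
    rcases mul_eq_zero.mp hba with h | h
    · exact h
    · exact absurd h hGaa
  -- now the block triangularity
  rw [mem_Bsp]
  intro i j hij
  by_cases hP : rkP k j < rkP k i
  · exact hg hP
  rw [rkP_eq, rkP_eq] at hP
  have hcases : (rk i = k.val + 1 ∧ rk j = k.val) ∨
      (k.val + 1 < m ∧ rk i = 2 * m - 1 - k.val ∧ rk j = 2 * m - 2 - k.val) := by
    split_ifs at hP <;> omega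
  rcases hcases with ⟨hi, hj⟩ | ⟨hs, hi, hj⟩
  · rw [(eq_bI_iff k i).mpr hi, (eq_aI_iff k j).mpr hj]
    exact h0
  · have hi' : i = Sum.inr k := by
      apply rk_injective; rw [hi, rk_inr]
    have hj' : j = Sum.inr (⟨k.val + 1, hs⟩ : Fin m) := by
      apply rk_injective; rw [hj, rk_inr]
      show 2 * m - 2 - k.val = 2 * m - 1 - (k.val + 1)
      omega
    rw [hi', hj']
    have hb' : bI k = Sum.inl (⟨k.val + 1, hs⟩ : Fin m) := by
      unfold bI; rw [dif_pos hs]
    have := inv_apply_inl_inl g (⟨k.val + 1, hs⟩ : Fin m) k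
    rw [← this]
    rw [hb'] at hHba
    exact hHba

end Cfsg.Agent.Lib.Helper55.SpBN
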